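import Mathlib
import Cfsg.Agent.S1350
import Cfsg.Agent.S1417
import Cfsg.Agent.Lib.Helper13.BG12B

/-!
# K-TX-12 (keystone 143012): `EL ≤ H`, `L ≠ H`, `1 ≠ P ≤ L_σ ⊓ H` ⟹ `τ₂(L) = ∅`
-/

set_option autoImplicit false
set_option linter.unusedSectionVars false

namespace Cfsg.Agent.Lib.Helper93.BG142

open Cfsg

variable {G : Type*} [Group G] [Finite G]

/-- KEYSTONE 143012  K-TX-12. -/
theorem tau2_empty_of_compl_le (hG : IsMinSimpleOddOrder G) {L H EL P : Subgroup G} (hL : IsCoatom L)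
    (hH : IsCoatom H) (hne : L ≠ H) (hEL : IsComplIn EL (sigmaCore L) L) (hELH : EL ≤ H)
    (hPL : P ≤ sigmaCore L) (hPH : P ≤ H) (hP1 : P ≠ ⊥) : ∀ u : ℕ, u ∉ tau2 L := by
  intro u hu
  have hup : u.Prime := hu.1
  have : Fact u.Prime := ⟨hup⟩
  have hHall : IsPiHallOf (sigma L) (sigmaCore L) L := (Cfsg.Agent.S1350.result hG L hL).1
  obtain ⟨A₂, hA2E, hA2el, hA2c⟩ :=
    Cfsg.Agent.Lib.Helper13.BG12.exists_elemAb_sq_le_compl hG hL hHall hu hEL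
  have hA2L : A₂ ≤ L := hA2E.trans hEL.1
  obtain ⟨-, -, -, -, he, -⟩ := Cfsg.Agent.S1417.result hG L hL u hu A₂ ⟨hA2L, hA2el, hA2c⟩
  have hbot : sigmaCore L ⊓ H = ⊥ := he H hH hne.symm (hA2E.trans hELH)
  apply hP1
  rw [eq_bot_iff, ← hbot]
  exact le_inf hPL hPH

end Cfsg.Agent.Lib.Helper93.BG142
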