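import Mathlib
import Cfsg.Prelude.Def_OddOrderLocal

/-!
# K-D3 (keystone 143029): `X ≤ E` normal in the complement `E` of `M_σ`: `N_M(X) = E · C_{M_σ}(X)`
-/

set_option autoImplicit false
set_option linter.unusedSectionVars false

namespace Cfsg.Agent.Lib.Helper93.BG142

open Cfsg

variable {G : Type*} [Group G] [Finite G]

/-- KEYSTONE 143029  K-D3. -/
theorem normalizer_inf_eq_of_normal {M E X : Subgroup G} (hE : IsComplIn E (sigmaCore M) M)
    (hMn : M ≤ Subgroup.normalizer (sigmaCore M : Set G)) (hXE : X ≤ E)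
    (hXn : E ≤ Subgroup.normalizer (X : Set G)) :
    M ⊓ Subgroup.normalizer (X : Set G) =
      E ⊔ (sigmaCore M ⊓ Subgroup.centralizer (X : Set G)) := by
  obtain ⟨hEM, hσM, hbot, hfac⟩ := hE
  apply le_antisymm
  · intro m hm
    obtain ⟨hmM, hmN⟩ := Subgroup.mem_inf.1 hm
    obtain ⟨e, he, a, ha, rfl⟩ := hfac m hmM
    have heN : e ∈ Subgroup.normalizer (X : Set G) := hXn he
    have haN : a ∈ Subgroup.normalizer (X : Set G) := by
      have := (Subgroup.normalizer (X : Set G)).mul_mem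
        ((Subgroup.normalizer (X : Set G)).inv_mem heN) hmN
      simpa using this
    refine Subgroup.mul_mem_sup he (Subgroup.mem_inf.2 ⟨ha, ?_⟩)
    rw [Subgroup.mem_centralizer_iff]
    intro x hx
    have hxM : x ∈ M := hEM (hXE hx)
    have h1 : a * x * a⁻¹ ∈ X := (Subgroup.mem_normalizer_iff.1 haN x).1 hx
    have h2 : a * x * a⁻¹ * x⁻¹ ∈ X := X.mul_mem h1 (X.inv_mem hx)
    have h3 : x * a⁻¹ * x⁻¹ ∈ sigmaCore M :=
      (Subgroup.mem_normalizer_iff.1 (hMn hxM) a⁻¹).1 ((sigmaCore M).inv_mem ha)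
    have h4 : a * x * a⁻¹ * x⁻¹ ∈ sigmaCore M := by
      have := (sigmaCore M).mul_mem ha h3
      simpa [mul_assoc] using this
    have h5 : a * x * a⁻¹ * x⁻¹ ∈ E ⊓ sigmaCore M := Subgroup.mem_inf.2 ⟨hXE h2, h4⟩
    rw [hbot, Subgroup.mem_bot] at h5
    have h6 : a * x = x * a := by
      have : a * x * a⁻¹ * x⁻¹ * (x * a) = 1 * (x * a) := by rw [h5]
      simpa [mul_assoc] using this
    exact h6.symm
  · refine sup_le (le_inf hEM hXn) (le_inf (inf_le_left.trans hσM) ?_)
    exact inf_le_right.trans (Subgroup.centralizer_le_normalizer _)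

end Cfsg.Agent.Lib.Helper93.BG142
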