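import Mathlib

/-!
# K-137N-J3 (keystone 137714): pure group theory, step (j) last line of BG 13.7 (nonabelian case)

`EL ≤ N(S₁)`, `EL' ≤ C(S₁)`, `P ≤ EL`: then `EL` normalizes `D = C_{S₁}(P)`.
-/

set_option autoImplicit false
set_option linter.unusedSectionVars false

namespace Cfsg.Agent.Lib.Helper93.BG137

variable {G : Type*} [Group G] [Finite G]

omit [Finite G] in
theorem j3_conj_mem {S₁ EL P : Subgroup G} (hPEL : P ≤ EL)
    (hELS : EL ≤ Subgroup.normalizer (S₁ : Set G))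
    (hder : ⁅EL, EL⁆ ≤ Subgroup.centralizer (S₁ : Set G)) {e d : G} (he : e ∈ EL)
    (hd : d ∈ S₁ ⊓ Subgroup.centralizer (P : Set G)) :
    e * d * e⁻¹ ∈ S₁ ⊓ Subgroup.centralizer (P : Set G) := by
  obtain ⟨hd1, hd2⟩ := Subgroup.mem_inf.1 hd
  refine Subgroup.mem_inf.2 ⟨(Subgroup.mem_normalizer_iff.1 (hELS he) d).1 hd1, ?_⟩
  rw [Subgroup.mem_centralizer_iff]
  intro x hx
  have hxd : x * d = d * x := (Subgroup.mem_centralizer_iff.1 hd2) x hx
  have hc : x⁻¹ * e⁻¹ * x * e ∈ ⁅EL, EL⁆ := by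
    have := Subgroup.commutator_mem_commutator (EL.inv_mem (hPEL hx)) (EL.inv_mem he)
    simpa [commutatorElement_def] using this
  have hcd : d * (x⁻¹ * e⁻¹ * x * e) = (x⁻¹ * e⁻¹ * x * e) * d :=
    (Subgroup.mem_centralizer_iff.1 (hder hc)) d hd1
  have hy : (x * (x⁻¹ * e⁻¹ * x * e)) * d = d * (x * (x⁻¹ * e⁻¹ * x * e)) := by
    rw [mul_assoc x, ← hcd, ← mul_assoc x d, hxd, mul_assoc d x]
  calc x * (e * d * e⁻¹) = e * ((x * (x⁻¹ * e⁻¹ * x * e)) * d) * e⁻¹ := by group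
    _ = e * (d * (x * (x⁻¹ * e⁻¹ * x * e))) * e⁻¹ := by rw [hy]
    _ = e * d * e⁻¹ * x := by group

/-- KEYSTONE 137714  K-137N-J3. -/
theorem le_normalizer_inf_centralizer {S₁ EL P : Subgroup G} (hPEL : P ≤ EL)
    (hELS : EL ≤ Subgroup.normalizer (S₁ : Set G)) (hder : ⁅EL, EL⁆ ≤ Subgroup.centralizer (S₁ : Set G)) :
    EL ≤ Subgroup.normalizer ((S₁ ⊓ Subgroup.centralizer (P : Set G) : Subgroup G) : Set G) := by
  intro e he
  rw [Subgroup.mem_normalizer_iff]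
  intro d
  constructor
  · intro hd
    exact j3_conj_mem hPEL hELS hder he hd
  · intro hd
    have := j3_conj_mem hPEL hELS hder (EL.inv_mem he) hd
    simpa [mul_assoc] using this

end Cfsg.Agent.Lib.Helper93.BG137
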