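import Mathlib
import Cfsg.Agent.Lib.Helper31.BG137Defs
import Cfsg.Agent.Lib.Helper16.BG134Base

/-!
# K-137N-L (keystone 137716): step (l) of BG 13.7 (nonabelian case): `τ₂(L) = ∅`
-/

set_option autoImplicit false
set_option linter.unusedSectionVars false

namespace Cfsg.Agent.Lib.Helper93.BG137

open Cfsg Cfsg.Agent.Lib.Helper55 Cfsg.Agent.Lib.Helper31.BG137 Cfsg.Agent.Lib.Helper15.BG139

variable {G : Type*} [Group G] [Finite G]

/-- KEYSTONE 137716  K-137N-L  (step (l)).  `τ₂(L) = ∅`. -/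
theorem SCfg.tau2_empty {M E P A L S₁ EL : Subgroup G} {p q : ℕ} (s : SCfg M E P A L S₁ EL p q)
    (hτ2 : tau2 M = {q}) (hELE : EL ≤ E) : ∀ u : ℕ, u ∉ tau2 L := by
  intro u hu
  have hG := s.l.c.hG
  have hM := s.l.c.hM
  have hL := s.l.hL
  have hup : u.Prime := hu.1
  have hHallL : IsPiHallOf (sigma L) (sigmaCore L) L :=
    Cfsg.Agent.Lib.Helper16.BG134.hall_sigma hG hL
  have hHallM : IsPiHallOf (sigma M) (sigmaCore M) M :=
    Cfsg.Agent.Lib.Helper16.BG134.hall_sigma hG hM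
  obtain ⟨B, hBEL, hBel, hBc⟩ :=
    Cfsg.Agent.Lib.Helper13.BG12.exists_elemAb_sq_le_compl hG hL hHallL hu s.hEL
  have hBE : B ≤ E := hBEL.trans hELE
  have hBM : B ≤ M := hBE.trans s.l.c.hE.1
  have huE : u ∣ Nat.card E := by
    have h1 : Nat.card B ∣ Nat.card E := Subgroup.card_dvd_of_le hBE
    rw [hBc] at h1
    exact (dvd_pow_self u two_ne_zero).trans h1
  have huσ : u ∉ sigma M :=
    Cfsg.Agent.Lib.Helper13.BG12.complIn_prime_not_mem_sigma hHallM s.l.c.hE u hup huE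
  have hr1 : ¬ PRankLE u 1 ↥M := by
    apply (not_pRankLE_sub_iff (p := u) (k := 1) (R := M)).2
    refine ⟨B, hBM, ?_, hBel.2, ?_⟩
    · intro a ha b hb
      have := hBel.1.is_comm.comm ⟨a, ha⟩ ⟨b, hb⟩
      exact congrArg Subtype.val this
    · rw [hBc, pow_one]
      have h1 := hup.one_lt
      nlinarith
  have hr2 : PRankLE u 2 ↥M := by
    by_contra hcon
    exact huσ (Cfsg.Agent.Lib.Helper13.BG12.mem_sigma_of_not_pRankLE_two hG hM hup hcon)
  have huM : u ∈ tau2 M := ⟨hup, huσ, hr2, hr1⟩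
  rw [hτ2] at huM
  have huq : u = q := huM
  rw [huq] at hu
  exact hu.2.1 s.l.hqL

end Cfsg.Agent.Lib.Helper93.BG137
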