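import Mathlib
import Cfsg.Agent.Lib.Helper11.BG14DDefs
import Cfsg.Agent.Lib.Helper16.BG134Base
import Cfsg.Agent.Lib.Helper01.Coprime

/-!
# K-1370-S2 (keystone 137003): `UFacts M K U`, the formal consequences of `IsSigmaDecomposition`
-/

set_option autoImplicit false
set_option linter.unusedSectionVars false

namespace Cfsg.Agent.Lib.Helper93.BG14D

open Cfsg Subgroup Cfsg.Agent.Lib.Helper11.BG14D

theorem s2_le_normalizer_sup {G : Type*} [Group G] {K A B : Subgroup G}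
    (hA : K ≤ normalizer (A : Set G)) (hB : K ≤ normalizer (B : Set G)) :
    K ≤ normalizer ((A ⊔ B : Subgroup G) : Set G) := by
  intro g hg
  have h1 := mem_normalizer_iff_map_conj_eq.1 (hA hg)
  have h2 := mem_normalizer_iff_map_conj_eq.1 (hB hg)
  rw [mem_normalizer_iff_map_conj_eq, Subgroup.map_sup, h1, h2]

variable {G : Type*} [Group G] [Finite G]

/-- K-1370-S2 (137003). -/
theorem uFacts (hG : IsMinSimpleOddOrder G) (M : Subgroup G) (hM : IsCoatom M) (K U : Subgroup G)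
    (hKU : IsSigmaDecomposition M K U) : UFacts M K U := by
  obtain ⟨hUM, hKσM, hbot, hfac⟩ := hKU.compl
  have hKM : K ≤ M := hKU.hall.1
  have hσM : sigmaCore M ≤ M := le_sup_right.trans hKσM
  have hMn : M ≤ normalizer (sigmaCore M : Set G) :=
    Cfsg.Agent.Lib.Helper31.le_normalizer_piCoreOf (sigma M) M
  have hle : U ⊔ sigmaCore M ≤ M := sup_le hUM hσM
  -- `K ⊓ M_σ = ⊥`
  have hKσ : K ⊓ sigmaCore M = ⊥ := by
    have hcop : (Nat.card K).Coprime (Nat.card (sigmaCore M)) := by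
      apply Cfsg.Agent.Lib.Helper13.BG12.coprime_of_primes_disjoint (π := sigma M)
      · intro p hp hpd
        exact (hKU.hall.2.1 p hp hpd).2.2.1
      · intro p hp hpd
        exact Cfsg.Agent.Lib.Helper71.BG11.sigmaCore_pi hG hM hp hpd
    exact (Subgroup.disjoint_of_coprime_natCard hcop).eq_bot
  -- `K` normalizes `U ⊔ M_σ`
  have hKn : K ≤ normalizer ((U ⊔ sigmaCore M : Subgroup G) : Set G) :=
    s2_le_normalizer_sup hKU.normal (hKM.trans hMn)
  have hMle : M ≤ K ⊔ (U ⊔ sigmaCore M) := by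
    intro m hm
    obtain ⟨a, ha, b, hb, rfl⟩ := hfac m hm
    refine (K ⊔ (U ⊔ sigmaCore M)).mul_mem ?_ ?_
    · exact (le_sup_left.trans le_sup_right : U ≤ K ⊔ (U ⊔ sigmaCore M)) ha
    · exact (sup_le le_sup_left (le_sup_right.trans le_sup_right) :
        K ⊔ sigmaCore M ≤ K ⊔ (U ⊔ sigmaCore M)) hb
  refine ⟨?_, hle, ?_, ?_⟩
  · exact hMle.trans (sup_le hKn le_normalizer)
  · rw [eq_bot_iff]
    intro x hx
    obtain ⟨hxK, hxT⟩ := Subgroup.mem_inf.1 hx
    obtain ⟨u, hu, s, hs, rfl⟩ :=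
      Cfsg.Agent.Lib.Helper01.exists_mul_of_mem_sup (hUM.trans hMn) hxT
    have hu' : u ∈ U ⊓ (K ⊔ sigmaCore M) := by
      refine Subgroup.mem_inf.2 ⟨hu, ?_⟩
      have : u = (u * s) * s⁻¹ := by group
      rw [this]
      exact (K ⊔ sigmaCore M).mul_mem (le_sup_left (a := K) hxK)
        ((K ⊔ sigmaCore M).inv_mem (le_sup_right (a := K) hs))
    rw [hbot, Subgroup.mem_bot] at hu'
    rw [hu', one_mul] at hxK ⊢
    have : s ∈ K ⊓ sigmaCore M := Subgroup.mem_inf.2 ⟨hxK, hs⟩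
    rwa [hKσ] at this
  · intro m hm
    exact Cfsg.Agent.Lib.Helper01.exists_mul_of_mem_sup hKn (hMle hm)

end Cfsg.Agent.Lib.Helper93.BG14D
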