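import Mathlib
import Cfsg.Prelude.Def_GeometricClasses
import Cfsg.Agent.Lib.Helper61.AschDefs
import Cfsg.Agent.Lib.Helper43.SpAschDefs
import Cfsg.Agent.Lib.Helper43.SpAschDefs2
import Cfsg.Agent.Lib.Helper63.AschB6

/-!
# K-SpAsch-S4d1 : the tensor factors of a similarity are similarities of the Gram factors
-/

set_option autoImplicit false

namespace Cfsg.Agent.Lib.Helper93.SpAsch

open Cfsg Cfsg.Geo Cfsg.Agent.Lib.Helper61.Asch Cfsg.Agent.Lib.Helper43.SpAsch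
open scoped Matrix Kronecker MatrixGroups

variable {F : Type*} [Field F]

/-- `formOfGram id M x y = x ⬝ᵥ M *ᵥ y` -/
theorem formOfGram_id_eq {κ : Type} [Fintype κ] (M : Matrix κ κ F) (x y : κ → F) :
    formOfGram id M x y = x ⬝ᵥ (M *ᵥ y) := by
  unfold formOfGram
  simp only [dotProduct, Matrix.mulVec, id, Finset.mul_sum, mul_assoc]

/-- two matrices defining the same bilinear form are equal -/
theorem matrix_eq_of_form {κ : Type} [Fintype κ] [DecidableEq κ] (A B : Matrix κ κ F)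
    (h : ∀ x y : κ → F, x ⬝ᵥ (A *ᵥ y) = x ⬝ᵥ (B *ᵥ y)) : A = B := by
  ext i j
  have := h (Pi.single i 1) (Pi.single j 1)
  simpa using this

/-- a similarity of the form with Gram matrix `M` satisfies `gᵀ M g = c M` -/
theorem transpose_mul_mul_of_form {κ : Type} [Fintype κ] [DecidableEq κ] (M g : Matrix κ κ F) (c : F)
    (h : ∀ x y : κ → F, formOfGram id M (g *ᵥ x) (g *ᵥ y) = c * formOfGram id M x y) :
    gᵀ * M * g = c • M := by
  apply matrix_eq_of_form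
  intro x y
  have := h x y
  rw [formOfGram_id_eq, formOfGram_id_eq] at this
  calc x ⬝ᵥ ((gᵀ * M * g) *ᵥ y) = (g *ᵥ x) ⬝ᵥ (M *ᵥ (g *ᵥ y)) := by
        rw [← Matrix.mulVec_mulVec, ← Matrix.mulVec_mulVec, Matrix.dotProduct_mulVec,
          Matrix.vecMul_transpose]
    _ = c * (x ⬝ᵥ (M *ᵥ y)) := this
    _ = x ⬝ᵥ ((c • M) *ᵥ y) := by
        rw [Matrix.smul_mulVec, dotProduct_smul, smul_eq_mul]

/-- from `A ⊗ B = c (G₁ ⊗ G₂)` with `c ≠ 0` and `G₁, G₂ ≠ 0`: both factors are proportional -/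
theorem prop_of_kronecker_eq {a b : Type} (A G₁ : Matrix a a F) (B G₂ : Matrix b b F) (c : F) (hc : c ≠ 0)
    (h : ∀ i i' j j', A i i' * B j j' = c * (G₁ i i' * G₂ j j'))
    (h₁ : ∃ i i', G₁ i i' ≠ 0) (h₂ : ∃ j j', G₂ j j' ≠ 0) :
    (∃ c₁ : F, A = c₁ • G₁) ∧ ∃ c₂ : F, B = c₂ • G₂ := by
  obtain ⟨i₀, i₀', hi₀⟩ := h₁
  obtain ⟨j₀, j₀', hj₀⟩ := h₂
  have h0 := h i₀ i₀' j₀ j₀'
  have hne : A i₀ i₀' * B j₀ j₀' ≠ 0 := by
    rw [h0]
    exact mul_ne_zero hc (mul_ne_zero hi₀ hj₀)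
  have hA0 : A i₀ i₀' ≠ 0 := left_ne_zero_of_mul hne
  have hB0 : B j₀ j₀' ≠ 0 := right_ne_zero_of_mul hne
  constructor
  · refine ⟨c * G₂ j₀ j₀' / B j₀ j₀', ?_⟩
    ext i i'
    have := h i i' j₀ j₀'
    rw [Matrix.smul_apply, smul_eq_mul]
    field_simp
    rw [this]; ring
  · refine ⟨c * G₁ i₀ i₀' / A i₀ i₀', ?_⟩
    ext j j'
    have := h i₀ i₀' j j'
    rw [Matrix.smul_apply, smul_eq_mul]
    field_simp
    rw [mul_comm, this]; ring

theorem exists_ne_zero_of_isUnit {κ : Type} [Fintype κ] [DecidableEq κ] [Nonempty κ] (G : Matrix κ κ F)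
    (hG : IsUnit G) : ∃ i i', G i i' ≠ 0 := by
  by_contra h
  push Not at h
  have : G = 0 := by
    ext i i'
    exact h i i'
  exact hG.ne_zero this

variable [Fintype F] {n : ℕ}

local notation "V" => (Fin n → F)
local notation "Mat" => Matrix (Fin n) (Fin n) F

/-- **K-SpAsch-S4d1**. -/
theorem kronSim_of_mem {f : V → V → F} (hf : IsSymplecticForm f) (a b : ℕ) (e : Fin n ≃ Fin a × Fin b)
    (P : GL (Fin n) F) (G₁ : Matrix (Fin a) (Fin a) F) (G₂ : Matrix (Fin b) (Fin b) F) (hG₁ : IsUnit G₁)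
    (hG₂ : IsUnit G₂) (hform : IsKronForm f a b e P G₁ G₂) (k : GL (Fin n) F) (hkΔ : k ∈ similarityGroup f)
    (hk : k ∈ tensorProductSubgroup a b e P) : KronSim a b e P G₁ G₂ k := by
  obtain ⟨g, ⟨k₁, k₂, hg⟩, hkg⟩ :=
    (Cfsg.Agent.Lib.Helper63.Asch.mem_tensorProductSubgroup e P k).mp hk
  obtain ⟨c, hc⟩ := hkΔ
  rcases Nat.eq_zero_or_pos a with ha | ha
  · subst ha
    refine ⟨1, 1, g, 1, 1, Subsingleton.elim _ _, hkg, Subsingleton.elim _ _, ?_⟩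
    simp
  rcases Nat.eq_zero_or_pos b with hb | hb
  · subst hb
    refine ⟨1, 1, g, 1, 1, Subsingleton.elim _ _, hkg, ?_, Subsingleton.elim _ _⟩
    simp
  have : Nonempty (Fin a) := ⟨⟨0, ha⟩⟩
  have : Nonempty (Fin b) := ⟨⟨0, hb⟩⟩
  -- the action of `k` in coordinates
  have hact : ∀ x : Fin a × Fin b → F,
      (k : Mat) *ᵥ ((P : Mat) *ᵥ (x ∘ e)) =
        (P : Mat) *ᵥ (((g : Matrix (Fin a × Fin b) (Fin a × Fin b) F) *ᵥ x) ∘ e) := by
    intro x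
    have h1 : (k : Mat) * (P : Mat) = (P : Mat) * ((glReindex e.symm g : GL (Fin n) F) : Mat) := by
      rw [hkg, ← Units.val_mul, ← Units.val_mul]
      congr 1
      group
    rw [Matrix.mulVec_mulVec, h1, ← Matrix.mulVec_mulVec]
    congr 1
    rw [Cfsg.Agent.Lib.Helper63.Asch.coe_glReindex]
    have : e.symm.symm = e := rfl
    rw [this, Matrix.submatrix_mulVec_equiv]
    congr 2
    ext p
    simp
  have hsim : ∀ x y : Fin a × Fin b → F,
      formOfGram id (G₁ ⊗ₖ G₂) ((g : Matrix (Fin a × Fin b) (Fin a × Fin b) F) *ᵥ x)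
        ((g : Matrix (Fin a × Fin b) (Fin a × Fin b) F) *ᵥ y) =
      (c : F) * formOfGram id (G₁ ⊗ₖ G₂) x y := by
    intro x y
    rw [← hform, ← hform, ← hact, ← hact, hc]
  have hmat := transpose_mul_mul_of_form (G₁ ⊗ₖ G₂)
    (g : Matrix (Fin a × Fin b) (Fin a × Fin b) F) (c : F) hsim
  rw [hg] at hmat
  have hkron : ((k₁ : Matrix (Fin a) (Fin a) F)ᵀ * G₁ * (k₁ : Matrix (Fin a) (Fin a) F)) ⊗ₖ
      ((k₂ : Matrix (Fin b) (Fin b) F)ᵀ * G₂ * (k₂ : Matrix (Fin b) (Fin b) F)) =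
      (c : F) • (G₁ ⊗ₖ G₂) := by
    rw [← hmat, Matrix.mul_kronecker_mul, Matrix.mul_kronecker_mul]
    congr 2
  have hentry : ∀ i i' j j',
      ((k₁ : Matrix (Fin a) (Fin a) F)ᵀ * G₁ * (k₁ : Matrix (Fin a) (Fin a) F)) i i' *
        ((k₂ : Matrix (Fin b) (Fin b) F)ᵀ * G₂ * (k₂ : Matrix (Fin b) (Fin b) F)) j j' =
      (c : F) * (G₁ i i' * G₂ j j') := by
    intro i i' j j'
    have := congrFun (congrFun hkron (i, j)) (i', j')
    simpa [Matrix.kroneckerMap_apply] using this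
  obtain ⟨⟨c₁, h₁⟩, ⟨c₂, h₂⟩⟩ := prop_of_kronecker_eq _ G₁ _ G₂ (c : F) c.ne_zero hentry
    (exists_ne_zero_of_isUnit G₁ hG₁) (exists_ne_zero_of_isUnit G₂ hG₂)
  exact ⟨k₁, k₂, g, c₁, c₂, hg, hkg, h₁, h₂⟩

end Cfsg.Agent.Lib.Helper93.SpAsch
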