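import Mathlib
import Cfsg.Prelude.Def_Local
import Cfsg.Agent.Lib.Helper12.GLDefs
import Cfsg.Agent.Lib.Helper01.PCore
import Cfsg.Agent.Lib.Helper15.PSolv
import Cfsg.Agent.Lib.Helper15.SylowNormal

/-!
# K-S1301-GL-2b : Glauberman's automorphism theorem, the case `O₂(X)` not central

`gl_noncentral_of` takes the statement of K-S1301-GL-2a (`exists_conj_of_fix`) as a hypothesis.
-/

set_option autoImplicit false

universe u

namespace Cfsg.Agent.Lib.Helper93.GL

open Cfsg.Agent.Lib.Helper12.GL

variable {X : Type u} [Group X]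

/-- an automorphism fixing `P` pointwise stabilizes the centralizer of `P` -/
theorem mem_stab_centralizer (P : Subgroup X) (a : MulAut X) (ha : ∀ q ∈ P, a q = q) :
    a ∈ stab (Subgroup.centralizer (P : Set X)) := by
  have key : ∀ a : MulAut X, (∀ q ∈ P, a q = q) → ∀ y, y ∈ Subgroup.centralizer (P : Set X) →
      a y ∈ Subgroup.centralizer (P : Set X) := by
    intro a ha y hy
    rw [Subgroup.mem_centralizer_iff] at hy ⊢
    intro q hq
    have h1 := hy q hq
    calc q * a y = a q * a y := by rw [ha q hq]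
      _ = a (q * y) := (map_mul a q y).symm
      _ = a (y * q) := by rw [h1]
      _ = a y * a q := map_mul a y q
      _ = a y * q := by rw [ha q hq]
  rw [mem_stab]
  intro y
  constructor
  · intro h
    have ha' : ∀ q ∈ P, a⁻¹ q = q := by
      intro q hq
      have := ha q hq
      calc a⁻¹ q = a⁻¹ (a q) := by rw [this]
        _ = q := MulAut.inv_apply_self _ a q
    have := key a⁻¹ ha' (a y) h
    rwa [MulAut.inv_apply_self] at this
  · exact key a ha y

/-- the statement of K-S1301-GL-2a for `X` -/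
def Stmt2a (X : Type u) [Group X] [Finite X] : Prop :=
  Cfsg.pPrimeCore 2 X = ⊥ → ∀ (S : Sylow 2 X) (r : MulAut X),
    (∀ s ∈ S, r s = s) →
    (∀ c ∈ Subgroup.centralizer ((Cfsg.pCore 2 X : Subgroup X) : Set X), r c = c) →
    ∃ z ∈ (S : Subgroup X), ∀ y : X, r y = z * y * z⁻¹

/-- K-S1301-GL-2b, with K-S1301-GL-2a as a hypothesis -/
theorem gl_noncentral_of (X : Type u) [Group X] [Finite X] (h2a : Stmt2a X) (hIH : GLBelow X)
    (hO : Cfsg.pPrimeCore 2 X = ⊥)
    (hP : ¬ Cfsg.pCore 2 X ≤ Subgroup.center X) : GLStmt X := by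
  intro S R b hSP r hr x
  set P : Subgroup X := Cfsg.pCore 2 X with hPdef
  have hPn : P.Normal := Cfsg.Agent.Lib.Helper01.pCore_normal 2
  have hPS : P ≤ (S : Subgroup X) := Cfsg.Agent.Lib.Helper01.pCore_le_sylow S
  set C : Subgroup X := Subgroup.centralizer (P : Set X) with hCdef
  have hCn : C.Normal := Subgroup.normal_centralizer
  have hCtop : C ≠ ⊤ := by
    intro h
    apply hP
    intro q hq
    rw [Subgroup.mem_center_iff]
    intro g
    have hg : g ∈ C := h ▸ Subgroup.mem_top g
    rw [hCdef, Subgroup.mem_centralizer_iff] at hg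
    exact (hg q hq).symm
  have hcard : Nat.card C < Nat.card X := by
    have h1 : Nat.card C ≤ Nat.card X := Subgroup.card_le_card_group C
    rcases lt_or_eq_of_le h1 with h | h
    · exact h
    · exact absurd (Subgroup.card_eq_iff_eq_top C |>.mp h) hCtop
  -- every element of `R` and `b` stabilize `C`
  have hfixP : ∀ a : MulAut X, (∀ s ∈ S, a s = s) → a ∈ stab C := fun a ha =>
    mem_stab_centralizer P a (fun q hq => ha q (hPS hq))
  have hRA : R ≤ stab C := fun a ha => hfixP a (hSP.fixR a ha)
  have hbA : b ∈ stab C := hfixP b hSP.fixb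
  have hzbA : Subgroup.zpowers b ≤ stab C := Subgroup.zpowers_le.mpr hbA
  set R' : Subgroup (stab C) := R.subgroupOf (stab C) with hR'
  set b' : stab C := ⟨b, hbA⟩ with hb'
  set RC : Subgroup (MulAut C) := R'.map (restr C) with hRC
  set bC : MulAut C := restr C b' with hbC
  obtain ⟨SC, hSC⟩ := Cfsg.Agent.Lib.Helper15.sylow_inf_normal S C
  have hmemSC : ∀ s : C, s ∈ SC → (s : X) ∈ S := by
    intro s hs
    have : (s : X) ∈ (SC : Subgroup C).map C.subtype := ⟨s, hs, rfl⟩
    rw [hSC] at this
    exact this.1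
  -- `R'` and `b'` still form a pair
  have hmapR' : R'.map (stab C).subtype = R := Subgroup.map_subgroupOf_eq_of_le hRA
  have hmapb' : (Subgroup.zpowers b').map (stab C).subtype = Subgroup.zpowers b := by
    rw [MonoidHom.map_zpowers]; rfl
  have hcomm' : ⁅R', Subgroup.zpowers b'⁆ = R' := by
    apply Subgroup.map_injective (stab C).subtype_injective
    rw [Subgroup.map_commutator, hmapR', hmapb', hSP.comm]
  have hSPC : SPair SC RC bC := by
    refine ⟨?_, ?_, ?_, ?_, ?_, ?_⟩
    · exact (hSP.isP.comap_subtype).map _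
    · have h1 : orderOf bC ∣ orderOf b' := orderOf_map_dvd _ _
      have h2 : orderOf b' = orderOf b := Subgroup.orderOf_mk b hbA
      rw [h2] at h1
      exact Odd.of_dvd_nat hSP.odd h1
    · have h1 : b' ∈ Subgroup.normalizer (R' : Set (stab C)) := by
        have := Subgroup.le_normalizer_comap (H := R) (stab C).subtype
        exact this hSP.norm
      have h2 := Subgroup.le_normalizer_map (H := R') (restr C)
      exact h2 ⟨b', h1, rfl⟩
    · have h1 : Subgroup.zpowers bC = (Subgroup.zpowers b').map (restr C) := by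
        rw [MonoidHom.map_zpowers]
      rw [h1, hRC, ← Subgroup.map_commutator, hcomm']
    · rintro φ ⟨a, ha, rfl⟩ s hs
      apply Subtype.ext
      rw [restr_apply]
      exact hSP.fixR a ha (s : X) (hmemSC s hs)
    · intro s hs
      apply Subtype.ext
      rw [hbC, restr_apply]
      exact hSP.fixb (s : X) (hmemSC s hs)
  have hOC : Cfsg.pPrimeCore 2 C = ⊥ := Cfsg.Agent.Lib.Helper15.pPrimeCore_eq_bot_of_normal 2 C hO
  have hGLC : GLStmt C := hIH C hcard
  -- every element of `R` fixes `C` pointwise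
  have hfixC : ∀ a ∈ R, ∀ c ∈ C, a c = c := by
    intro a ha c hc
    have hmem : restr C ⟨a, hRA ha⟩ ∈ RC := ⟨⟨a, hRA ha⟩, ha, rfl⟩
    have h1 := hGLC SC RC bC hSPC _ hmem ⟨c, hc⟩
    rw [hOC, Subgroup.mem_bot] at h1
    have h2 : (restr C ⟨a, hRA ha⟩) ⟨c, hc⟩ = ⟨c, hc⟩ := by
      have := congrArg (fun t => (⟨c, hc⟩ : C) * t) h1
      simpa using this
    have h3 := congrArg Subtype.val h2
    simpa using h3
  -- so each `a ∈ R` is conjugation by an element of `S`, and commutes with `b`
  have hcommb : ∀ a ∈ R, b * a = a * b := by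
    intro a ha
    obtain ⟨z, hzS, hz⟩ := h2a hO S a (hSP.fixR a ha) (hfixC a ha)
    apply MulEquiv.ext
    intro y
    show b (a y) = a (b y)
    rw [hz y, hz (b y), map_mul, map_mul, map_inv, hSP.fixb z hzS]
  have hR1 : R = ⊥ := by
    rw [← hSP.comm, Subgroup.commutator_eq_bot_iff_le_centralizer]
    rw [Subgroup.le_centralizer_iff]
    apply Subgroup.zpowers_le.mpr
    rw [Subgroup.mem_centralizer_iff]
    intro a ha
    exact (hcommb a ha).symm
  rw [hR1, Subgroup.mem_bot] at hr
  subst hr
  simp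

end Cfsg.Agent.Lib.Helper93.GL
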