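import Mathlib
import Cfsg.Prelude.Def_Local
import Cfsg.Agent.Lib.Helper12.GLDefs
import Cfsg.Agent.Lib.Helper48.GL2a
import Cfsg.Agent.Lib.Helper93.GL2b

/-!
# K-S1301-GL-2b : `gl_noncentral` (exact signature), from `gl_noncentral_of` and helper48's K-S1301-GL-2a
-/

set_option autoImplicit false

universe u

namespace Cfsg.Agent.Lib.Helper93.GL

open Cfsg.Agent.Lib.Helper12.GL

/-- K-S1301-GL-2b. -/
theorem gl_noncentral (X : Type u) [Group X] [Finite X] (hIH : GLBelow X)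
    (hO : Cfsg.pPrimeCore 2 X = ⊥)
    (hP : ¬ Cfsg.pCore 2 X ≤ Subgroup.center X) : GLStmt X :=
  gl_noncentral_of X
    (fun hO S r h1 h2 => Cfsg.Agent.Lib.Helper48.GL.exists_conj_of_fix X hO S r h1 h2) hIH hO hP

end Cfsg.Agent.Lib.Helper93.GL
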