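import Cfsg.Agent.Lib.Helper21.KRDefs

/-!
# KR-F1: pivot and chain basics for the Knörr–Robinson alternating sum (S4651)
-/

set_option autoImplicit false
set_option linter.style.haveILetI false
set_option linter.unusedSectionVars false
open Cfsg

namespace Cfsg.Agent.Lib.Helper93.KR

open Cfsg.Agent.Lib.Helper21.KR

universe u

section Chain

variable {G : Type u} [Group G] [Finite G] {p : ℕ} [Fact p.Prime] {x : G}
  {s : Finset (Subgroup G)}

/-! ### auxiliary lemmas -/

theorem mem_normalizer_of_conj {g : G} {R : Subgroup G}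
    (h1 : ∀ r ∈ R, g * r * g⁻¹ ∈ R) (h2 : ∀ r ∈ R, g⁻¹ * r * g ∈ R) :
    g ∈ Subgroup.normalizer ((R : Subgroup G) : Set G) := by
  rw [Subgroup.mem_normalizer_iff]
  intro r
  constructor
  · exact h1 r
  · intro h
    have := h2 _ h
    simpa [mul_assoc] using this

theorem mem_normalizer_sup_aux {g : G} {A B : Subgroup G}
    (hA : g ∈ Subgroup.normalizer ((A : Subgroup G) : Set G))
    (hB : g ∈ Subgroup.normalizer ((B : Subgroup G) : Set G)) :
    g ∈ Subgroup.normalizer ((A ⊔ B : Subgroup G) : Set G) := by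
  rw [Subgroup.mem_normalizer_iff_map_conj_eq] at *
  rw [Subgroup.map_sup, hA, hB]

theorem mem_normalizer_finset_sup {g : G} (t : Finset (Subgroup G))
    (h : ∀ Q ∈ t, g ∈ Subgroup.normalizer ((Q : Subgroup G) : Set G)) :
    g ∈ Subgroup.normalizer ((t.sup id : Subgroup G) : Set G) := by
  classical
  induction t using Finset.induction_on with
  | empty =>
    rw [Subgroup.mem_normalizer_iff_map_conj_eq]
    simp
  | insert a t ha ih =>
    rw [Finset.sup_insert]
    exact mem_normalizer_sup_aux (h a (Finset.mem_insert_self a t))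
      (ih fun Q hQ => h Q (Finset.mem_insert_of_mem hQ))

/-- conjugation by an element normalizing `T`, `L` and centralizing `x` preserves the pivot -/
theorem conj_mem_pivot {T L : Subgroup G} {x g : G}
    (hT : g ∈ Subgroup.normalizer ((T : Subgroup G) : Set G))
    (hL : g ∈ Subgroup.normalizer ((L : Subgroup G) : Set G)) (hgx : g * x = x * g)
    {h : G} (hh : h ∈ pivot T L x) : g * h * g⁻¹ ∈ pivot T L x := by
  unfold pivot at hh ⊢
  rw [Subgroup.mem_sInf] at hh ⊢
  intro R hR
  obtain ⟨hLR, hxR, hTR⟩ := hR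
  have key : h ∈ R.comap (MulAut.conj g).toMonoidHom := by
    apply hh
    refine ⟨?_, ?_, ?_⟩
    · intro l hl
      rw [Subgroup.mem_comap]
      show g * l * g⁻¹ ∈ R
      exact hLR (((Subgroup.mem_normalizer_iff).mp hL l).mp hl)
    · rw [Subgroup.mem_comap]
      show g * x * g⁻¹ ∈ R
      rw [hgx, mul_inv_cancel_right]
      exact hxR
    · intro t ht
      have ht' : g * t * g⁻¹ ∈ T := ((Subgroup.mem_normalizer_iff).mp hT t).mp ht
      have hn := (Subgroup.mem_normalizer_iff).mp (hTR ht')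
      rw [Subgroup.mem_normalizer_iff]
      intro y
      rw [Subgroup.mem_comap, Subgroup.mem_comap]
      show g * y * g⁻¹ ∈ R ↔ g * (t * y * t⁻¹) * g⁻¹ ∈ R
      rw [hn (g * y * g⁻¹)]
      have : g * t * g⁻¹ * (g * y * g⁻¹) * (g * t * g⁻¹)⁻¹ = g * (t * y * t⁻¹) * g⁻¹ := by group
      rw [this]
  exact key

/-! ### KR-F1 -/

theorem le_pivot (T L : Subgroup G) (x : G) : L ≤ pivot T L x := by
  unfold pivot
  exact le_sInf (fun R hR => hR.1)

theorem mem_pivot (T L : Subgroup G) (x : G) : x ∈ pivot T L x := by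
  unfold pivot
  rw [Subgroup.mem_sInf]
  exact fun R hR => hR.2.1

theorem le_normalizer_pivot (T L : Subgroup G) (x : G) :
    T ≤ Subgroup.normalizer ((pivot T L x : Subgroup G) : Set G) := by
  intro t ht
  have aux : ∀ t ∈ T, ∀ r ∈ pivot T L x, t * r * t⁻¹ ∈ pivot T L x := by
    intro t ht r hr
    unfold pivot at hr ⊢
    rw [Subgroup.mem_sInf] at hr ⊢
    intro R hR
    exact ((Subgroup.mem_normalizer_iff).mp (hR.2.2 ht) r).mp (hr R hR)
  apply mem_normalizer_of_conj
  · exact aux t ht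
  · intro r hr
    have := aux t⁻¹ (T.inv_mem ht) r hr
    simpa using this

theorem pivot_le {T L R : Subgroup G} {x : G} (hL : L ≤ R) (hx : x ∈ R)
    (hT : T ≤ Subgroup.normalizer ((R : Subgroup G) : Set G)) : pivot T L x ≤ R := by
  unfold pivot
  exact sInf_le ⟨hL, hx, hT⟩

theorem pivot_self (T : Subgroup G) (x : G) : pivot T T x = T ⊔ Subgroup.zpowers x := by
  apply le_antisymm
  · apply pivot_le le_sup_left
    · exact (le_sup_right : Subgroup.zpowers x ≤ T ⊔ Subgroup.zpowers x)
        (Subgroup.mem_zpowers x)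
    · exact le_sup_left.trans Subgroup.le_normalizer
  · exact sup_le (le_pivot T T x) ((Subgroup.zpowers_le).mpr (mem_pivot T T x))

theorem pivot_sup_zpowers (T : Subgroup G) (x : G) :
    pivot (T ⊔ Subgroup.zpowers x) T x = T ⊔ Subgroup.zpowers x := by
  apply le_antisymm
  · apply pivot_le le_sup_left
    · exact (le_sup_right : Subgroup.zpowers x ≤ T ⊔ Subgroup.zpowers x)
        (Subgroup.mem_zpowers x)
    · exact Subgroup.le_normalizer
  · exact sup_le (le_pivot _ T x) ((Subgroup.zpowers_le).mpr (mem_pivot _ T x))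

/-- the only place where `p`-groups matter: if `L ⊔ Z < T`, a coatom of `T` above it is normal in `T`,
so `pivot T L x` would be proper in `T`. -/
theorem sup_zpowers_eq_of_pivot_eq {T L : Subgroup G} {x : G} (hT : IsPGroup p T) (hL : L ≤ T)
    (hx : x ∈ T) (h : pivot T L x = T) : L ⊔ Subgroup.zpowers x = T := by
  by_contra hne
  have hle : L ⊔ Subgroup.zpowers x ≤ T := sup_le hL ((Subgroup.zpowers_le).mpr hx)
  have hnil : Group.IsNilpotent ↥T := hT.isNilpotent
  have hnc : NormalizerCondition ↥T := Group.normalizerCondition_of_isNilpotent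
  have hnetop : (L ⊔ Subgroup.zpowers x).subgroupOf T ≠ ⊤ := by
    intro htop
    rw [Subgroup.subgroupOf_eq_top] at htop
    exact hne (le_antisymm hle htop)
  obtain ⟨M, hM, hleM⟩ :=
    (eq_top_or_exists_le_coatom ((L ⊔ Subgroup.zpowers x).subgroupOf T)).resolve_left hnetop
  have hMn : M.Normal := Subgroup.NormalizerCondition.normal_of_coatom M hnc hM
  have hR1 : L ≤ M.map T.subtype := by
    intro l hl
    have : (⟨l, hL hl⟩ : ↥T) ∈ M := by
      apply hleM
      rw [Subgroup.mem_subgroupOf]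
      exact (le_sup_left : L ≤ L ⊔ Subgroup.zpowers x) hl
    exact Subgroup.mem_map.mpr ⟨⟨l, hL hl⟩, this, rfl⟩
  have hR2 : x ∈ M.map T.subtype := by
    have : (⟨x, hx⟩ : ↥T) ∈ M := by
      apply hleM
      rw [Subgroup.mem_subgroupOf]
      exact (le_sup_right : Subgroup.zpowers x ≤ L ⊔ Subgroup.zpowers x)
        (Subgroup.mem_zpowers x)
    exact Subgroup.mem_map.mpr ⟨⟨x, hx⟩, this, rfl⟩
  have hR3 : T ≤ Subgroup.normalizer ((M.map T.subtype : Subgroup G) : Set G) := by
    have aux : ∀ t ∈ T, ∀ r ∈ M.map T.subtype, t * r * t⁻¹ ∈ M.map T.subtype := by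
      intro t ht r hr
      obtain ⟨m, hm, rfl⟩ := Subgroup.mem_map.mp hr
      exact Subgroup.mem_map.mpr ⟨⟨t, ht⟩ * m * ⟨t, ht⟩⁻¹, hMn.conj_mem m hm ⟨t, ht⟩, rfl⟩
    intro t ht
    apply mem_normalizer_of_conj
    · exact aux t ht
    · intro r hr
      have := aux t⁻¹ (T.inv_mem ht) r hr
      simpa using this
  have hpl : pivot T L x ≤ M.map T.subtype := pivot_le hR1 hR2 hR3
  rw [h] at hpl
  apply hM.1
  rw [eq_top_iff]
  intro t _
  obtain ⟨m, hm, hmt⟩ := Subgroup.mem_map.mp (hpl t.2)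
  have : m = t := Subtype.ext hmt
  rw [← this]
  exact hm

/-- conjugation by `g` permutes the family defining the pivot -/
theorem mem_normalizer_pivot {T L : Subgroup G} {x g : G}
    (hT : g ∈ Subgroup.normalizer ((T : Subgroup G) : Set G))
    (hL : g ∈ Subgroup.normalizer ((L : Subgroup G) : Set G)) (hgx : g * x = x * g) :
    g ∈ Subgroup.normalizer ((pivot T L x : Subgroup G) : Set G) := by
  apply mem_normalizer_of_conj
  · intro r hr
    exact conj_mem_pivot hT hL hgx hr
  · intro r hr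
    have hgx' : g⁻¹ * x = x * g⁻¹ := by
      calc g⁻¹ * x = g⁻¹ * (x * g) * g⁻¹ := by group
        _ = g⁻¹ * (g * x) * g⁻¹ := by rw [hgx]
        _ = x * g⁻¹ := by group
    have := conj_mem_pivot (Subgroup.inv_mem _ hT) (Subgroup.inv_mem _ hL) hgx' hr
    simpa using this

theorem mem_chainStab_iff {g : G} :
    g ∈ chainStab s ↔ ∀ Q ∈ s, g ∈ Subgroup.normalizer ((Q : Subgroup G) : Set G) := by
  unfold chainStab
  simp only [Subgroup.mem_iInf]

theorem le_topOf {Q : Subgroup G} (hQ : Q ∈ s) : Q ≤ topOf s := by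
  unfold topOf
  exact Finset.le_sup (f := id) hQ

theorem topOf_eq_of_isNChain (hs : IsNChain p s) :
    topOf s ∈ s ∧ ∀ Q ∈ s, topOf s ≤ Subgroup.normalizer ((Q : Subgroup G) : Set G) := by
  obtain ⟨-, -, -, T, hT, hTs⟩ := hs
  have : topOf s = T := by
    apply le_antisymm
    · unfold topOf
      exact Finset.sup_le fun Q hQ => (hTs Q hQ).1
    · exact le_topOf hT
  rw [this]
  exact ⟨hT, fun Q hQ => (hTs Q hQ).2⟩

theorem topOf_mem (hs : IsNChain p s) : topOf s ∈ s := (topOf_eq_of_isNChain hs).1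

theorem topOf_le_normalizer (hs : IsNChain p s) {Q : Subgroup G} (hQ : Q ∈ s) :
    topOf s ≤ Subgroup.normalizer ((Q : Subgroup G) : Set G) := (topOf_eq_of_isNChain hs).2 Q hQ

theorem le_lowOf {Q : Subgroup G} (hQ : Q ∈ s) (hxQ : x ∉ Q) : Q ≤ lowOf x s := by
  classical
  unfold lowOf
  exact Finset.le_sup (f := id) (Finset.mem_filter.mpr ⟨hQ, hxQ⟩)

theorem lowOf_le {R : Subgroup G} (h : ∀ Q ∈ s, x ∉ Q → Q ≤ R) : lowOf x s ≤ R := by
  classical
  unfold lowOf
  exact Finset.sup_le fun Q hQ => h Q (Finset.mem_filter.mp hQ).1 (Finset.mem_filter.mp hQ).2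

theorem lowOf_le_topOf : lowOf x s ≤ topOf s := lowOf_le fun _ hQ _ => le_topOf hQ

theorem mem_piv (x : G) (s : Finset (Subgroup G)) : x ∈ piv x s := mem_pivot _ _ _

theorem lowOf_le_piv (x : G) (s : Finset (Subgroup G)) : lowOf x s ≤ piv x s := le_pivot _ _ _

theorem topOf_le_normalizer_piv (x : G) (s : Finset (Subgroup G)) :
    topOf s ≤ Subgroup.normalizer ((piv x s : Subgroup G) : Set G) := le_normalizer_pivot _ _ _

/-- a member containing `x` contains the pivot -/
theorem piv_le_of_mem (hs : IsNChain p s) {Q : Subgroup G} (hQ : Q ∈ s) (hxQ : x ∈ Q) :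
    piv x s ≤ Q := by
  unfold piv
  apply pivot_le
  · apply lowOf_le
    intro Q' hQ' hxQ'
    rcases hs.2.1 Q' hQ' Q hQ with h | h
    · exact h
    · exact absurd (h hxQ) hxQ'
  · exact hxQ
  · exact topOf_le_normalizer hs hQ

theorem lowOf_eq_topOf_of_not_mem (hxT : x ∉ topOf s) : lowOf x s = topOf s := by
  apply le_antisymm lowOf_le_topOf
  unfold topOf
  exact Finset.sup_le fun Q hQ => le_lowOf hQ (fun hx => hxT (le_topOf hQ hx))

theorem piv_eq_sup_of_not_mem (hxT : x ∉ topOf s) :
    piv x s = topOf s ⊔ Subgroup.zpowers x := by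
  unfold piv
  rw [lowOf_eq_topOf_of_not_mem hxT, pivot_self]

theorem isPGroup_zpowers (hxp : ∃ k : ℕ, orderOf x = p ^ k) :
    IsPGroup p (Subgroup.zpowers x) := by
  obtain ⟨k, hk⟩ := hxp
  apply IsPGroup.of_card (n := k)
  rw [Nat.card_zpowers, hk]

theorem isPGroup_piv (hs : IsNChain p s) (hx : x ∈ chainStab s)
    (hxp : ∃ k : ℕ, orderOf x = p ^ k) : IsPGroup p (piv x s) := by
  have hTs : topOf s ∈ s := topOf_mem hs
  have hTp : IsPGroup p (topOf s) := (hs.2.2.1 _ hTs).2
  have hZn : Subgroup.zpowers x ≤ Subgroup.normalizer ((topOf s : Subgroup G) : Set G) :=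
    (Subgroup.zpowers_le).mpr (mem_chainStab_iff.mp hx _ hTs)
  have hsup : IsPGroup p (topOf s ⊔ Subgroup.zpowers x : Subgroup G) :=
    IsPGroup.to_sup_of_normal_left' hTp (isPGroup_zpowers hxp) hZn
  have hle : piv x s ≤ topOf s ⊔ Subgroup.zpowers x := by
    unfold piv
    apply pivot_le (lowOf_le_topOf.trans le_sup_left)
    · exact (le_sup_right : Subgroup.zpowers x ≤ topOf s ⊔ Subgroup.zpowers x)
        (Subgroup.mem_zpowers x)
    · exact le_sup_left.trans Subgroup.le_normalizer
  exact hsup.to_le hle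

theorem piv_ne_bot (hx1 : x ≠ 1) : piv x s ≠ ⊥ := by
  intro h
  have := mem_piv x s
  rw [h, Subgroup.mem_bot] at this
  exact hx1 this

/-- an element of the stabilizer commuting with `x` normalizes the pivot -/
theorem mem_normalizer_piv {g : G} (hg : g ∈ chainStab s) (hgx : g * x = x * g) :
    g ∈ Subgroup.normalizer ((piv x s : Subgroup G) : Set G) := by
  classical
  have hg' := mem_chainStab_iff.mp hg
  unfold piv
  apply mem_normalizer_pivot _ _ hgx
  · unfold topOf
    exact mem_normalizer_finset_sup s hg'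
  · unfold lowOf
    exact mem_normalizer_finset_sup _ fun Q hQ => hg' Q (Finset.mem_filter.mp hQ).1

end Chain

end Cfsg.Agent.Lib.Helper93.KR
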