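import Mathlib
import Cfsg.Agent.Lib.Helper28.ZNDefs

/-!
# K-ZN-1 : a nontrivial perfect subgroup of a fixed-point-free linear group is `SL(2,5)` (given S0690)
-/

set_option autoImplicit false

universe u

namespace Cfsg.Agent.Lib.Helper93.ZN

open Cfsg.Agent.Lib.Helper28.ZN

variable {p : ℕ} [Fact p.Prime] {V : Type u} [AddCommGroup V] [Module (ZMod p) V]

/-- a linear automorphism as an automorphism of the multiplicative copy of `V` -/
def toMulAut : (V ≃ₗ[ZMod p] V) →* MulAut (Multiplicative V) where
  toFun f := AddEquiv.toMultiplicative f.toAddEquiv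
  map_one' := by
    apply MulEquiv.ext
    intro x
    rfl
  map_mul' f g := by
    apply MulEquiv.ext
    intro x
    rfl

theorem toMulAut_apply (f : V ≃ₗ[ZMod p] V) (x : Multiplicative V) :
    toMulAut f x = Multiplicative.ofAdd (f (Multiplicative.toAdd x)) := rfl

theorem toMulAut_injective : Function.Injective (toMulAut (p := p) (V := V)) := by
  intro f g h
  apply LinearEquiv.ext
  intro v
  have := congrArg (fun e : MulAut (Multiplicative V) => Multiplicative.toAdd (e (Multiplicative.ofAdd v))) h
  simpa [toMulAut_apply] using this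

/-- ZN-1. -/
theorem sl25_of_perfect_linear [Finite V] (hZ : Z690.{u}) (H : Subgroup (V ≃ₗ[ZMod p] V)) (hfpf : Fpf H)
    (N : Subgroup H) (hN : N ≠ ⊥) (hperf : ⁅N, N⁆ = N) : Nonempty (N ≃* SL25) := by
  set ψ : N →* MulAut (Multiplicative V) := (toMulAut (p := p) (V := V)).comp (H.subtype.comp N.subtype)
    with hψ
  have hinj : Function.Injective ψ := by
    intro a b hab
    have h1 : (H.subtype.comp N.subtype) a = (H.subtype.comp N.subtype) b := toMulAut_injective hab
    have h2 : ((a : H) : V ≃ₗ[ZMod p] V) = ((b : H) : V ≃ₗ[ZMod p] V) := h1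
    exact Subtype.ext (Subtype.ext h2)
  obtain ⟨e⟩ : Nonempty (N ≃* ψ.range) := ⟨MonoidHom.ofInjective hinj⟩
  have hR : ∀ φ ∈ ψ.range, φ ≠ 1 → ∀ k : Multiplicative V, φ k = k → k = 1 := by
    rintro φ ⟨n, rfl⟩ hφ k hk
    by_contra hk1
    apply hφ
    have hv : Multiplicative.toAdd k ≠ 0 := by
      intro h0
      apply hk1
      exact Multiplicative.toAdd.injective h0
    have hfix : ((n : H) : V ≃ₗ[ZMod p] V) (Multiplicative.toAdd k) = Multiplicative.toAdd k := by
      have := congrArg Multiplicative.toAdd hk
      simpa [hψ, toMulAut_apply] using this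
    have hn1 : (n : H) = 1 := hfpf (n : H) _ hv hfix
    have hn : n = 1 := Subtype.ext hn1
    rw [hn, map_one]
  -- `↥N` is perfect
  have hperfN : commutator N = ⊤ := by
    have h1 : (commutator N).map N.subtype = (⊤ : Subgroup N).map N.subtype := by
      rw [Subgroup.map_subtype_commutator, hperf, ← MonoidHom.range_eq_map, Subgroup.range_subtype]
    exact Subgroup.map_injective N.subtype_injective h1
  have hperfR : commutator ψ.range = ⊤ := by
    have htop : Subgroup.map e.toMonoidHom ⊤ = ⊤ :=
      Subgroup.map_top_of_surjective e.toMonoidHom e.surjective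
    have h1 : Subgroup.map e.toMonoidHom (commutator N) = commutator ψ.range := by
      rw [commutator_def, commutator_def, Subgroup.map_commutator, htop]
    rw [← h1, hperfN, htop]
  have hne : ψ.range ≠ ⊥ := by
    have hntN : Nontrivial N := (Subgroup.nontrivial_iff_ne_bot _).2 hN
    have hnt : Nontrivial ψ.range := e.injective.nontrivial
    exact (Subgroup.nontrivial_iff_ne_bot _).1 hnt
  obtain ⟨f⟩ := hZ (Multiplicative V) ψ.range hR hperfR hne
  exact ⟨e.trans f⟩

end Cfsg.Agent.Lib.Helper93.ZN
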