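import Mathlib
import Cfsg.Agent.Lib.Helper28.ZNDefs

/-!
# K-ZN-9 and K-ZN-10 (two small lemmas for the Zassenhaus near-field rows)
-/

set_option autoImplicit false

universe u

namespace Cfsg.Agent.Lib.Helper93.ZN

open Cfsg.Agent.Lib.Helper28.ZN

/-- auxiliary: `x⁻¹ y⁻¹ x y` commutes with a generator of a cyclic normal subgroup -/
theorem commute_aux {G : Type u} [Group G] (A : Subgroup G) (hAn : A.Normal)
    (a : G) (haA : a ∈ A) (hgen : ∀ b ∈ A, ∃ k : ℤ, a ^ k = b) (x y : G) :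
    Commute (x⁻¹ * y⁻¹ * x * y) a := by
  obtain ⟨i, hi⟩ := hgen (x * a * x⁻¹) (hAn.conj_mem a haA x)
  obtain ⟨j, hj⟩ := hgen (y * a * y⁻¹) (hAn.conj_mem a haA y)
  have hx : ∀ k : ℤ, x * a ^ k * x⁻¹ = (x * a * x⁻¹) ^ k := fun k => (conj_zpow (a := x) (b := a) (i := k)).symm
  have hy : ∀ k : ℤ, y * a ^ k * y⁻¹ = (y * a * y⁻¹) ^ k := fun k => (conj_zpow (a := y) (b := a) (i := k)).symm
  have h1 : (x * y) * a * (x * y)⁻¹ = a ^ (i * j) := by
    calc (x * y) * a * (x * y)⁻¹ = x * (y * a * y⁻¹) * x⁻¹ := by group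
      _ = x * a ^ j * x⁻¹ := by rw [hj]
      _ = (x * a * x⁻¹) ^ j := hx j
      _ = (a ^ i) ^ j := by rw [hi]
      _ = a ^ (i * j) := (zpow_mul a i j).symm
  have h2 : (y * x) * a * (y * x)⁻¹ = a ^ (i * j) := by
    calc (y * x) * a * (y * x)⁻¹ = y * (x * a * x⁻¹) * y⁻¹ := by group
      _ = y * a ^ i * y⁻¹ := by rw [hi]
      _ = (y * a * y⁻¹) ^ i := hy i
      _ = (a ^ j) ^ i := by rw [hj]
      _ = a ^ (j * i) := (zpow_mul a j i).symm
      _ = a ^ (i * j) := by rw [mul_comm]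
  have h3 : (x * y) * a * (x * y)⁻¹ = (y * x) * a * (y * x)⁻¹ := h1.trans h2.symm
  -- `(y x)⁻¹ (x y)` commutes with `a`
  show (x⁻¹ * y⁻¹ * x * y) * a = a * (x⁻¹ * y⁻¹ * x * y)
  calc (x⁻¹ * y⁻¹ * x * y) * a = (y * x)⁻¹ * ((x * y) * a * (x * y)⁻¹) * (x * y) := by group
    _ = (y * x)⁻¹ * ((y * x) * a * (y * x)⁻¹) * (x * y) := by rw [h3]
    _ = a * (x⁻¹ * y⁻¹ * x * y) := by group

/-- ZN-9.  Commutators centralize a cyclic normal subgroup. -/
theorem commutator_mem_centralizer_of_isCyclic {G : Type u} [Group G] (A : Subgroup G) (hAn : A.Normal)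
    (hcyc : IsCyclic A) (x y : G) : x * y * x⁻¹ * y⁻¹ ∈ Subgroup.centralizer (A : Set G) := by
  obtain ⟨⟨a, haA⟩, hgen⟩ := hcyc.exists_generator
  have hgen' : ∀ b ∈ A, ∃ k : ℤ, a ^ k = b := by
    intro b hb
    obtain ⟨k, hk⟩ := Subgroup.mem_zpowers_iff.mp (hgen ⟨b, hb⟩)
    refine ⟨k, ?_⟩
    have := congrArg Subtype.val hk
    simpa using this
  have hc := commute_aux A hAn a haA hgen' x⁻¹ y⁻¹
  rw [inv_inv, inv_inv] at hc
  rw [Subgroup.mem_centralizer_iff]
  intro b hb
  obtain ⟨k, rfl⟩ := hgen' b hb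
  exact ((hc.zpow_right k).eq).symm

/-- ZN-10.  The unique involution lies in every maximal normal abelian subgroup. -/
theorem involution_mem_of_maxAb {G : Type u} [Group G] (hinv : UniqInv G)
    (A : Subgroup G) (hAn : A.Normal) (hAc : Ab A) (hAmax : MaxAb A)
    (z : G) (hz : z * z = 1) (hz1 : z ≠ 1) : z ∈ A := by
  -- `z` is central
  have hzc : z ∈ Subgroup.center G := by
    rw [Subgroup.mem_center_iff]
    intro g
    have h1 : (g * z * g⁻¹) * (g * z * g⁻¹) = 1 := by
      calc (g * z * g⁻¹) * (g * z * g⁻¹) = g * (z * z) * g⁻¹ := by group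
        _ = 1 := by rw [hz]; group
    have h2 : g * z * g⁻¹ ≠ 1 := by
      intro h
      apply hz1
      calc z = g⁻¹ * (g * z * g⁻¹) * g := by group
        _ = 1 := by rw [h]; group
    have h3 : g * z * g⁻¹ = z := hinv _ _ h1 h2 hz hz1
    calc g * z = (g * z * g⁻¹) * g := by group
      _ = z * g := by rw [h3]
  have hZle : Subgroup.zpowers z ≤ Subgroup.center G := Subgroup.zpowers_le.mpr hzc
  have hZn : (Subgroup.zpowers z).Normal := by
    refine ⟨fun w hw g => ?_⟩
    have hwc := hZle hw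
    rw [Subgroup.mem_center_iff] at hwc
    have : g * w * g⁻¹ = w := by
      rw [hwc g]; group
    rw [this]; exact hw
  set B : Subgroup G := A ⊔ Subgroup.zpowers z with hB
  have hBn : B.Normal := by
    have := hAn
    have := hZn
    exact inferInstance
  have hAA : A ≤ Subgroup.centralizer (A : Set G) := by
    intro a ha
    rw [Subgroup.mem_centralizer_iff]
    intro b hb
    exact hAc b hb a ha
  have hBB : B ≤ Subgroup.centralizer (B : Set G) := by
    rw [hB]
    apply sup_le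
    · rw [Subgroup.le_centralizer_iff]
      apply sup_le hAA
      exact hZle.trans (Subgroup.center_le_centralizer _)
    · exact hZle.trans (Subgroup.center_le_centralizer _)
  have hBab : Ab B := by
    intro a ha b hb
    have := hBB hb
    rw [Subgroup.mem_centralizer_iff] at this
    exact this a ha
  have hBA : B = A := hAmax B hBn hBab le_sup_left
  rw [← hBA]
  exact (le_sup_right : Subgroup.zpowers z ≤ B) (Subgroup.mem_zpowers z)

end Cfsg.Agent.Lib.Helper93.ZN
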