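import Cfsg.Agent.Lib.Helper93.SimpleStab
import Cfsg.Agent.Lib.Helper10.Trans

/-!
Simplicity of the pointwise stabilisers of at most two points in `Cfsg.M24` (and of `M24` itself),
from the simplicity of the pointwise stabilisers of three points: the group is 5-transitive on the
24 points, so these stabilisers are 3-transitive on the remaining points, and the criterion of
`SimpleStab` applies.
-/

set_option autoImplicit false

namespace Cfsg.Agent.Lib.Helper93

open Cfsg Cfsg.Agent.Lib.Helper10 MulAction SubMulAction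

/-- the group of the code is 5-transitive, in the sense of Mathlib. -/
theorem m24_five_pretransitive : IsMultiplyPretransitive ↥M24 GolayPt 5 := by
  refine ⟨fun x y => ?_⟩
  obtain ⟨g, hg, h⟩ := five_trans x y
  refine ⟨⟨g, H_le_M24 hg⟩, ?_⟩
  apply DFunLike.ext
  intro i
  exact h i

theorem card_golayPt : Fintype.card GolayPt = 24 := by decide

theorem two_pow_ne (n m : ℕ) (h1 : 22 ≤ n) (h2 : n ≤ 24) : n ≠ 2 ^ m := by
  intro h
  rcases Nat.lt_or_ge m 5 with hm | hm
  · have : 2 ^ m ≤ 2 ^ 4 := Nat.pow_le_pow_right (by norm_num) (by omega)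
    omega
  · have : 2 ^ 5 ≤ 2 ^ m := Nat.pow_le_pow_right (by norm_num) hm
    omega

/-- the step: if all pointwise stabilisers of one point more are simple, so is the pointwise
stabiliser of the at most two points of `s`. -/
theorem simple_step (s : Set GolayPt) (hs : s.ncard ≤ 2)
    (h : ∀ r, r ∉ s → IsSimpleGroup ↥(fixingSubgroup ↥M24 (insert r s))) :
    IsSimpleGroup ↥(fixingSubgroup ↥M24 s) := by
  classical
  have hfin : Finite s := Set.toFinite s
  let _ : Fintype ↥(ofFixingSubgroup ↥M24 s) := Fintype.ofFinite _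
  have hcardX : Fintype.card ↥(ofFixingSubgroup ↥M24 s) = 24 - s.ncard := by
    rw [← Nat.card_eq_fintype_card]
    have h1 : Nat.card ↥(ofFixingSubgroup ↥M24 s) = (sᶜ : Set GolayPt).ncard := rfl
    rw [h1, Set.ncard_compl, Nat.card_eq_fintype_card, card_golayPt]
  have : FaithfulSMul ↥(fixingSubgroup ↥M24 s) ↥(ofFixingSubgroup ↥M24 s) := by
    refine ⟨fun {g g'} hgg => ?_⟩
    apply Subtype.ext
    apply Subtype.ext
    apply Equiv.ext
    intro p
    by_cases hp : p ∈ s
    · have h1 := (mem_fixingSubgroup_iff ↥M24).mp g.2 p hp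
      have h2 := (mem_fixingSubgroup_iff ↥M24).mp g'.2 p hp
      have h1' : (g : ↥M24).1 p = p := h1
      have h2' : (g' : ↥M24).1 p = p := h2
      rw [h1', h2']
    · have := congrArg Subtype.val (hgg ⟨p, hp⟩)
      exact this
  have h5 := m24_five_pretransitive
  have h3 : IsMultiplyPretransitive ↥(fixingSubgroup ↥M24 s) ↥(ofFixingSubgroup ↥M24 s) 3 := by
    apply ofFixingSubgroup.isMultiplyPretransitive' (n := 5) s (by omega)
    rw [ENat.card_eq_coe_fintype_card, card_golayPt]
    norm_num
  obtain ⟨r, hr⟩ : ∃ r, r ∉ s := by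
    by_contra hcon
    push Not at hcon
    have : s = Set.univ := Set.eq_univ_of_forall hcon
    rw [this, Set.ncard_univ, Nat.card_eq_fintype_card, card_golayPt] at hs
    omega
  apply isSimpleGroup_of_stabilizer h3 (by omega) (fun m => two_pow_ne _ m (by omega) (by omega))
    (⟨r, hr⟩ : ↥(ofFixingSubgroup ↥M24 s))
  -- the stabiliser of `r` is the pointwise stabiliser of `insert r s`
  have hle : fixingSubgroup ↥M24 (insert r s) ≤ fixingSubgroup ↥M24 s :=
    fixingSubgroup_antitone _ _ (Set.subset_insert r s)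
  have heq : stabilizer ↥(fixingSubgroup ↥M24 s) (⟨r, hr⟩ : ↥(ofFixingSubgroup ↥M24 s))
      = (fixingSubgroup ↥M24 (insert r s)).subgroupOf (fixingSubgroup ↥M24 s) := by
    ext g
    rw [mem_stabilizer_iff, Subgroup.mem_subgroupOf, mem_fixingSubgroup_iff]
    constructor
    · intro hg y hy
      rcases Set.mem_insert_iff.mp hy with rfl | hy
      · exact congrArg Subtype.val hg
      · exact (mem_fixingSubgroup_iff ↥M24).mp g.2 y hy
    · intro hg
      apply Subtype.ext
      exact hg r (Set.mem_insert r s)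
  have hsimple := h r hr
  rw [heq]
  exact (Subgroup.subgroupOfEquivOfLe hle).isSimpleGroup

/-- from the three-point stabilisers to everything above. -/
theorem simple_of_base (hbase : ∀ s : Set GolayPt, s.ncard = 3 → IsSimpleGroup ↥(fixingSubgroup ↥M24 s))
    (s : Set GolayPt) (hs : s.ncard ≤ 3) : IsSimpleGroup ↥(fixingSubgroup ↥M24 s) := by
  have hins : ∀ (t : Set GolayPt) (r : GolayPt), r ∉ t → (insert r t).ncard = t.ncard + 1 :=
    fun t r hr => Set.ncard_insert_of_notMem hr (Set.toFinite t)
  have h2 : ∀ t : Set GolayPt, t.ncard = 2 → IsSimpleGroup ↥(fixingSubgroup ↥M24 t) := by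
    intro t ht
    apply simple_step t (by omega)
    intro r hr
    exact hbase _ (by rw [hins t r hr, ht])
  have h1 : ∀ t : Set GolayPt, t.ncard = 1 → IsSimpleGroup ↥(fixingSubgroup ↥M24 t) := by
    intro t ht
    apply simple_step t (by omega)
    intro r hr
    exact h2 _ (by rw [hins t r hr, ht])
  have h0 : ∀ t : Set GolayPt, t.ncard = 0 → IsSimpleGroup ↥(fixingSubgroup ↥M24 t) := by
    intro t ht
    apply simple_step t (by omega)
    intro r hr
    exact h1 _ (by rw [hins t r hr, ht])
  have : s.ncard = 0 ∨ s.ncard = 1 ∨ s.ncard = 2 ∨ s.ncard = 3 := by omega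
  rcases this with h | h | h | h
  · exact h0 s h
  · exact h1 s h
  · exact h2 s h
  · exact hbase s h

end Cfsg.Agent.Lib.Helper93
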