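import Cfsg.Agent.Lib.Helper93.M21Simple
import Cfsg.Agent.Lib.Helper93.SimpleChain
import Cfsg.Agent.Lib.Helper10.Conj

/-!
The pointwise stabiliser in `Cfsg.M24` of any three points is simple: it is conjugate to the
stabiliser of `0, 1, 2`. Hence the stabilisers of two points, of one point, and `M24` are simple.
-/

set_option autoImplicit false

namespace Cfsg.Agent.Lib.Helper93

open Cfsg Cfsg.Agent.Lib.Helper10 MulAction SubMulAction

theorem mem_map_subtype_fixing (s : Set GolayPt) (x : Equiv.Perm GolayPt) :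
    x ∈ (fixingSubgroup ↥M24 s).map M24.subtype ↔ x ∈ M24 ∧ ∀ y ∈ s, x y = y := by
  constructor
  · rintro ⟨k, hk, rfl⟩
    exact ⟨k.2, fun y hy => (mem_fixingSubgroup_iff ↥M24).mp hk y hy⟩
  · rintro ⟨h1, h2⟩
    exact ⟨⟨x, h1⟩, (mem_fixingSubgroup_iff ↥M24).mpr (fun y hy => h2 y hy), rfl⟩

theorem m24_three_trans (p q r : GolayPt) (hpq : p ≠ q) (hpr : p ≠ r) (hqr : q ≠ r) :
    ∃ g ∈ M24, g (pt 0) = p ∧ g (pt 1) = q ∧ g (pt 2) = r := by
  have h5 := m24_five_pretransitive
  have h3 : IsMultiplyPretransitive ↥M24 GolayPt 3 := by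
    apply isMultiplyPretransitive_of_le' (n := 5) (by norm_num)
    rw [ENat.card_eq_coe_fintype_card, card_golayPt]
    norm_num
  let x : Fin 3 ↪ GolayPt := ⟨![pt 0, pt 1, pt 2], by decide⟩
  have hy : Function.Injective ![p, q, r] := by
    intro i j hij
    fin_cases i <;> fin_cases j <;> simp_all
  let y : Fin 3 ↪ GolayPt := ⟨![p, q, r], hy⟩
  obtain ⟨g, hg⟩ := h3.exists_smul_eq x y
  refine ⟨g.1, g.2, ?_, ?_, ?_⟩
  · exact congrArg (fun f : Fin 3 ↪ GolayPt => f 0) hg
  · exact congrArg (fun f : Fin 3 ↪ GolayPt => f 1) hg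
  · exact congrArg (fun f : Fin 3 ↪ GolayPt => f 2) hg

/-- the pointwise stabiliser of three points is simple. -/
theorem m21_base (s : Set GolayPt) (hs : s.ncard = 3) :
    IsSimpleGroup ↥(fixingSubgroup ↥M24 s) := by
  obtain ⟨p, q, r, hpq, hpr, hqr, rfl⟩ := Set.ncard_eq_three.mp hs
  obtain ⟨g, hg, h0, h1, h2⟩ := m24_three_trans p q r hpq hpr hqr
  have heq : (fixingSubgroup ↥M24 ({p, q, r} : Set GolayPt)).map M24.subtype
      = m21G.map (MulAut.conj g).toMonoidHom := by
    ext x
    rw [mem_map_subtype_fixing, Subgroup.mem_map_equiv, MulAut.conj_symm_apply, mem_fixG,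
      conj_mem_M24_iff hg]
    have hiff : ∀ y : GolayPt, (g⁻¹ * x * g) y = y ↔ x (g y) = g y := by
      intro y
      simp only [Equiv.Perm.mul_apply]
      rw [Equiv.Perm.inv_eq_iff_eq]
    constructor
    · rintro ⟨hx, hfix⟩
      refine ⟨hx, ?_⟩
      intro i hi
      simp only [List.mem_cons, List.not_mem_nil, or_false] at hi
      rw [hiff]
      rcases hi with rfl | rfl | rfl
      · rw [h2]; exact hfix r (by simp)
      · rw [h1]; exact hfix q (by simp)
      · rw [h0]; exact hfix p (by simp)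
    · rintro ⟨hx, hfix⟩
      refine ⟨hx, ?_⟩
      intro y hy
      simp only [Set.mem_insert_iff, Set.mem_singleton_iff] at hy
      rcases hy with rfl | rfl | rfl
      · rw [← h0, ← hiff]; exact hfix 0 (by simp)
      · rw [← h1, ← hiff]; exact hfix 1 (by simp)
      · rw [← h2, ← hiff]; exact hfix 2 (by simp)
  have e : ↥(fixingSubgroup ↥M24 ({p, q, r} : Set GolayPt)) ≃* ↥m21G :=
    ((fixingSubgroup ↥M24 ({p, q, r} : Set GolayPt)).equivMapOfInjective M24.subtype
      (Subgroup.subtype_injective _)).trans ((MulEquiv.subgroupCongr heq).trans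
        (m21G.equivMapOfInjective (MulAut.conj g).toMonoidHom (MulAut.conj g).injective).symm)
  have := m21_isSimpleGroup
  exact e.isSimpleGroup

/-- the pointwise stabiliser of at most three points is simple. -/
theorem m24_fixing_simple (s : Set GolayPt) (hs : s.ncard ≤ 3) :
    IsSimpleGroup ↥(fixingSubgroup ↥M24 s) :=
  simple_of_base m21_base s hs

end Cfsg.Agent.Lib.Helper93
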