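import Mathlib
import Cfsg.Prelude.Def_Sporadic_a

/-!
The point-block graph of a family of subsets: an isomorphism of families induces an isomorphism of
graphs fixing the extra vertex, and the automorphisms of the graph fixing the extra vertex are
exactly those induced by the automorphisms of the family.
-/

set_option autoImplicit false

namespace Cfsg.Agent.Lib.Helper93

open Cfsg
open scoped Pointwise

section iso

variable {α β : Type*} [DecidableEq β]

/-- the map on blocks induced by an isomorphism of families. -/
def pbBlockMap {B : Set (Finset α)} {B' : Set (Finset β)} (e : α ≃ β)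
    (h : (fun b => b.image e) '' B = B') (b : B) : B' :=
  ⟨b.1.image e, by rw [← h]; exact ⟨b.1, b.2, rfl⟩⟩

theorem pbBlockMap_bijective {B : Set (Finset α)} {B' : Set (Finset β)} (e : α ≃ β)
    (h : (fun b => b.image e) '' B = B') : Function.Bijective (pbBlockMap e h) := by
  constructor
  · intro b c hbc
    have := congrArg Subtype.val hbc
    simp only [pbBlockMap] at this
    exact Subtype.ext (Finset.image_injective e.injective this)
  · rintro ⟨b', hb'⟩
    have hb2 : b' ∈ (fun b => b.image e) '' B := by rw [h]; exact hb'
    obtain ⟨b, hb, hbb⟩ := hb2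
    exact ⟨⟨b, hb⟩, Subtype.ext hbb⟩

/-- the bijection of vertices induced by an isomorphism of families. -/
noncomputable def pbVertexEquiv {B : Set (Finset α)} {B' : Set (Finset β)} (e : α ≃ β)
    (h : (fun b => b.image e) '' B = B') : Option (α ⊕ B) ≃ Option (β ⊕ B') :=
  Equiv.optionCongr (Equiv.sumCongr e (Equiv.ofBijective _ (pbBlockMap_bijective e h)))

theorem pbVertexEquiv_none {B : Set (Finset α)} {B' : Set (Finset β)} (e : α ≃ β)
    (h : (fun b => b.image e) '' B = B') : pbVertexEquiv e h none = none := rfl

theorem pbVertexEquiv_inl {B : Set (Finset α)} {B' : Set (Finset β)} (e : α ≃ β)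
    (h : (fun b => b.image e) '' B = B') (a : α) :
    pbVertexEquiv e h (some (Sum.inl a)) = some (Sum.inl (e a)) := rfl

theorem pbVertexEquiv_inr {B : Set (Finset α)} {B' : Set (Finset β)} (e : α ≃ β)
    (h : (fun b => b.image e) '' B = B') (b : B) :
    pbVertexEquiv e h (some (Sum.inr b)) = some (Sum.inr (pbBlockMap e h b)) := rfl

theorem pbRel_iff {B : Set (Finset α)} {B' : Set (Finset β)} (e : α ≃ β)
    (h : (fun b => b.image e) '' B = B') (x y : Option (α ⊕ B)) :
    pointBlockRel B' (pbVertexEquiv e h x) (pbVertexEquiv e h y) ↔ pointBlockRel B x y := by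
  rcases x with _ | a | b <;> rcases y with _ | a' | b'
  · simp [pbVertexEquiv_none, pointBlockRel]
  · simp [pbVertexEquiv_none, pbVertexEquiv_inl, pointBlockRel]
  · simp [pbVertexEquiv_none, pbVertexEquiv_inr, pointBlockRel]
  · simp [pbVertexEquiv_none, pbVertexEquiv_inl, pointBlockRel]
  · simp [pbVertexEquiv_inl, pointBlockRel]
  · simp only [pbVertexEquiv_inl, pbVertexEquiv_inr, pointBlockRel, pbBlockMap]
    exact e.injective.mem_finset_image
  · simp [pbVertexEquiv_none, pbVertexEquiv_inr, pointBlockRel]
  · simp [pbVertexEquiv_inl, pbVertexEquiv_inr, pointBlockRel]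
  · simp only [pbVertexEquiv_inr, pointBlockRel, pbBlockMap]
    exact Finset.disjoint_image e.injective

/-- the isomorphism of point-block graphs induced by an isomorphism of families. -/
noncomputable def pbIso {B : Set (Finset α)} {B' : Set (Finset β)} (e : α ≃ β)
    (h : (fun b => b.image e) '' B = B') : pointBlockGraph B ≃g pointBlockGraph B' where
  toEquiv := pbVertexEquiv e h
  map_rel_iff' := by
    intro x y
    simp only [pointBlockGraph, SimpleGraph.fromRel_adj, pbRel_iff, ne_eq,
      EmbeddingLike.apply_eq_iff_eq]

theorem pbIso_none {B : Set (Finset α)} {B' : Set (Finset β)} (e : α ≃ β)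
    (h : (fun b => b.image e) '' B = B') : pbIso e h none = none := rfl

theorem pbIso_inl {B : Set (Finset α)} {B' : Set (Finset β)} (e : α ≃ β)
    (h : (fun b => b.image e) '' B = B') (a : α) :
    pbIso e h (some (Sum.inl a)) = some (Sum.inl (e a)) := rfl

theorem pbIso_inr {B : Set (Finset α)} {B' : Set (Finset β)} (e : α ≃ β)
    (h : (fun b => b.image e) '' B = B') (b : B) :
    pbIso e h (some (Sum.inr b)) = some (Sum.inr (pbBlockMap e h b)) := rfl

end iso

section stab

variable {α : Type*} [DecidableEq α] (B : Set (Finset α))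

theorem pb_adj_none {x : Option (α ⊕ B)} :
    (pointBlockGraph B).Adj none x ↔ ∃ a, x = some (Sum.inl a) := by
  rcases x with _ | a | b <;> simp [pointBlockGraph, pointBlockRel]

theorem pb_adj_inl_inr (a : α) (b : B) :
    (pointBlockGraph B).Adj (some (Sum.inl a)) (some (Sum.inr b)) ↔ a ∈ b.1 := by
  simp [pointBlockGraph, pointBlockRel]

theorem image_eq_of_mem_aut {g : Equiv.Perm α} (hg : g ∈ setSystemAut B) :
    (fun b : Finset α => b.image g) '' B = B := by
  have h : g • B = B := hg
  have e : (fun b : Finset α => b.image g) = fun b => g • b := by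
    funext b
    show b.image (fun x => g • x) = g • b
    exact Finset.image_smul
  rw [e, Set.image_smul, h]

theorem mem_aut_of_image_eq {g : Equiv.Perm α} (h : (fun b : Finset α => b.image g) '' B = B) :
    g ∈ setSystemAut B := by
  have e : (fun b : Finset α => b.image g) = fun b => g • b := by
    funext b
    show b.image (fun x => g • x) = g • b
    exact Finset.image_smul
  rw [e, Set.image_smul] at h
  exact h

/-- the automorphism of the graph induced by an automorphism of the family. -/
noncomputable def pbOfAut (g : setSystemAut B) :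
    MulAction.stabilizer (pointBlockGraph B ≃g pointBlockGraph B) (none : Option (α ⊕ B)) :=
  ⟨pbIso g.1 (image_eq_of_mem_aut B g.2), by
    rw [MulAction.mem_stabilizer_iff, RelIso.smul_def]; rfl⟩

theorem pbOfAut_injective : Function.Injective (pbOfAut B) := by
  intro g g' h
  apply Subtype.ext
  apply Equiv.ext
  intro a
  have h1 := congrArg (fun φ : MulAction.stabilizer (pointBlockGraph B ≃g pointBlockGraph B)
    (none : Option (α ⊕ B)) => φ.1 (some (Sum.inl a))) h
  simp only [pbOfAut, pbIso_inl, Option.some.injEq, Sum.inl.injEq] at h1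
  exact h1

theorem pbOfAut_surjective : Function.Surjective (pbOfAut B) := by
  rintro ⟨φ, hφ⟩
  have hφ0 : φ none = none := hφ
  have hψ0 : φ.symm none = none := by
    have := φ.symm_apply_apply none
    rwa [hφ0] at this
  -- points go to points
  have hpt : ∀ (χ : pointBlockGraph B ≃g pointBlockGraph B), χ none = none →
      ∀ a, ∃ a', χ (some (Sum.inl a)) = some (Sum.inl a') := by
    intro χ hχ a
    have h1 : (pointBlockGraph B).Adj none (some (Sum.inl a)) :=
      (pb_adj_none B).mpr ⟨a, rfl⟩
    have h2 := (χ.map_rel_iff).mpr h1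
    rw [hχ] at h2
    exact (pb_adj_none B).mp h2
  choose f hf using hpt φ hφ0
  choose f' hf' using hpt φ.symm hψ0
  have hff' : ∀ a, f (f' a) = a := by
    intro a
    have := hf (f' a)
    rw [← hf' a, RelIso.apply_symm_apply] at this
    simpa using this.symm
  have hf'f : ∀ a, f' (f a) = a := by
    intro a
    have := hf' (f a)
    rw [← hf a, RelIso.symm_apply_apply] at this
    simpa using this.symm
  let g : Equiv.Perm α := ⟨f, f', hf'f, hff'⟩
  -- blocks go to blocks
  have hbl : ∀ (χ : pointBlockGraph B ≃g pointBlockGraph B) (k k' : α → α), χ none = none →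
      (∀ a, χ (some (Sum.inl a)) = some (Sum.inl (k a))) → (∀ a, k (k' a) = a) →
      ∀ b : B, ∃ b' : B, χ (some (Sum.inr b)) = some (Sum.inr b') := by
    intro χ k k' hχ hk hkk' b
    rcases hx : χ (some (Sum.inr b)) with _ | a | b'
    · rw [← hχ] at hx
      exact absurd (χ.injective hx) (by simp)
    · have := hk (k' a)
      rw [hkk' a, ← hx] at this
      exact absurd (χ.injective this) (by simp)
    · exact ⟨b', rfl⟩
  choose β hβ using hbl φ f f' hφ0 hf hff'
  choose β' hβ' using hbl φ.symm f' f hψ0 hf' hf'f
  have hββ' : ∀ b, β (β' b) = b := by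
    intro b
    have := hβ (β' b)
    rw [← hβ' b, RelIso.apply_symm_apply] at this
    simpa using this.symm
  -- the image of a block
  have himg : ∀ b : B, (β b).1 = b.1.image g := by
    intro b
    ext x
    have key : x ∈ (β b).1 ↔ f' x ∈ b.1 := by
      rw [← pb_adj_inl_inr B x (β b), ← hβ b]
      conv_lhs => rw [← hff' x, ← hf (f' x)]
      rw [φ.map_rel_iff, pb_adj_inl_inr]
    rw [key, Finset.mem_image]
    constructor
    · intro h
      exact ⟨f' x, h, hff' x⟩
    · rintro ⟨y, hy, hyx⟩
      have e1 : f y = x := hyx
      rw [← e1, hf'f]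
      exact hy
  have hset : (fun b : Finset α => b.image g) '' B = B := by
    ext b'
    constructor
    · rintro ⟨b, hb, rfl⟩
      have := himg ⟨b, hb⟩
      simp only at this
      show b.image g ∈ B
      rw [← this]
      exact (β ⟨b, hb⟩).2
    · intro hb'
      refine ⟨(β' ⟨b', hb'⟩).1, (β' ⟨b', hb'⟩).2, ?_⟩
      have := himg (β' ⟨b', hb'⟩)
      rw [hββ'] at this
      exact this.symm
  refine ⟨⟨g, mem_aut_of_image_eq B hset⟩, ?_⟩
  apply Subtype.ext
  refine RelIso.ext (fun x => ?_)
  rcases x with _ | a | b
  · simp only [pbOfAut, pbIso_none]; exact hφ0.symm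
  · simp only [pbOfAut, pbIso_inl]; exact (hf a).symm
  · simp only [pbOfAut, pbIso_inr]
    rw [hβ b]
    have e : pbBlockMap g (image_eq_of_mem_aut B (mem_aut_of_image_eq B hset)) b = β b :=
      Subtype.ext (by show b.1.image g = (β b).1; exact (himg b).symm)
    rw [e]

/-- the automorphisms of the graph fixing the extra vertex are as many as the automorphisms of the
family. -/
theorem card_stabilizer_none :
    Nat.card (MulAction.stabilizer (pointBlockGraph B ≃g pointBlockGraph B)
      (none : Option (α ⊕ B))) = Nat.card (setSystemAut B) :=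
  (Nat.card_congr (Equiv.ofBijective _ ⟨pbOfAut_injective B, pbOfAut_surjective B⟩)).symm

end stab

/-- isomorphic graphs have equally many automorphisms. -/
theorem card_aut_congr {V V' : Type*} {G : SimpleGraph V} {G' : SimpleGraph V'} (ψ : G ≃g G') :
    Nat.card (G ≃g G) = Nat.card (G' ≃g G') := by
  apply Nat.card_congr
  exact
    { toFun := fun φ => (ψ.symm.trans φ).trans ψ
      invFun := fun φ => (ψ.trans φ).trans ψ.symm
      left_inv := fun φ => by ext x; simp
      right_inv := fun φ => by ext x; simp }

end Cfsg.Agent.Lib.Helper93
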