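import Cfsg.Agent.Lib.Helper93.HSData
import Cfsg.Agent.Lib.Helper93.HSGraph

/-!
The standard family of 77 blocks on `Fin 22` is a Steiner system `S(3, 6, 22)`, and its point-block
graph is the standard graph; so the automorphisms of the point-block graph are transitive on the
100 vertices.
-/

set_option autoImplicit false

namespace Cfsg.Agent.Lib.Helper93

open Cfsg

/-- block `i` of the standard family. -/
def hsBlk (i : Fin 77) : Finset (Fin 22) :=
  Finset.univ.filter (fun a : Fin 22 => (hsMask i).testBit a.val = true)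

/-- the standard family. -/
def hsB : Set (Finset (Fin 22)) := Set.range hsBlk

theorem mem_hsBlk (i : Fin 77) (a : Fin 22) : a ∈ hsBlk i ↔ (hsMask i).testBit a.val = true := by
  simp [hsBlk]

theorem hsMask_inj : ∀ i j : Fin 77,
    (∀ a : Fin 22, (hsMask i).testBit a.val = (hsMask j).testBit a.val) → i = j := by
  decide +kernel

theorem hsBlk_injective : Function.Injective hsBlk := by
  intro i j h
  apply hsMask_inj
  intro a
  have h1 := mem_hsBlk i a
  have h2 := mem_hsBlk j a
  rw [h] at h1
  rw [Bool.eq_iff_iff, ← h1, ← h2]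

theorem hsMask_disj : ∀ i j : Fin 77,
    (∀ a : Fin 22, (hsMask i).testBit a.val = true → ¬ (hsMask j).testBit a.val = true) ↔
      (hsMask i &&& hsMask j == 0) = true := by
  decide +kernel

theorem hsBlk_disjoint (i j : Fin 77) :
    Disjoint (hsBlk i) (hsBlk j) ↔ (hsMask i &&& hsMask j == 0) = true := by
  rw [← hsMask_disj, hsBlk, hsBlk, Finset.disjoint_filter]
  simp

theorem hsBlk_card : ∀ i : Fin 77, (hsBlk i).card = 6 := by decide +kernel

theorem hsBlk_inter : ∀ i j : Fin 77, i ≠ j → (hsBlk i ∩ hsBlk j).card ≤ 2 := by decide +kernel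

theorem hsBlk_exists_sorted : ∀ x y z : Fin 22, x < y → y < z →
    hsMasks.any (fun m => m.testBit x.val && m.testBit y.val && m.testBit z.val) = true := by
  decide +kernel

theorem hsMasks_length : hsMasks.length = 77 := by decide

theorem hsBlk_exists (x y z : Fin 22) (hxy : x ≠ y) (hxz : x ≠ z) (hyz : y ≠ z) : ∃ i : Fin 77,
    (hsMask i).testBit x.val = true ∧ (hsMask i).testBit y.val = true ∧
      (hsMask i).testBit z.val = true := by
  have key : ∀ a b c : Fin 22, a < b → b < c → ∃ i : Fin 77,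
      (hsMask i).testBit a.val = true ∧ (hsMask i).testBit b.val = true ∧
        (hsMask i).testBit c.val = true := by
    intro a b c hab hbc
    have h := hsBlk_exists_sorted a b c hab hbc
    rw [List.any_eq_true] at h
    obtain ⟨m, hm, h⟩ := h
    obtain ⟨i, hi, rfl⟩ := List.getElem_of_mem hm
    have hi' : i < 77 := by rw [hsMasks_length] at hi; exact hi
    refine ⟨⟨i, hi'⟩, ?_⟩
    simp only [Bool.and_eq_true] at h
    unfold hsMask
    rw [List.getD_eq_getElem _ _ hi]
    exact ⟨h.1.1, h.1.2, h.2⟩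
  rcases lt_or_gt_of_ne hxy with h1 | h1 <;> rcases lt_or_gt_of_ne hxz with h2 | h2 <;>
    rcases lt_or_gt_of_ne hyz with h3 | h3
  · obtain ⟨i, a, b, c⟩ := key x y z h1 h3; exact ⟨i, a, b, c⟩
  · obtain ⟨i, a, b, c⟩ := key x z y h2 h3; exact ⟨i, a, c, b⟩
  · exact absurd (lt_trans h1 h3) (not_lt.mpr (le_of_lt h2))
  · obtain ⟨i, a, b, c⟩ := key z x y h2 h1; exact ⟨i, b, c, a⟩
  · obtain ⟨i, a, b, c⟩ := key y x z h1 h2; exact ⟨i, b, a, c⟩
  · exact absurd (lt_trans h2 h3) (not_lt.mpr (le_of_lt h1))
  · obtain ⟨i, a, b, c⟩ := key y z x h3 h2; exact ⟨i, c, a, b⟩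
  · obtain ⟨i, a, b, c⟩ := key z y x h3 h1; exact ⟨i, c, b, a⟩

theorem hsB_steiner : IsSteinerSystem 3 6 hsB := by
  constructor
  · rintro b ⟨i, rfl⟩
    exact hsBlk_card i
  · intro s hs
    obtain ⟨x, y, z, hxy, hxz, hyz, rfl⟩ := Finset.card_eq_three.mp hs
    obtain ⟨i, hx, hy, hz⟩ := hsBlk_exists x y z hxy hxz hyz
    have hsub : ({x, y, z} : Finset (Fin 22)) ⊆ hsBlk i := by
      intro a ha
      simp only [Finset.mem_insert, Finset.mem_singleton] at ha
      rcases ha with rfl | rfl | rfl
      · exact (mem_hsBlk i _).mpr hx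
      · exact (mem_hsBlk i _).mpr hy
      · exact (mem_hsBlk i _).mpr hz
    refine ⟨hsBlk i, ⟨⟨i, rfl⟩, hsub⟩, ?_⟩
    rintro b ⟨⟨j, rfl⟩, hj⟩
    by_contra hne
    have hij : j ≠ i := fun h => hne (by rw [h])
    have h1 := hsBlk_inter j i hij
    have h2 : ({x, y, z} : Finset (Fin 22)) ⊆ hsBlk j ∩ hsBlk i := Finset.subset_inter hj hsub
    have h3 := Finset.card_le_card h2
    rw [hs] at h3
    omega

/-- the vertices of the standard graph and of the point-block graph. -/
noncomputable def hsVertexEquiv : HSV ≃ Option (Fin 22 ⊕ hsB) :=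
  Equiv.optionCongr (Equiv.sumCongr (Equiv.refl _) (Equiv.ofInjective hsBlk hsBlk_injective))

theorem hsVertexEquiv_none : hsVertexEquiv none = none := rfl

theorem hsVertexEquiv_inl (a : Fin 22) :
    hsVertexEquiv (some (Sum.inl a)) = some (Sum.inl a) := rfl

theorem hsVertexEquiv_inr (i : Fin 77) :
    hsVertexEquiv (some (Sum.inr i)) = some (Sum.inr ⟨hsBlk i, i, rfl⟩) := rfl

theorem hsRel_iff (x y : HSV) :
    pointBlockRel hsB (hsVertexEquiv x) (hsVertexEquiv y) ↔ hsRel x y = true := by
  rcases x with _ | a | i <;> rcases y with _ | a' | j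
  · simp [hsVertexEquiv_none, pointBlockRel, hsRel]
  · simp [hsVertexEquiv_none, hsVertexEquiv_inl, pointBlockRel, hsRel]
  · simp [hsVertexEquiv_none, hsVertexEquiv_inr, pointBlockRel, hsRel]
  · simp [hsVertexEquiv_none, hsVertexEquiv_inl, pointBlockRel, hsRel]
  · simp [hsVertexEquiv_inl, pointBlockRel, hsRel]
  · simp only [hsVertexEquiv_inl, hsVertexEquiv_inr, pointBlockRel, hsRel]
    exact mem_hsBlk j a
  · simp [hsVertexEquiv_none, hsVertexEquiv_inr, pointBlockRel, hsRel]
  · simp [hsVertexEquiv_inl, hsVertexEquiv_inr, pointBlockRel, hsRel]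
  · simp only [hsVertexEquiv_inr, pointBlockRel, hsRel]
    exact hsBlk_disjoint i j

/-- the standard graph is the point-block graph of the standard family. -/
noncomputable def hsIso : hsGraph ≃g pointBlockGraph hsB where
  toEquiv := hsVertexEquiv
  map_rel_iff' := by
    intro x y
    simp only [pointBlockGraph, hsGraph, SimpleGraph.fromRel_adj, hsRel_iff, ne_eq,
      EmbeddingLike.apply_eq_iff_eq]

theorem hsIso_none : hsIso none = none := rfl

/-- the automorphisms of the point-block graph of the standard family are transitive. -/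
theorem hsB_transitive (v : Option (Fin 22 ⊕ hsB)) :
    ∃ φ : pointBlockGraph hsB ≃g pointBlockGraph hsB, φ none = v := by
  obtain ⟨φ, hφ⟩ := hs_transitive (hsIso.symm v)
  refine ⟨(hsIso.symm.trans φ).trans hsIso, ?_⟩
  have h0 : hsIso.symm none = none := by
    rw [← hsIso_none, RelIso.symm_apply_apply]
  simp only [RelIso.trans_apply, h0, hφ, RelIso.apply_symm_apply]

theorem card_hsB : Nat.card hsB = 77 := by
  unfold hsB
  rw [Nat.card_congr (Equiv.ofInjective hsBlk hsBlk_injective).symm]
  simp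

end Cfsg.Agent.Lib.Helper93
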