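import Mathlib
import Cfsg.Agent.Lib.Helper38.HallAlt.Defs

/-!
# K-HB-D4 (keystone 253829): explicit `{2,3}`-subgroups of `Alt 7` and `Alt 8` (a copy of `A_4`
acting on the six edges of a tetrahedron) lying in no 3-set stabiliser / no 4|4-partition
stabiliser.
-/

set_option autoImplicit false
open scoped Pointwise

namespace Cfsg.Agent.Lib.Helper93.HallAlt
open Cfsg.Agent.Lib.Helper38.HallAlt

theorem d4_prime_dvd_twelve {p : ℕ} (hp : p.Prime) (h : p ∣ 12) : p = 2 ∨ p = 3 := by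
  have h' : p ∣ 2 ^ 2 * 3 := by norm_num; exact h
  rcases (Nat.Prime.dvd_mul hp).1 h' with h1 | h1
  · exact Or.inl ((Nat.prime_dvd_prime_iff_eq hp Nat.prime_two).1 (hp.dvd_of_dvd_pow h1))
  · exact Or.inr ((Nat.prime_dvd_prime_iff_eq hp Nat.prime_three).1 h1)

/-- a permutation from its table and the table of its inverse -/
def d4mk {n : ℕ} (f g : Fin n → Fin n) (h1 : ∀ x, g (f x) = x := by decide)
    (h2 : ∀ x, f (g x) = x := by decide) : Equiv.Perm (Fin n) := ⟨f, g, h1, h2⟩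

/-- a permutation stabilising the set `↑D` maps the finset `D` onto itself -/
theorem d4_image_eq_of_smul {n : ℕ} (g : Equiv.Perm (Fin n)) (D : Finset (Fin n))
    (h : g • (↑D : Set (Fin n)) = ↑D) : D.image g = D := by
  apply Finset.coe_injective
  rw [Finset.coe_image]
  exact h

theorem d4_image_eq_of_smul' {n : ℕ} (g : Equiv.Perm (Fin n)) (D E : Finset (Fin n))
    (h : g • (↑D : Set (Fin n)) = ↑E) : D.image g = E := by
  apply Finset.coe_injective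
  rw [Finset.coe_image]
  exact h

/-- the twelve elements of `A_4` on the six edges of a tetrahedron, inside `Perm (Fin 7)` -/
def d4List7 : List (Equiv.Perm (Fin 7)) :=
  [d4mk ![0, 1, 2, 3, 4, 5, 6] ![0, 1, 2, 3, 4, 5, 6],
   d4mk ![0, 4, 3, 2, 1, 5, 6] ![0, 4, 3, 2, 1, 5, 6],
   d4mk ![1, 2, 0, 5, 3, 4, 6] ![2, 0, 1, 4, 5, 3, 6],
   d4mk ![1, 3, 5, 0, 2, 4, 6] ![3, 0, 4, 1, 5, 2, 6],
   d4mk ![2, 0, 1, 4, 5, 3, 6] ![1, 2, 0, 5, 3, 4, 6],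
   d4mk ![2, 5, 4, 1, 0, 3, 6] ![4, 3, 0, 5, 2, 1, 6],
   d4mk ![3, 0, 4, 1, 5, 2, 6] ![1, 3, 5, 0, 2, 4, 6],
   d4mk ![3, 5, 1, 4, 0, 2, 6] ![4, 2, 5, 0, 3, 1, 6],
   d4mk ![4, 2, 5, 0, 3, 1, 6] ![3, 5, 1, 4, 0, 2, 6],
   d4mk ![4, 3, 0, 5, 2, 1, 6] ![2, 5, 4, 1, 0, 3, 6],
   d4mk ![5, 1, 3, 2, 4, 0, 6] ![5, 1, 3, 2, 4, 0, 6],
   d4mk ![5, 4, 2, 3, 1, 0, 6] ![5, 4, 2, 3, 1, 0, 6]]

/-- the two generators -/
def d4a7 : Equiv.Perm (Fin 7) := d4mk ![3, 0, 4, 1, 5, 2, 6] ![1, 3, 5, 0, 2, 4, 6]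

def d4b7 : Equiv.Perm (Fin 7) := d4mk ![4, 3, 0, 5, 2, 1, 6] ![2, 5, 4, 1, 0, 3, 6]

theorem d4a7_mem : d4a7 ∈ d4List7 := by decide +kernel

theorem d4b7_mem : d4b7 ∈ d4List7 := by decide +kernel

theorem d4List7_one : (1 : Equiv.Perm (Fin 7)) ∈ d4List7 := by decide +kernel

theorem d4List7_mul : ∀ x ∈ d4List7, ∀ y ∈ d4List7, x * y ∈ d4List7 := by
  have h : (d4List7.all fun x => d4List7.all fun y => decide (x * y ∈ d4List7)) = true := by
    decide +kernel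
  intro x hx y hy
  exact of_decide_eq_true (List.all_eq_true.1 (List.all_eq_true.1 h x hx) y hy)

theorem d4List7_inv : ∀ x ∈ d4List7, x⁻¹ ∈ d4List7 := by
  have h : (d4List7.all fun x => decide (x⁻¹ ∈ d4List7)) = true := by decide +kernel
  intro x hx
  exact of_decide_eq_true (List.all_eq_true.1 h x hx)

theorem d4List7_sq : ∀ g ∈ d4List7, ∃ x ∈ d4List7, ∃ y ∈ d4List7, g = x * x * (y * y) := by
  have h : (d4List7.all fun g => d4List7.any fun x => d4List7.any fun y =>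
      decide (g = x * x * (y * y))) = true := by decide +kernel
  intro g hg
  obtain ⟨x, hx, h1⟩ := List.any_eq_true.1 (List.all_eq_true.1 h g hg)
  obtain ⟨y, hy, h2⟩ := List.any_eq_true.1 h1
  exact ⟨x, hx, y, hy, of_decide_eq_true h2⟩

theorem d4List7_sign : ∀ x ∈ d4List7, Equiv.Perm.sign x = 1 := by
  intro g hg
  obtain ⟨x, -, y, -, rfl⟩ := d4List7_sq g hg
  simp only [map_mul, Int.units_mul_self, mul_one]

theorem d4List7_card : (d4List7.toFinset).card = 12 := by decide +kernel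

/-- `A_4` on six of the `7` points -/
def d4K7 : Subgroup (Equiv.Perm (Fin 7)) where
  carrier := {g | g ∈ d4List7}
  mul_mem' := fun hx hy => d4List7_mul _ hx _ hy
  one_mem' := d4List7_one
  inv_mem' := fun hx => d4List7_inv _ hx

theorem d4K7_card : Nat.card d4K7 = 12 := by
  have h : ((d4K7 : Subgroup (Equiv.Perm (Fin 7))) : Set (Equiv.Perm (Fin 7))) =
      ↑(d4List7.toFinset) := by
    ext g
    rw [Finset.mem_coe, List.mem_toFinset]
    rfl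
  have h2 : Nat.card d4K7 = Set.ncard ((d4K7 : Subgroup (Equiv.Perm (Fin 7))) :
      Set (Equiv.Perm (Fin 7))) := rfl
  rw [h2, h, Set.ncard_coe_finset, d4List7_card]

theorem d4K7_le : d4K7 ≤ altSub (Fin 7) := fun g hg =>
  (mem_altSub_iff g).2 (d4List7_sign g hg)

/-- the twelve elements of `A_4` on the six edges of a tetrahedron, inside `Perm (Fin 8)` -/
def d4List8 : List (Equiv.Perm (Fin 8)) :=
  [d4mk ![0, 1, 2, 3, 4, 5, 6, 7] ![0, 1, 2, 3, 4, 5, 6, 7],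
   d4mk ![0, 4, 3, 2, 1, 5, 6, 7] ![0, 4, 3, 2, 1, 5, 6, 7],
   d4mk ![1, 2, 0, 5, 3, 4, 6, 7] ![2, 0, 1, 4, 5, 3, 6, 7],
   d4mk ![1, 3, 5, 0, 2, 4, 6, 7] ![3, 0, 4, 1, 5, 2, 6, 7],
   d4mk ![2, 0, 1, 4, 5, 3, 6, 7] ![1, 2, 0, 5, 3, 4, 6, 7],
   d4mk ![2, 5, 4, 1, 0, 3, 6, 7] ![4, 3, 0, 5, 2, 1, 6, 7],
   d4mk ![3, 0, 4, 1, 5, 2, 6, 7] ![1, 3, 5, 0, 2, 4, 6, 7],
   d4mk ![3, 5, 1, 4, 0, 2, 6, 7] ![4, 2, 5, 0, 3, 1, 6, 7],
   d4mk ![4, 2, 5, 0, 3, 1, 6, 7] ![3, 5, 1, 4, 0, 2, 6, 7],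
   d4mk ![4, 3, 0, 5, 2, 1, 6, 7] ![2, 5, 4, 1, 0, 3, 6, 7],
   d4mk ![5, 1, 3, 2, 4, 0, 6, 7] ![5, 1, 3, 2, 4, 0, 6, 7],
   d4mk ![5, 4, 2, 3, 1, 0, 6, 7] ![5, 4, 2, 3, 1, 0, 6, 7]]

/-- the two generators -/
def d4a8 : Equiv.Perm (Fin 8) := d4mk ![3, 0, 4, 1, 5, 2, 6, 7] ![1, 3, 5, 0, 2, 4, 6, 7]

def d4b8 : Equiv.Perm (Fin 8) := d4mk ![4, 3, 0, 5, 2, 1, 6, 7] ![2, 5, 4, 1, 0, 3, 6, 7]

theorem d4a8_mem : d4a8 ∈ d4List8 := by decide +kernel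

theorem d4b8_mem : d4b8 ∈ d4List8 := by decide +kernel

theorem d4List8_one : (1 : Equiv.Perm (Fin 8)) ∈ d4List8 := by decide +kernel

theorem d4List8_mul : ∀ x ∈ d4List8, ∀ y ∈ d4List8, x * y ∈ d4List8 := by
  have h : (d4List8.all fun x => d4List8.all fun y => decide (x * y ∈ d4List8)) = true := by
    decide +kernel
  intro x hx y hy
  exact of_decide_eq_true (List.all_eq_true.1 (List.all_eq_true.1 h x hx) y hy)

theorem d4List8_inv : ∀ x ∈ d4List8, x⁻¹ ∈ d4List8 := by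
  have h : (d4List8.all fun x => decide (x⁻¹ ∈ d4List8)) = true := by decide +kernel
  intro x hx
  exact of_decide_eq_true (List.all_eq_true.1 h x hx)

theorem d4List8_sq : ∀ g ∈ d4List8, ∃ x ∈ d4List8, ∃ y ∈ d4List8, g = x * x * (y * y) := by
  have h : (d4List8.all fun g => d4List8.any fun x => d4List8.any fun y =>
      decide (g = x * x * (y * y))) = true := by decide +kernel
  intro g hg
  obtain ⟨x, hx, h1⟩ := List.any_eq_true.1 (List.all_eq_true.1 h g hg)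
  obtain ⟨y, hy, h2⟩ := List.any_eq_true.1 h1
  exact ⟨x, hx, y, hy, of_decide_eq_true h2⟩

theorem d4List8_sign : ∀ x ∈ d4List8, Equiv.Perm.sign x = 1 := by
  intro g hg
  obtain ⟨x, -, y, -, rfl⟩ := d4List8_sq g hg
  simp only [map_mul, Int.units_mul_self, mul_one]

theorem d4List8_card : (d4List8.toFinset).card = 12 := by decide +kernel

/-- `A_4` on six of the `8` points -/
def d4K8 : Subgroup (Equiv.Perm (Fin 8)) where
  carrier := {g | g ∈ d4List8}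
  mul_mem' := fun hx hy => d4List8_mul _ hx _ hy
  one_mem' := d4List8_one
  inv_mem' := fun hx => d4List8_inv _ hx

theorem d4K8_card : Nat.card d4K8 = 12 := by
  have h : ((d4K8 : Subgroup (Equiv.Perm (Fin 8))) : Set (Equiv.Perm (Fin 8))) =
      ↑(d4List8.toFinset) := by
    ext g
    rw [Finset.mem_coe, List.mem_toFinset]
    rfl
  have h2 : Nat.card d4K8 = Set.ncard ((d4K8 : Subgroup (Equiv.Perm (Fin 8))) :
      Set (Equiv.Perm (Fin 8))) := rfl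
  rw [h2, h, Set.ncard_coe_finset, d4List8_card]

theorem d4K8_le : d4K8 ≤ altSub (Fin 8) := fun g hg =>
  (mem_altSub_iff g).2 (d4List8_sign g hg)

theorem d4_no3 : ∀ D : Finset (Fin 7), D.card = 3 → ¬ (D.image d4a7 = D ∧ D.image d4b7 = D) := by
  decide +kernel

theorem d4_no44 : ∀ D : Finset (Fin 8), D.card = 4 →
    ¬ ((D.image d4a8 = D ∨ D.image d4a8 = Dᶜ) ∧ (D.image d4b8 = D ∨ D.image d4b8 = Dᶜ)) := by
  decide +kernel

/-- **K-HB-D4** (253829). -/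
theorem typeB_counter :
    (∃ K : Subgroup (Equiv.Perm (Fin 7)), K ≤ altSub (Fin 7) ∧
      (∀ p : ℕ, p.Prime → p ∣ Nat.card K → p = 2 ∨ p = 3) ∧
      ∀ Δ : Set (Fin 7), Δ.ncard = 3 → ¬ K ≤ MulAction.stabilizer (Equiv.Perm (Fin 7)) Δ) ∧
    (∃ K : Subgroup (Equiv.Perm (Fin 8)), K ≤ altSub (Fin 8) ∧
      (∀ p : ℕ, p.Prime → p ∣ Nat.card K → p = 2 ∨ p = 3) ∧
      ∀ B : Set (Fin 8), B.ncard = 4 →
        ¬ K ≤ MulAction.stabilizer (Equiv.Perm (Fin 8)) ({B, Bᶜ} : Set (Set (Fin 8)))) := by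
  refine ⟨⟨d4K7, d4K7_le, ?_, ?_⟩, ⟨d4K8, d4K8_le, ?_, ?_⟩⟩
  · intro p hp h
    rw [d4K7_card] at h
    exact d4_prime_dvd_twelve hp h
  · intro Δ hΔ hle
    obtain ⟨D, rfl⟩ : ∃ D : Finset (Fin 7), (↑D : Set (Fin 7)) = Δ :=
      ⟨(Set.toFinite Δ).toFinset, Set.Finite.coe_toFinset _⟩
    rw [Set.ncard_coe_finset] at hΔ
    have ha : d4a7 • (↑D : Set (Fin 7)) = ↑D := MulAction.mem_stabilizer_iff.1 (hle d4a7_mem)
    have hb : d4b7 • (↑D : Set (Fin 7)) = ↑D := MulAction.mem_stabilizer_iff.1 (hle d4b7_mem)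
    exact d4_no3 D hΔ ⟨d4_image_eq_of_smul _ _ ha, d4_image_eq_of_smul _ _ hb⟩
  · intro p hp h
    rw [d4K8_card] at h
    exact d4_prime_dvd_twelve hp h
  · intro B hB hle
    obtain ⟨D, rfl⟩ : ∃ D : Finset (Fin 8), (↑D : Set (Fin 8)) = B :=
      ⟨(Set.toFinite B).toFinset, Set.Finite.coe_toFinset _⟩
    rw [Set.ncard_coe_finset] at hB
    have key : ∀ g : Equiv.Perm (Fin 8),
        g • ({(↑D : Set (Fin 8)), (↑D : Set (Fin 8))ᶜ} : Set (Set (Fin 8))) =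
          {(↑D : Set (Fin 8)), (↑D : Set (Fin 8))ᶜ} → D.image g = D ∨ D.image g = Dᶜ := by
      intro g hg
      have hmem : g • (↑D : Set (Fin 8)) ∈
          g • ({(↑D : Set (Fin 8)), (↑D : Set (Fin 8))ᶜ} : Set (Set (Fin 8))) :=
        Set.smul_mem_smul_set (Set.mem_insert _ _)
      rw [hg] at hmem
      rcases hmem with h1 | h1
      · exact Or.inl (d4_image_eq_of_smul _ _ h1)
      · refine Or.inr (d4_image_eq_of_smul' _ _ _ ?_)
        rw [Finset.coe_compl]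
        exact h1
    have ha := key d4a8 (MulAction.mem_stabilizer_iff.1 (hle d4a8_mem))
    have hb := key d4b8 (MulAction.mem_stabilizer_iff.1 (hle d4b8_mem))
    exact d4_no44 D hB ⟨ha, hb⟩

end Cfsg.Agent.Lib.Helper93.HallAlt
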