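import Mathlib
import Cfsg.Agent.Lib.Helper41.SchmidtPLDefs

/-!
# K-SPL-ISO (keystone 439410): `SchmidtIn` is intrinsic, it transfers along an isomorphism of the
subgroups (the ambient groups may differ).
-/

set_option autoImplicit false

namespace Cfsg.Agent.Lib.Helper93.SPL

open Cfsg Cfsg.Agent.Lib.Helper41.SchmidtPL
open scoped commutatorElement

theorem iso_mem_zIn_iff_forall {W : Type*} [Group W] {Q : Subgroup W} (a : ↥Q) :
    (a : W) ∈ zIn Q ↔ ∀ b : ↥Q, b * a = a * b := by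
  rw [mem_zIn]
  constructor
  · rintro ⟨-, h⟩ b
    exact Subtype.ext (h b.1 b.2)
  · intro h
    refine ⟨a.2, fun x hx => ?_⟩
    exact congrArg Subtype.val (h ⟨x, hx⟩)

theorem iso_mem_zIn_iff {W W' : Type*} [Group W] [Group W'] {Q : Subgroup W}
    {Q' : Subgroup W'} (e : ↥Q ≃* ↥Q') (a : ↥Q) :
    (a : W) ∈ zIn Q ↔ ((e a : ↥Q') : W') ∈ zIn Q' := by
  rw [iso_mem_zIn_iff_forall, iso_mem_zIn_iff_forall]
  constructor
  · intro h b'
    obtain ⟨b, rfl⟩ := e.surjective b'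
    rw [← map_mul, ← map_mul, h b]
  · intro h b
    apply e.injective
    rw [map_mul, map_mul, h (e b)]

theorem iso_exists_eq {W W' : Type*} [Group W] [Group W'] {Q : Subgroup W}
    {Q' : Subgroup W'} (e : ↥Q ≃* ↥Q') {x' : W'} (hx' : x' ∈ Q') :
    ∃ a : ↥Q, ((e a : ↥Q') : W') = x' :=
  ⟨e.symm ⟨x', hx'⟩, by simp⟩

theorem iso_comm {W W' : Type*} [Group W] [Group W'] {Q : Subgroup W}
    {Q' : Subgroup W'} (e : ↥Q ≃* ↥Q') (a b : ↥Q) :
    ⁅((e a : ↥Q') : W'), ((e b : ↥Q') : W')⁆ = ((e ⁅a, b⁆ : ↥Q') : W') := by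
  simp [commutatorElement_def]

theorem schmidtIn_of_mulEquiv {W W' : Type*} [Group W] [Group W'] {p : ℕ} {Q : Subgroup W}
    {Q' : Subgroup W'} (e : ↥Q ≃* ↥Q') (h : SchmidtIn p Q) : SchmidtIn p Q' := by
  refine ⟨?_, ?_, ?_, ?_, ?_⟩
  · obtain ⟨x, hx, y, hy, hxy⟩ := h.nonab
    refine ⟨(e ⟨x, hx⟩ : ↥Q'), (e ⟨x, hx⟩).2, (e ⟨y, hy⟩ : ↥Q'), (e ⟨y, hy⟩).2, ?_⟩
    intro hcon
    apply hxy
    have h1 : e ⟨x, hx⟩ * e ⟨y, hy⟩ = e ⟨y, hy⟩ * e ⟨x, hx⟩ := Subtype.ext hcon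
    rw [← map_mul, ← map_mul] at h1
    exact congrArg Subtype.val (e.injective h1)
  · intro x' hx' y' hy'
    obtain ⟨a, rfl⟩ := iso_exists_eq e hx'
    obtain ⟨b, rfl⟩ := iso_exists_eq e hy'
    rw [iso_comm, ← iso_mem_zIn_iff]
    have := h.class2 a a.2 b b.2
    simpa [commutatorElement_def] using this
  · intro x' hx' hxz z' hz'
    obtain ⟨a, rfl⟩ := iso_exists_eq e hx'
    have hz'Q : z' ∈ Q' := (mem_zIn.1 hz').1
    obtain ⟨c, rfl⟩ := iso_exists_eq e hz'Q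
    rw [← iso_mem_zIn_iff] at hxz hz'
    obtain ⟨g, hg, hgc⟩ := h.camina a a.2 hxz c hz'
    refine ⟨(e ⟨g, hg⟩ : ↥Q'), (e ⟨g, hg⟩).2, ?_⟩
    rw [iso_comm]
    have : ⁅a, (⟨g, hg⟩ : ↥Q)⁆ = c := by
      apply Subtype.ext
      rw [← hgc]
      simp [commutatorElement_def]
    rw [this]
  · intro z' hz'
    have hz'Q : z' ∈ Q' := (mem_zIn.1 hz').1
    obtain ⟨c, rfl⟩ := iso_exists_eq e hz'Q
    rw [← iso_mem_zIn_iff] at hz'
    have h1 : (c : W) ^ p = 1 := h.expZ c hz'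
    have h2 : c ^ p = 1 := Subtype.ext (by simpa using h1)
    have h3 : (e c) ^ p = 1 := by rw [← map_pow, h2, map_one]
    have := congrArg Subtype.val h3
    simpa using this
  · intro hcard
    have hcQ : Nat.card ↥Q = p ^ 3 := by
      rw [← hcard]
      exact Nat.card_congr e.toEquiv
    obtain ⟨h3, h2⟩ := h.small hcQ
    refine ⟨h3, fun hp x' hx' hxz => ?_⟩
    obtain ⟨a, rfl⟩ := iso_exists_eq e hx'
    rw [← iso_mem_zIn_iff] at hxz
    have h1 : (a : W) ^ 2 ≠ 1 := h2 hp a a.2 hxz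
    intro hcon
    apply h1
    have h4 : (e a) ^ 2 = 1 := Subtype.ext (by simpa using hcon)
    rw [← map_pow] at h4
    have h5 : a ^ 2 = 1 := e.injective (by rw [h4, map_one])
    have := congrArg Subtype.val h5
    simpa using this

end Cfsg.Agent.Lib.Helper93.SPL
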