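import Cfsg.Agent.Lib.Helper37.G2InvDefs

/-!
# K-G2I pack (S2177), leaf C3 (217703): `x 7 c` acting on `x 6 s` and `x 6 c` acting on `x 7 t`
-/

set_option autoImplicit false
set_option linter.unusedSectionVars false
set_option linter.unusedVariables false

namespace Cfsg.Agent.Lib.Helper93.G2Inv

open Cfsg.Agent.Lib.Helper37.G2Inv

variable {F : Type*} [Field F] [CharP F 2] {G : Type*} [Group G] (D : UData F G)

/-- cancelling a repeated letter -/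
theorem c3_sq_assoc (r : ℕ) (t : F) (R : G) : D.x r t * (D.x r t * R) = R := by
  rw [← mul_assoc, D.x_sq, one_mul]

theorem c3_add_assoc (r : ℕ) (t u : F) (R : G) : D.x r t * (D.x r u * R) = D.x r (t + u) * R := by
  rw [← mul_assoc, D.add]

/-! ### pushing `x 7 c` to the right -/

theorem c3_p78 (c s : F) (R : G) :
    D.x 7 c * (D.x 8 s * R) = D.x 8 s * (D.x 10 (c ^ 2 * s) * (D.x 11 (c * s ^ 2) * (D.x 7 c * R))) := by
  have e : D.x 7 c * D.x 8 s * D.x 7 c = D.x 8 s * (D.x 10 (c ^ 2 * s) * D.x 11 (c * s ^ 2)) := by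
    rw [mul_assoc, D.r78 c s]
    simp only [mul_assoc]
    rw [c3_sq_assoc]
  have e2 : D.x 7 c * D.x 8 s =
      D.x 8 s * (D.x 10 (c ^ 2 * s) * D.x 11 (c * s ^ 2)) * D.x 7 c := by
    rw [← e, mul_assoc _ (D.x 7 c) (D.x 7 c), D.x_sq, mul_one]
  rw [← mul_assoc, e2]
  simp only [mul_assoc]

theorem c3_p79 (c a : F) (R : G) :
    D.x 7 c * (D.x 9 a * R) = D.x 9 a * (D.x 10 (c * a) * (D.x 7 c * R)) := by
  have e : D.x 7 c * D.x 9 a * D.x 7 c = D.x 9 a * D.x 10 (c * a) := by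
    rw [mul_assoc, D.r79 c a, ← mul_assoc, ← mul_assoc, D.x_sq, one_mul]
  have e2 : D.x 7 c * D.x 9 a = D.x 9 a * D.x 10 (c * a) * D.x 7 c := by
    rw [← e, mul_assoc _ (D.x 7 c) (D.x 7 c), D.x_sq, mul_one]
  rw [← mul_assoc, e2]
  simp only [mul_assoc]

theorem c3_p710 (c b : F) (R : G) : D.x 7 c * (D.x 10 b * R) = D.x 10 b * (D.x 7 c * R) := by
  rw [← mul_assoc, D.c710, mul_assoc]

/-! ### pushing `x 6 c` to the right -/

theorem c3_p610 (c b : F) (R : G) :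
    D.x 6 c * (D.x 10 b * R) = D.x 10 b * (D.x 11 (c * b) * (D.x 6 c * R)) := by
  have e : D.x 6 c * D.x 10 b * D.x 6 c = D.x 10 b * D.x 11 (c * b) := by
    rw [mul_assoc, D.r610 c b, ← mul_assoc, ← mul_assoc, D.x_sq, one_mul]
  have e2 : D.x 6 c * D.x 10 b = D.x 10 b * D.x 11 (c * b) * D.x 6 c := by
    rw [← e, mul_assoc _ (D.x 6 c) (D.x 6 c), D.x_sq, mul_one]
  rw [← mul_assoc, e2]
  simp only [mul_assoc]

theorem c3_p69 (c a : F) (R : G) : D.x 6 c * (D.x 9 a * R) = D.x 9 a * (D.x 6 c * R) := by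
  rw [← mul_assoc, D.c69, mul_assoc]

theorem c3_p68 (c a : F) (R : G) : D.x 6 c * (D.x 8 a * R) = D.x 8 a * (D.x 6 c * R) := by
  rw [← mul_assoc, D.c68, mul_assoc]

theorem c3_p611 (c a : F) (R : G) : D.x 6 c * (D.x 11 a * R) = D.x 11 a * (D.x 6 c * R) := by
  rw [← mul_assoc, D.c611, mul_assoc]

/-! ### commuting letters of `Z` -/

theorem c3_p119 (g a : F) (R : G) : D.x 11 g * (D.x 9 a * R) = D.x 9 a * (D.x 11 g * R) := by
  rw [← mul_assoc, ← D.c911, mul_assoc]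

theorem c3_p109 (b a : F) (R : G) : D.x 10 b * (D.x 9 a * R) = D.x 9 a * (D.x 10 b * R) := by
  rw [← mul_assoc, ← D.c910, mul_assoc]

theorem c3_p1110 (g b : F) (R : G) : D.x 11 g * (D.x 10 b * R) = D.x 10 b * (D.x 11 g * R) := by
  rw [← mul_assoc, ← D.c1011, mul_assoc]

theorem c3_p108 (b s : F) (R : G) : D.x 10 b * (D.x 8 s * R) = D.x 8 s * (D.x 10 b * R) := by
  rw [← mul_assoc, ← D.c810, mul_assoc]

theorem c3_p118 (g s : F) (R : G) : D.x 11 g * (D.x 8 s * R) = D.x 8 s * (D.x 11 g * R) := by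
  rw [← mul_assoc, ← D.c811, mul_assoc]

theorem c3_p98 (a s : F) (R : G) :
    D.x 9 a * (D.x 8 s * R) = D.x 8 s * (D.x 9 a * (D.x 11 (s * a) * R)) := by
  rw [← mul_assoc, D.r89 s a]
  simp only [mul_assoc]

/-- LEAF C3, first formula -/
theorem c76 (c s : F) : D.x 7 c * D.x 6 s * (D.x 7 c)⁻¹ =
    D.x 6 s * (D.x 8 (c * s) * (D.x 9 (c ^ 2 * s) * (D.x 10 (c ^ 3 * s) * D.x 11 (c ^ 3 * s ^ 2)))) := by
  rw [D.x_inv, D.r67 s c]
  simp only [mul_assoc]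
  rw [c3_p78, c3_p79, c3_p710, D.x_sq, mul_one, D.add]
  have h0 : c * (s * c ^ 2) + s * c ^ 3 = 0 := by
    have : c * (s * c ^ 2) + s * c ^ 3 = s * c ^ 3 + s * c ^ 3 := by ring
    rw [this, CharTwo.add_self_eq_zero]
  rw [h0, D.x_zero, mul_one]
  -- x6 s * (x8 (s*c) * (x10 _ * (x11 _ * x9 _)))
  rw [← D.c911, ← mul_assoc (D.x 10 _) (D.x 9 _), ← D.c910, mul_assoc]
  rw [show s * c = c * s by ring, show s * c ^ 2 = c ^ 2 * s by ring,
    show c ^ 2 * (c * s) = c ^ 3 * s by ring, show c * (c * s) ^ 2 = c ^ 3 * s ^ 2 by ring]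

/-- LEAF C3, second formula -/
theorem c67 (c t : F) : D.x 6 c * D.x 7 t * (D.x 6 c)⁻¹ =
    D.x 7 t * (D.x 8 (c * t) * (D.x 9 (c * t ^ 2) * D.x 10 (c * t ^ 3))) := by
  -- `x6 c * x7 t = x7 t * x6 c * W⁻¹`
  have hW : (D.x 8 (c * t) * (D.x 9 (c * t ^ 2) * D.x 10 (c * t ^ 3)))⁻¹ =
      D.x 10 (c * t ^ 3) * (D.x 9 (c * t ^ 2) * D.x 8 (c * t)) := by
    rw [mul_inv_rev, mul_inv_rev, D.x_inv, D.x_inv, D.x_inv, mul_assoc]
  have h1 : D.x 6 c * D.x 7 t =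
      D.x 7 t * D.x 6 c * (D.x 10 (c * t ^ 3) * (D.x 9 (c * t ^ 2) * D.x 8 (c * t))) := by
    rw [← hW, D.r67 c t, mul_assoc (D.x 6 c * D.x 7 t), mul_inv_cancel, mul_one]
  rw [D.x_inv, h1]
  simp only [mul_assoc]
  rw [c3_p610, c3_p69, c3_p68, D.x_sq, mul_one]
  -- x7 t * (x10 _ * (x11 _ * (x9 _ * x8 _)))
  rw [D.r89 (c * t) (c * t ^ 2)]
  simp only [mul_assoc]
  rw [c3_p118, c3_p108, c3_p119, c3_p109, D.add]
  have h0 : c * (c * t ^ 3) + c * (t * (c * t ^ 2)) = 0 := by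
    have : c * (c * t ^ 3) + c * (t * (c * t ^ 2)) = c ^ 2 * t ^ 3 + c ^ 2 * t ^ 3 := by ring
    rw [this, CharTwo.add_self_eq_zero]
  rw [h0, D.x_zero, mul_one]

end Cfsg.Agent.Lib.Helper93.G2Inv
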