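import Mathlib
import Cfsg.Agent.Lib.Helper94.THDefs

/-!
# K-TH-B3 (keystone 163205): the dual form of `A x` is `rq A x`
-/

set_option autoImplicit false

namespace Cfsg.Agent.Lib.Helper93.TH

open Matrix Complex
open Cfsg.Agent.Lib.Helper94.TH

/-- completing the square (own copy of THB2) -/
theorem rq_cons_aux {n : ℕ} {A : Matrix (Fin (n + 1)) (Fin (n + 1)) ℝ} (hA : A.IsSymm)
    (h0 : A 0 0 ≠ 0) (m : ℝ) (y : Fin n → ℝ) :
    rq A (Fin.cons m y) =
      A 0 0 * (m + (∑ i, A 0 i.succ * y i) / A 0 0) ^ 2 + rq (schur A) y := by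
  have hsym : ∀ i : Fin n, A i.succ 0 = A 0 i.succ := fun i => hA.apply 0 i.succ
  set β := ∑ i, A 0 i.succ * y i with hβ
  have h1 : rq A (Fin.cons m y) =
      A 0 0 * m ^ 2 + 2 * m * β + ∑ i, ∑ j, y i * A i.succ j.succ * y j := by
    unfold rq
    simp only [dotProduct, Matrix.mulVec, Fin.sum_univ_succ, Fin.cons_zero, Fin.cons_succ]
    simp only [mul_add, Finset.sum_add_distrib, hsym, Finset.mul_sum]
    have e1 : ∑ i : Fin n, y i * (A 0 i.succ * m) = m * β := by
      rw [hβ, Finset.mul_sum]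
      apply Finset.sum_congr rfl
      intro i _
      ring
    have e2 : ∑ i : Fin n, m * (A 0 i.succ * y i) = m * β := by
      rw [hβ, Finset.mul_sum]
    have e3 : ∑ i : Fin n, ∑ j : Fin n, y i * (A i.succ j.succ * y j) =
        ∑ i : Fin n, ∑ j : Fin n, y i * A i.succ j.succ * y j := by
      apply Finset.sum_congr rfl
      intro i _
      apply Finset.sum_congr rfl
      intro j _
      ring
    rw [e1, e2, e3]
    ring
  have h2 : rq (schur A) y =
      ∑ i, ∑ j, y i * A i.succ j.succ * y j - β ^ 2 / A 0 0 := by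
    unfold rq schur
    simp only [dotProduct, Matrix.mulVec, Matrix.of_apply, hsym]
    have : β ^ 2 / A 0 0 = ∑ i : Fin n, ∑ j : Fin n, y i * (A 0 i.succ * A 0 j.succ / A 0 0) * y j := by
      rw [pow_two, hβ, Finset.sum_mul_sum, Finset.sum_div]
      apply Finset.sum_congr rfl
      intro i _
      rw [Finset.sum_div]
      apply Finset.sum_congr rfl
      intro j _
      ring
    rw [this, ← Finset.sum_sub_distrib]
    apply Finset.sum_congr rfl
    intro i _
    rw [Finset.mul_sum, ← Finset.sum_sub_distrib]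
    apply Finset.sum_congr rfl
    intro j _
    ring
  rw [h1, h2]
  field_simp
  ring

/-- own copy of THB1 -/
theorem schur_isPD_aux {n : ℕ} {A : Matrix (Fin (n + 1)) (Fin (n + 1)) ℝ} (hA : IsPD A) :
    0 < A 0 0 ∧ IsPD (schur A) := by
  obtain ⟨hsym, hpos⟩ := hA
  have ha : 0 < A 0 0 := by
    have h := hpos (Pi.single 0 1) (by
      intro h
      have := congrFun h 0
      simp at this)
    have e : rq A (Pi.single 0 1) = A 0 0 := by
      unfold rq
      simp [single_dotProduct]
    rwa [e] at h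
  refine ⟨ha, ?_, ?_⟩
  · ext i j
    simp only [Matrix.transpose_apply, schur, Matrix.of_apply]
    rw [hsym.apply j.succ i.succ, hsym.apply 0 i.succ, ← hsym.apply j.succ 0]
    ring
  · intro y hy
    have h := hpos (Fin.cons (-(∑ i, A 0 i.succ * y i) / A 0 0) y) (by
      intro h
      apply hy
      ext i
      have := congrFun h i.succ
      simpa using this)
    rw [rq_cons_aux hsym ha.ne'] at h
    have e : -(∑ i, A 0 i.succ * y i) / A 0 0 + (∑ i, A 0 i.succ * y i) / A 0 0 = 0 := by ring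
    rw [e] at h
    simpa using h

/-- LEAF THB3. -/
theorem dq_mulVec {n : ℕ} {A : Matrix (Fin n) (Fin n) ℝ} (hA : IsPD A) (x : Fin n → ℝ) :
    dq n A (fun i => ((A *ᵥ x) i : ℂ)) = (rq A x : ℂ) := by
  induction n with
  | zero => simp [dq, rq, dotProduct]
  | succ n ih =>
    obtain ⟨ha, hS⟩ := schur_isPD_aux hA
    have ha' : A 0 0 ≠ 0 := ha.ne'
    have hac : (A 0 0 : ℂ) ≠ 0 := by exact_mod_cast ha'
    have hsym : ∀ i : Fin n, A i.succ 0 = A 0 i.succ := fun i => hA.1.apply 0 i.succ
    set m := x 0 with hm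
    set y : Fin n → ℝ := fun i => x i.succ with hy
    have hx : x = Fin.cons m y := by
      ext i
      refine Fin.cases ?_ (fun j => ?_) i <;> simp [hm, hy]
    set β := ∑ i, A 0 i.succ * y i with hβ
    have h0 : (A *ᵥ x) 0 = A 0 0 * m + β := by
      simp only [Matrix.mulVec, dotProduct, Fin.sum_univ_succ, hβ, hm, hy]
    have hs : ∀ i : Fin n,
        (A *ᵥ x) i.succ - (A *ᵥ x) 0 * A 0 i.succ / A 0 0 = (schur A *ᵥ y) i := by
      intro i
      rw [h0]
      simp only [Matrix.mulVec, dotProduct, Fin.sum_univ_succ, schur, Matrix.of_apply, hsym]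
      have e : ∑ j : Fin n, (A i.succ j.succ - A 0 i.succ * A 0 j.succ / A 0 0) * y j =
          ∑ j : Fin n, A i.succ j.succ * y j - A 0 i.succ * β / A 0 0 := by
        rw [hβ, Finset.mul_sum, Finset.sum_div, ← Finset.sum_sub_distrib]
        apply Finset.sum_congr rfl
        intro j _
        ring
      rw [e]
      change A 0 i.succ * m + ∑ j : Fin n, A i.succ j.succ * y j -
        (A 0 0 * m + β) * A 0 i.succ / A 0 0 = _
      field_simp
      ring
    have hs' : (fun i : Fin n => (((A *ᵥ x) i.succ : ℝ) : ℂ) -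
        (((A *ᵥ x) 0 : ℝ) : ℂ) * (A 0 i.succ : ℂ) / (A 0 0 : ℂ)) =
        fun i => (((schur A *ᵥ y) i : ℝ) : ℂ) := by
      funext i
      rw [← hs i]
      push_cast
      rfl
    rw [dq, hs', ih hS y, h0, hx, rq_cons_aux hA.1 ha' m y, ← hβ]
    push_cast
    field_simp

end Cfsg.Agent.Lib.Helper93.TH
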