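import Mathlib

set_option linter.unusedSectionVars false

namespace Cfsg.Agent.Lib.Helper93.SNC

/-- X5 of helper48's K-SN pack (S4073): the order of `PSL₂(2^a)` divides the order of
`PSL₂(2^n)` with `n` prime only for `a = 1` or `a = n`. -/
theorem num_two_trans {n a : ℕ} (hn : n.Prime) (ha : 1 ≤ a)
    (hdvd : (2 ^ a + 1) * 2 ^ a * (2 ^ a - 1) ∣ 2 ^ n * ((2 ^ n) ^ 2 - 1)) :
    a = 1 ∨ a = n := by
  have h1 : 1 ≤ 2 ^ a := Nat.one_le_two_pow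
  -- `(2^a+1)(2^a-1) = 2^(2a) - 1`
  have hprod : (2 ^ a + 1) * (2 ^ a - 1) = 2 ^ (2 * a) - 1 := by
    have : (2 : ℕ) ^ (2 * a) = 2 ^ a * 2 ^ a := by rw [two_mul, pow_add]
    rw [this]
    obtain ⟨k, hk⟩ : ∃ k, 2 ^ a = k + 1 := ⟨2 ^ a - 1, by omega⟩
    rw [hk]
    simp only [Nat.add_sub_cancel]
    have : (k + 1) * (k + 1) = (k + 1 + 1) * k + 1 := by ring
    rw [this, Nat.add_sub_cancel]
  have hd1 : 2 ^ (2 * a) - 1 ∣ 2 ^ n * ((2 ^ n) ^ 2 - 1) := by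
    refine Dvd.dvd.trans ?_ hdvd
    rw [← hprod]
    exact ⟨2 ^ a, by ring⟩
  have hn2 : ((2 : ℕ) ^ n) ^ 2 = 2 ^ (2 * n) := by rw [← pow_mul, mul_comm]
  rw [hn2] at hd1
  -- `2^(2a) - 1` is odd
  have hodd : Nat.Coprime (2 ^ (2 * a) - 1) (2 ^ n) := by
    apply Nat.Coprime.pow_right
    rw [Nat.coprime_two_right]
    have hpos : 0 < 2 * a := by omega
    have : Even (2 ^ (2 * a)) := (Nat.even_pow' (by omega)).mpr even_two
    exact Nat.Even.sub_odd Nat.one_le_two_pow this odd_one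
  have hd2 : 2 ^ (2 * a) - 1 ∣ 2 ^ (2 * n) - 1 := hodd.dvd_of_dvd_mul_left hd1
  have hg : Nat.gcd (2 ^ (2 * a) - 1) (2 ^ (2 * n) - 1) = 2 ^ (2 * a) - 1 :=
    Nat.gcd_eq_left hd2
  rw [Nat.pow_sub_one_gcd_pow_sub_one] at hg
  have hg2 : (2 : ℕ) ^ Nat.gcd (2 * a) (2 * n) = 2 ^ (2 * a) := by
    have e1 : 1 ≤ (2 : ℕ) ^ Nat.gcd (2 * a) (2 * n) := Nat.one_le_two_pow
    have e2 : 1 ≤ (2 : ℕ) ^ (2 * a) := Nat.one_le_two_pow
    omega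
  have hg3 : Nat.gcd (2 * a) (2 * n) = 2 * a := Nat.pow_right_injective (le_refl 2) hg2
  have hd3 : 2 * a ∣ 2 * n := by
    rw [← hg3]; exact Nat.gcd_dvd_right _ _
  have hd4 : a ∣ n := (Nat.mul_dvd_mul_iff_left (by norm_num : 0 < 2)).mp hd3
  exact (Nat.dvd_prime hn).mp hd4

end Cfsg.Agent.Lib.Helper93.SNC
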