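import Cfsg.Agent.Lib.Helper49.OElDefs
import Cfsg.Agent.Lib.Helper50.SumForm
import Cfsg.Agent.Lib.Helper50.GeoBridge
import Cfsg.Agent.Lib.Helper50.OmegaAdjust
import Cfsg.Agent.Lib.Helper50.PlusForm
import Cfsg.Agent.Lib.Helper50.ElusiveUnip

/-!
# K-OEl-I (keystone 598817): the unipotent element `[[1, A], [0, 1]]` of `Ω⁺_(2d)(q)`, any `q`,
`A` alternating of rank `2 ⌊d/2⌋`.
-/

set_option autoImplicit false
set_option linter.unusedSectionVars false
set_option linter.unusedVariables false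

namespace Cfsg.Agent.Lib.Helper93.OEl

open Module Matrix Cfsg.Agent.Lib.Helper98.Elus Cfsg.Agent.Lib.Helper98.Sy Cfsg.Agent.Lib.Helper38.OhP
  Cfsg.Agent.Lib.Helper49.OEl Cfsg.Agent.Lib.Helper50

universe u
variable {F : Type u} [Field F]

/-! ### index bookkeeping -/

/-- `Fin d ≃ (Fin (d/2) ⊕ Fin (d/2)) ⊕ Fin (d % 2)` -/
def iPhi (d : ℕ) : Fin d ≃ (Fin (d / 2) ⊕ Fin (d / 2)) ⊕ Fin (d % 2) :=
  (finCongr (by omega : d = (d / 2 + d / 2) + d % 2)).trans
    ((finSumFinEquiv.symm).trans (Equiv.sumCongr finSumFinEquiv.symm (Equiv.refl _)))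

/-- the involution pairing the two halves -/
def iSig (d : ℕ) (i : Fin d) : Fin d := (iPhi d).symm (Sum.map Sum.swap id (iPhi d i))

/-- the fixed points of `iSig` -/
def iFix (d : ℕ) (i : Fin d) : Prop := (iPhi d i).isRight = true

instance (d : ℕ) : DecidablePred (iFix d) := fun i => by unfold iFix; infer_instance

/-- the signs -/
def iEps (F : Type u) [Field F] (d : ℕ) (i : Fin d) : F :=
  match iPhi d i with
  | Sum.inl (Sum.inl _) => 1
  | Sum.inl (Sum.inr _) => -1
  | Sum.inr _ => 0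

theorem iPhi_iSig (d : ℕ) (i : Fin d) : iPhi d (iSig d i) = Sum.map Sum.swap id (iPhi d i) := by
  unfold iSig
  rw [Equiv.apply_symm_apply]

theorem iSig_iSig (d : ℕ) (i : Fin d) : iSig d (iSig d i) = i := by
  apply (iPhi d).injective
  rw [iPhi_iSig, iPhi_iSig]
  rcases iPhi d i with (a | a) | a <;> rfl

theorem iEps_iSig (d : ℕ) (i : Fin d) : iEps F d (iSig d i) = - iEps F d i := by
  unfold iEps
  rw [iPhi_iSig]
  rcases iPhi d i with (a | a) | a <;> simp

theorem iFix_iSig (d : ℕ) (i : Fin d) : iFix d (iSig d i) ↔ iFix d i := by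
  unfold iFix
  rw [iPhi_iSig]
  rcases iPhi d i with (a | a) | a <;> simp

theorem iEps_ne_zero (d : ℕ) (i : Fin d) (h : ¬ iFix d i) : iEps F d i ≠ 0 := by
  unfold iFix at h
  unfold iEps
  rcases hi : iPhi d i with (a | a) | a
  · simp
  · simp
  · rw [hi] at h
    simp at h

theorem iEps_eq_zero (d : ℕ) (i : Fin d) (h : iFix d i) : iEps F d i = 0 := by
  unfold iFix at h
  unfold iEps
  rcases hi : iPhi d i with (a | a) | a
  · rw [hi] at h; simp at h
  · rw [hi] at h; simp at h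
  · rfl

theorem iFix_of_iSig_eq (d : ℕ) (i : Fin d) (h : iSig d i = i) : iFix d i := by
  have h1 := congrArg (iPhi d) h
  rw [iPhi_iSig] at h1
  unfold iFix
  rcases hi : iPhi d i with (a | a) | a
  · rw [hi] at h1; simp at h1
  · rw [hi] at h1; simp at h1
  · rfl

theorem card_iFix (d : ℕ) : Fintype.card {i // iFix d i} = d % 2 := by
  have e : {i // iFix d i} ≃
      {t : (Fin (d / 2) ⊕ Fin (d / 2)) ⊕ Fin (d % 2) // t.isRight = true} :=
    (iPhi d).subtypeEquiv (fun i => Iff.rfl)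
  rw [Fintype.card_congr e, card_sum_subtype]
  simp

theorem card_not_iFix (d : ℕ) : Fintype.card {i // ¬ iFix d i} = 2 * (d / 2) := by
  have e : {i // ¬ iFix d i} ≃
      {t : (Fin (d / 2) ⊕ Fin (d / 2)) ⊕ Fin (d % 2) // ¬ t.isRight = true} :=
    (iPhi d).subtypeEquiv (fun i => Iff.rfl)
  rw [Fintype.card_congr e, card_sum_subtype]
  simp
  omega

theorem sum_iEps (d : ℕ) (b : Fin d → F) : ∑ i, iEps F d i * b (iSig d i) * b i = 0 := by
  refine Finset.sum_involution (fun i _ => iSig d i) ?_ ?_ ?_ ?_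
  · intro i _
    rw [iSig_iSig, iEps_iSig]
    ring
  · intro i _ hne hfix
    apply hne
    rw [iEps_eq_zero d i (iFix_of_iSig_eq d i hfix)]
    ring
  · intro i _
    exact Finset.mem_univ _
  · intro i _
    exact iSig_iSig d i

/-! ### the matrix -/

/-- the alternating matrix `A` -/
def altMat (F : Type u) [Field F] (d : ℕ) : Matrix (Fin d) (Fin d) F :=
  Matrix.of fun i k => if k = iSig d i then iEps F d i else 0

theorem altMat_mulVec (d : ℕ) (b : Fin d → F) :
    altMat F d *ᵥ b = fun i => iEps F d i * b (iSig d i) := by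
  funext i
  simp [altMat, Matrix.mulVec, dotProduct]

/-- the unipotent matrix `[[1, A], [0, 1]]` -/
def uMat (F : Type u) [Field F] (d : ℕ) : Matrix (Fin d ⊕ Fin d) (Fin d ⊕ Fin d) F :=
  Matrix.fromBlocks 1 (altMat F d) 0 1

theorem uMat_mulVec (d : ℕ) (v : Fin d ⊕ Fin d → F) :
    uMat F d *ᵥ v =
      Sum.elim (fun i => v (Sum.inl i) + iEps F d i * v (Sum.inr (iSig d i)))
        (fun i => v (Sum.inr i)) := by
  unfold uMat
  rw [Matrix.fromBlocks_mulVec, altMat_mulVec]
  funext j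
  cases j <;> simp

theorem uMat_sub_one_mulVec (d : ℕ) (v : Fin d ⊕ Fin d → F) :
    (uMat F d - 1) *ᵥ v =
      Sum.elim (fun i => iEps F d i * v (Sum.inr (iSig d i))) (fun _ => 0) := by
  rw [Matrix.sub_mulVec, Matrix.one_mulVec, uMat_mulVec]
  funext j
  cases j <;> simp

theorem uMat_pow (d n : ℕ) : uMat F d ^ n = Matrix.fromBlocks 1 (n • altMat F d) 0 1 := by
  induction n with
  | zero => simp [Matrix.fromBlocks_one]
  | succ n ih =>
    rw [pow_succ, ih]
    unfold uMat
    rw [Matrix.fromBlocks_multiply]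
    simp only [Matrix.mul_one, Matrix.one_mul, Matrix.mul_zero, Matrix.zero_mul, add_zero,
      zero_add]
    rw [succ_nsmul, add_comm]

theorem uMat_mul_inv (d : ℕ) : uMat F d * Matrix.fromBlocks 1 (-altMat F d) 0 1 = 1 := by
  unfold uMat
  rw [Matrix.fromBlocks_multiply]
  simp [Matrix.fromBlocks_one]

theorem uMat_inv_mul (d : ℕ) : Matrix.fromBlocks 1 (-altMat F d) 0 1 * uMat F d = 1 := by
  unfold uMat
  rw [Matrix.fromBlocks_multiply]
  simp [Matrix.fromBlocks_one]

/-- the unipotent element of the general linear group -/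
def uGL (F : Type u) [Field F] (d : ℕ) : GL (Fin d ⊕ Fin d) F :=
  ⟨uMat F d, Matrix.fromBlocks 1 (-altMat F d) 0 1, uMat_mul_inv d, uMat_inv_mul d⟩

theorem uGL_val (d : ℕ) :
    ((uGL F d : GL (Fin d ⊕ Fin d) F) : Matrix (Fin d ⊕ Fin d) (Fin d ⊕ Fin d) F) = uMat F d := rfl

theorem uGL_mem_isometryGroup (d : ℕ) :
    uGL F d ∈ Cfsg.isometryGroup F (⇑(QPlus d F)) := by
  rw [Cfsg.Agent.Lib.Helper19.mem_isometryGroup_iff]
  intro v
  rw [uGL_val, uMat_mulVec, QPlus_apply, QPlus_apply]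
  simp only [Sum.elim_inl, Sum.elim_inr, add_mul, Finset.sum_add_distrib]
  have := sum_iEps d (fun i => v (Sum.inr i))
  rw [this, add_zero]

theorem uMat_pow_char {p : ℕ} [CharP F p] (d : ℕ) : uMat F d ^ p = 1 := by
  rw [uMat_pow]
  have : p • altMat F d = 0 := by
    ext i j
    simp [Matrix.smul_apply, nsmul_eq_mul, CharP.cast_eq_zero F p]
  rw [this, Matrix.fromBlocks_one]

theorem toLin'_sub_one_eq' {d : ℕ} (A : Matrix (Fin d ⊕ Fin d) (Fin d ⊕ Fin d) F) :
    (Matrix.toLin' A - 1 : (Fin d ⊕ Fin d → F) →ₗ[F] (Fin d ⊕ Fin d → F)) =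
      (A - 1).mulVecLin := by
  apply LinearMap.ext
  intro v
  rw [LinearMap.sub_apply, Matrix.toLin'_apply, Module.End.one_apply, Matrix.mulVecLin_apply,
    Matrix.sub_mulVec, Matrix.one_mulVec]

/-! ### range and kernel of `x - 1` -/

/-- the coordinates vanishing on the range of `x - 1` -/
def rangeSet (d : ℕ) : Set (Fin d ⊕ Fin d) := {c | Sum.elim (fun i => iFix d i) (fun _ => True) c}

/-- coordinates vanishing on the kernel of `x - 1` -/
def kerSet (d : ℕ) : Set (Fin d ⊕ Fin d) := {c | Sum.elim (fun _ => False) (fun i => ¬ iFix d i) c}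

open scoped Classical in
theorem finrank_coordSub_rangeSet (d : ℕ) :
    finrank F (coordSub (F := F) (rangeSet d)) = 2 * (d / 2) := by
  rw [finrank_coordSub, card_sum_subtype, ← card_not_iFix d]
  have h2 : Fintype.card {b : Fin d // (Sum.inr b : Fin d ⊕ Fin d) ∉ rangeSet d} = 0 := by
    rw [Fintype.card_eq_zero_iff]
    exact ⟨fun b => b.2 (by simp [rangeSet])⟩
  rw [h2, add_zero]
  apply Fintype.card_congr
  exact Equiv.subtypeEquivRight (fun a => by simp [rangeSet])

open scoped Classical in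
theorem finrank_coordSub_kerSet (d : ℕ) :
    finrank F (coordSub (F := F) (kerSet d)) = d + d % 2 := by
  rw [finrank_coordSub, card_sum_subtype, ← card_iFix d]
  have h1 : Fintype.card {a : Fin d // (Sum.inl a : Fin d ⊕ Fin d) ∉ kerSet d} = d := by
    rw [Fintype.card_congr (Equiv.subtypeUnivEquiv (fun a => by simp [kerSet]))]
    exact Fintype.card_fin d
  rw [h1]
  congr 1
  apply Fintype.card_congr
  exact Equiv.subtypeEquivRight (fun a => by simp [kerSet])

theorem range_uMat_sub_one (d : ℕ) :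
    LinearMap.range (uMat F d - 1).mulVecLin = coordSub (rangeSet d) := by
  ext w
  constructor
  · rintro ⟨v, rfl⟩
    intro c hc
    rw [Matrix.mulVecLin_apply, uMat_sub_one_mulVec]
    cases c with
    | inl i =>
      have hi : iFix d i := hc
      simp [iEps_eq_zero d i hi]
    | inr i => rfl
  · intro hw
    refine ⟨Sum.elim (fun _ => 0)
      (fun k => w (Sum.inl (iSig d k)) / iEps F d (iSig d k)), ?_⟩
    rw [Matrix.mulVecLin_apply, uMat_sub_one_mulVec]
    funext c
    cases c with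
    | inl i =>
      simp only [Sum.elim_inl, Sum.elim_inr, iSig_iSig]
      by_cases hi : iFix d i
      · rw [iEps_eq_zero d i hi, zero_mul]
        exact (hw (Sum.inl i) hi).symm
      · rw [mul_div_cancel₀ _ (iEps_ne_zero d i hi)]
    | inr i =>
      simpa using (hw (Sum.inr i) (by simp [rangeSet])).symm

theorem rank_uMat_sub_one (d : ℕ) : (uMat F d - 1).rank = 2 * (d / 2) := by
  show finrank F (LinearMap.range (uMat F d - 1).mulVecLin) = 2 * (d / 2)
  rw [range_uMat_sub_one, finrank_coordSub_rangeSet]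

theorem ker_uMat_sub_one_le (d : ℕ) :
    LinearMap.ker (uMat F d - 1).mulVecLin ≤ coordSub (kerSet d) := by
  intro v hv
  rw [LinearMap.mem_ker, Matrix.mulVecLin_apply, uMat_sub_one_mulVec] at hv
  intro c hc
  cases c with
  | inl i => exact absurd hc (by simp [kerSet])
  | inr j =>
    have hj : ¬ iFix d j := hc
    have h1 := congrFun hv (Sum.inl (iSig d j))
    simp only [Sum.elim_inl, iSig_iSig, Pi.zero_apply] at h1
    have h2 : iEps F d (iSig d j) ≠ 0 :=
      iEps_ne_zero d _ (fun h => hj ((iFix_iSig d j).1 h))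
    exact (mul_eq_zero.1 h1).resolve_left h2

/-! ### membership in `Ω` and the leaf -/

theorem uGL_mem_omegaGL [Fintype F] {p : ℕ} [Fact p.Prime] [CharP F p] (d : ℕ) (hd : 4 ≤ d) :
    uGL F d ∈ Cfsg.Geo.omegaGL (Cfsg.quadFormPlus d F) := by
  classical
  have h24 : Fintype.card F ≠ 2 ∨ Fintype.card (Fin d ⊕ Fin d) ≠ 4 := by
    right
    rw [Fintype.card_sum, Fintype.card_fin]
    omega
  have hiso := uGL_mem_isometryGroup (F := F) d
  have hΩ : (⟨uGL F d, hiso⟩ : ↥(Cfsg.isometryGroup F (⇑(QPlus d F)))) ∈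
      Cfsg.Omega F (⇑(QPlus d F)) := by
    by_cases hp2 : p = 2
    · subst hp2
      rw [mem_Omega_iff_even_rank' (QPlus d F) QPlus_nondegenerate h24]
      show Even (uMat F d - 1).rank
      rw [rank_uMat_sub_one]
      exact even_two_mul _
    · have hodd : Odd p := (Fact.out : p.Prime).odd_of_ne_two hp2
      have hgp : (⟨uGL F d, hiso⟩ : ↥(Cfsg.isometryGroup F (⇑(QPlus d F)))) ^ p = 1 := by
        apply Subtype.ext
        apply Units.ext
        rw [SubgroupClass.coe_pow, Units.val_pow_eq_pow_val]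
        exact uMat_pow_char d
      obtain ⟨k, hk⟩ := hodd
      have hyy : (⟨uGL F d, hiso⟩ : ↥(Cfsg.isometryGroup F (⇑(QPlus d F)))) ^ (k + 1) *
          (⟨uGL F d, hiso⟩ : ↥(Cfsg.isometryGroup F (⇑(QPlus d F)))) ^ (k + 1) =
          ⟨uGL F d, hiso⟩ := by
        rw [← pow_add, show k + 1 + (k + 1) = p + 1 by omega, pow_succ, hgp, one_mul]
      have := mul_self_mem_Omega (QPlus d F) QPlus_nondegenerate h24
        ((⟨uGL F d, hiso⟩ : ↥(Cfsg.isometryGroup F (⇑(QPlus d F)))) ^ (k + 1))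
      rwa [hyy] at this
  exact coe_mem_omegaGL _ _ hΩ

/-- LEAF I (598817). -/
theorem exists_unip_plus [Fintype F] {p : ℕ} [Fact p.Prime] [CharP F p] (d : ℕ) (hd : 4 ≤ d) :
    ∃ x : GL (Fin d ⊕ Fin d) F, x ∈ Cfsg.Geo.omegaGL (Cfsg.quadFormPlus d F) ∧
      ((x ^ p : GL (Fin d ⊕ Fin d) F) : Matrix (Fin d ⊕ Fin d) (Fin d ⊕ Fin d) F) = 1 ∧
      (∀ z : F, (x : Matrix (Fin d ⊕ Fin d) (Fin d ⊕ Fin d) F) ≠
        z • (1 : Matrix (Fin d ⊕ Fin d) (Fin d ⊕ Fin d) F)) ∧
      ∃ E : Submodule F (Fin d ⊕ Fin d → F), (∀ v ∈ E, Q0 d F v = 0) ∧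
        (∀ v, (Matrix.toLin' (x : Matrix (Fin d ⊕ Fin d) (Fin d ⊕ Fin d) F) - 1) v ∈ E) ∧
        E ≤ LinearMap.ker (Matrix.toLin' (x : Matrix (Fin d ⊕ Fin d) (Fin d ⊕ Fin d) F) - 1) ∧
        finrank F (LinearMap.ker (Matrix.toLin' (x : Matrix (Fin d ⊕ Fin d) (Fin d ⊕ Fin d) F) - 1)) ≤
          finrank F E + 1 := by
  classical
  refine ⟨uGL F d, uGL_mem_omegaGL (p := p) d hd, ?_, ?_, coordSub (rightSet d), ?_, ?_, ?_, ?_⟩
  · rw [Units.val_pow_eq_pow_val, uGL_val]
    exact uMat_pow_char d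
  · intro z hz
    rw [uGL_val] at hz
    have hpos : 0 < Fintype.card {i // ¬ iFix d i} := by
      rw [card_not_iFix]
      omega
    obtain ⟨⟨i0, hi0⟩⟩ := Fintype.card_pos_iff.1 hpos
    have h1 := congrFun (congrArg
      (fun M : Matrix (Fin d ⊕ Fin d) (Fin d ⊕ Fin d) F =>
        M *ᵥ (Pi.single (Sum.inr (iSig d i0)) (1 : F))) hz) (Sum.inl i0)
    simp only [uMat_mulVec, Matrix.smul_mulVec, Matrix.one_mulVec, Sum.elim_inl, Pi.smul_apply,
      smul_eq_mul] at h1
    rw [Pi.single_eq_same, Pi.single_eq_of_ne (by simp), mul_one, mul_zero, zero_add] at h1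
    exact iEps_ne_zero d i0 hi0 h1
  · intro v hv
    show QPlus d F v = 0
    rw [QPlus_apply]
    apply Finset.sum_eq_zero
    intro i _
    rw [hv (Sum.inr i) (by simp [rightSet]), mul_zero]
  · intro v
    rw [uGL_val, toLin'_sub_one_eq', Matrix.mulVecLin_apply, uMat_sub_one_mulVec]
    intro c hc
    cases c with
    | inl i => simp [rightSet] at hc
    | inr i => rfl
  · intro v hv
    rw [uGL_val, toLin'_sub_one_eq', LinearMap.mem_ker, Matrix.mulVecLin_apply,
      uMat_sub_one_mulVec]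
    funext c
    cases c with
    | inl i =>
      simp only [Sum.elim_inl, Pi.zero_apply]
      rw [hv (Sum.inr (iSig d i)) (by simp [rightSet]), mul_zero]
    | inr i => rfl
  · rw [uGL_val, toLin'_sub_one_eq', finrank_coordSub_rightSet]
    calc finrank F (LinearMap.ker (uMat F d - 1).mulVecLin)
        ≤ finrank F (coordSub (F := F) (kerSet d)) :=
          Submodule.finrank_mono (ker_uMat_sub_one_le d)
      _ = d + d % 2 := finrank_coordSub_kerSet d
      _ ≤ d + 1 := by omega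

end Cfsg.Agent.Lib.Helper93.OEl
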