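import Mathlib
import Cfsg.Agent.Lib.Helper49.SpInvDefs
import Cfsg.Agent.Lib.Helper07.SpCardC

/-!
# K-SpInv-4a : the isometry group of a non-degenerate alternating form on `F_q^(2k)` has order `|Sp_2k(q)|`

The isometries are in bijection with the hyperbolic families (`Helper07.IsHyp`), counted by `Helper07.card_hyp_full`.
-/

set_option autoImplicit false
set_option linter.unusedSectionVars false

namespace Cfsg.Agent.Lib.Helper93.SpInv

open Matrix Cfsg.Agent.Lib.Helper49.SpInv Cfsg.Agent.Lib.Helper07

section coords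

variable {F : Type*} [Field F] {U : Type*} [AddCommGroup U] [Module F U] [FiniteDimensional F U]
  (γ : LinearMap.BilinForm F U) {k : ℕ}

/-- coordinates with respect to a hyperbolic family -/
noncomputable def coordEquiv (halt : ∀ v, γ v v = 0) (hk : Module.finrank F U = 2 * k)
    (x : Fin k → U × U) (hx : IsHyp γ x) : U ≃ₗ[F] (Fin k → F) × (Fin k → F) :=
  LinearEquiv.ofBijective (famMap γ x)
    ⟨(LinearMap.injective_iff_surjective_of_finrank_eq_finrank
        (by rw [hk, Module.finrank_prod, Module.finrank_fin_fun]; ring)).mpr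
        (famMap_surjective halt hx),
      famMap_surjective halt hx⟩

theorem coordEquiv_apply (halt : ∀ v, γ v v = 0) (hk : Module.finrank F U = 2 * k)
    (x : Fin k → U × U) (hx : IsHyp γ x) (v : U) :
    coordEquiv γ halt hk x hx v = famMap γ x v := rfl

/-- the standard alternating form in coordinates -/
def Om (p p' : (Fin k → F) × (Fin k → F)) : F := ∑ i, (p.1 i * p'.2 i - p.2 i * p'.1 i)

theorem form_eq_Om (halt : ∀ v, γ v v = 0) (hk : Module.finrank F U = 2 * k)
    (x : Fin k → U × U) (hx : IsHyp γ x) (u v : U) :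
    γ u v = Om (famMap γ x u) (famMap γ x v) := by
  have hv : famSec x (famMap γ x v) = v := by
    apply (coordEquiv γ halt hk x hx).injective
    rw [coordEquiv_apply, coordEquiv_apply]
    exact famMap_famSec halt hx _
  conv_lhs => rw [← hv]
  rw [map_famSec]
  unfold Om
  apply Finset.sum_congr rfl
  intro i _
  rw [famMap_apply, famMap_apply]
  simp only
  rw [skew_of_alt halt u (x i).2, skew_of_alt halt u (x i).1]
  ring

theorem famMap_fst (halt : ∀ v, γ v v = 0) (x : Fin k → U × U) (hx : IsHyp γ x) (i : Fin k) :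
    famMap γ x (x i).1 = (0, fun j => -(if i = j then (1 : F) else 0)) := by
  rw [famMap_apply]
  refine Prod.ext ?_ ?_
  · funext j
    exact (hx j i).1
  · funext j
    simp only
    rw [skew_of_alt halt, (hx i j).2.2]

theorem famMap_snd (x : Fin k → U × U) (hx : IsHyp γ x) (i : Fin k) :
    famMap γ x (x i).2 = (fun j => if j = i then (1 : F) else 0, 0) := by
  rw [famMap_apply]
  refine Prod.ext ?_ ?_
  · funext j
    exact (hx j i).2.2
  · funext j
    exact (hx j i).2.1

/-- the bijection between isometries and hyperbolic families -/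
noncomputable def isomEquivHyp (halt : ∀ v, γ v v = 0) (hk : Module.finrank F U = 2 * k)
    (x₀ : Fin k → U × U) (hx₀ : IsHyp γ x₀) :
    {A : U ≃ₗ[F] U // ∀ x y, γ (A x) (A y) = γ x y} ≃ {x : Fin k → U × U // IsHyp γ x} where
  toFun A := ⟨fun i => (A.1 (x₀ i).1, A.1 (x₀ i).2), fun i j => by
    simp only [A.2]
    exact hx₀ i j⟩
  invFun y := ⟨(coordEquiv γ halt hk x₀ hx₀).trans (coordEquiv γ halt hk y.1 y.2).symm, fun u v => by
    rw [form_eq_Om γ halt hk y.1 y.2]
    simp only [LinearEquiv.trans_apply]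
    rw [← coordEquiv_apply γ halt hk y.1 y.2, ← coordEquiv_apply γ halt hk y.1 y.2,
      LinearEquiv.apply_symm_apply, LinearEquiv.apply_symm_apply, coordEquiv_apply, coordEquiv_apply,
      ← form_eq_Om γ halt hk x₀ hx₀]⟩
  left_inv A := by
    apply Subtype.ext
    apply LinearEquiv.ext
    intro v
    simp only [LinearEquiv.trans_apply]
    rw [LinearEquiv.symm_apply_eq, coordEquiv_apply, coordEquiv_apply, famMap_apply, famMap_apply]
    simp only [A.2]
  right_inv y := by
    apply Subtype.ext
    funext i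
    simp only [LinearEquiv.trans_apply]
    refine Prod.ext ?_ ?_
    · simp only
      rw [LinearEquiv.symm_apply_eq, coordEquiv_apply, coordEquiv_apply, famMap_fst γ halt x₀ hx₀,
        famMap_fst γ halt y.1 y.2]
    · simp only
      rw [LinearEquiv.symm_apply_eq, coordEquiv_apply, coordEquiv_apply, famMap_snd γ x₀ hx₀,
        famMap_snd γ y.1 y.2]

end coords

theorem spOrd_pos (q k : ℕ) (hq : 2 ≤ q) : 0 < spOrd q k := by
  unfold spOrd
  apply Nat.mul_pos (pow_pos (by omega) _)
  apply Finset.prod_pos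
  intro i _
  have : 2 ≤ q ^ (2 * (i + 1)) :=
    le_trans hq (Nat.le_self_pow (by omega) q)
  omega

variable {F : Type*} [Field F] [Fintype F]

/-- K-SpInv-4a. -/
theorem card_isom_alt {q : ℕ} (hF : Fintype.card F = q) {U : Type*} [AddCommGroup U] [Module F U]
    [FiniteDimensional F U] (γ : LinearMap.BilinForm F U) (hnd : γ.Nondegenerate)
    (halt : γ.IsAlt) (k : ℕ) (hk : Module.finrank F U = 2 * k) :
    Nat.card (IsomSet γ) = spOrd q k := by
  have halt' : ∀ v, γ v v = 0 := halt
  have hnd' : ∀ v, (∀ w, γ v w = 0) → v = 0 := hnd.1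
  have : Finite U := Module.finite_of_finite F
  have hq : Nat.card F = q := by rw [Nat.card_eq_fintype_card, hF]
  have hU : Nat.card U = q ^ (2 * k) := by
    rw [Module.natCard_eq_pow_finrank (K := F) (V := U), hq, hk]
  have hcount := card_hyp_full (B := γ) halt' hnd' hq hU
  have hq2 : 2 ≤ q := by rw [← hF]; exact Fintype.one_lt_card
  have hpos : 0 < Nat.card {x : Fin k → U × U // IsHyp γ x} := by
    rw [hcount]; exact spOrd_pos q k hq2
  obtain ⟨⟨x₀, hx₀⟩⟩ := (Nat.card_pos_iff.mp hpos).1
  change Nat.card {A : U ≃ₗ[F] U // ∀ x y, γ (A x) (A y) = γ x y} = _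
  rw [Nat.card_congr (isomEquivHyp γ halt' hk x₀ hx₀), hcount]
  rfl

end Cfsg.Agent.Lib.Helper93.SpInv
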