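import Cfsg.Agent.Lib.Helper93.StOpF2S
import Cfsg.Agent.Lib.Helper51.StOpR0b

/-!
# K-StOp pack (S2548), leaf F2S (254809): exact-signature wrapper
-/

set_option autoImplicit false
set_option linter.unusedSectionVars false
set_option linter.unusedVariables false

namespace Cfsg.Agent.Lib.Helper93.StOp

open Cfsg Cfsg.Agent.Lib.Helper49.StOp

variable {m : ℕ} {F : Type*} [Field F]

/-- **K-StOp leaf F2S** -/
theorem dich_short (i : Fin m) (hi : i.val + 1 < m) (n : OG m F)
    (σ : Equiv.Perm (OI m)) (hn : MonWith m F n σ) :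
    (∀ t : F, n⁻¹ * xS m F i (nxt i hi) t * n ∈ Bsub m F) ∨
      (∀ t : F, n⁻¹ * xS m F (nxt i hi) i t * n ∈ Bsub m F) :=
  dich_short_of (fun i j hij t => Cfsg.Agent.Lib.Helper51.StOp.mat_xS i j hij t) i hi n σ hn

end Cfsg.Agent.Lib.Helper93.StOp
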