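import Mathlib
import Cfsg.Agent.Lib.Helper49.StSUDefs

/-!
# K-StSU-F1S (keystone 254605): `B = (B ∩ s B s⁻¹) X_α` for a short simple root of `SU_n(q)`

Reusable: `xsM q I J J' I' t = 1 + t E_{I,J} - t^q E_{J',I'}` (for `I < J < J' < I'`,
`rev I = I'`, `rev J' = J`), its determinant, `hJ`-invariance and the group element `xsG`.
-/

set_option autoImplicit false
set_option linter.unusedSectionVars false
set_option linter.unusedVariables false

namespace Cfsg.Agent.Lib.Helper93.StSU

open Matrix Cfsg Cfsg.Agent.Lib.Helper49.StSU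

variable {n : ℕ} {F : Type*} [Field F] {q : ℕ}

/-! ### Frobenius facts -/

theorem f1s_q_ne (ok : Ok n F q) : q ≠ 0 := by
  intro h
  have h1 := ok.frob_add 0 0
  rw [h] at h1
  simp at h1

theorem f1s_frob_zero (ok : Ok n F q) : (0 : F) ^ q = 0 := zero_pow (f1s_q_ne ok)

theorem f1s_frob_neg (ok : Ok n F q) (x : F) : (-x) ^ q = -(x ^ q) := by
  have h1 := ok.frob_add (-x) x
  rw [neg_add_cancel, f1s_frob_zero ok] at h1
  exact eq_neg_of_add_eq_zero_left h1.symm

/-! ### the form -/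

theorem f1s_hJ_add_left (u u' w : Fin n → F) :
    hJ n F q (u + u') w = hJ n F q u w + hJ n F q u' w := by
  unfold hJ
  simp only [Pi.add_apply, add_mul, Finset.sum_add_distrib]

theorem f1s_hJ_single_left (I : Fin n) (c : F) (w : Fin n → F) :
    hJ n F q (Pi.single I c) w = c * (w (Fin.rev I)) ^ q := by
  unfold hJ
  rw [Finset.sum_eq_single I]
  · rw [Pi.single_eq_same]
  · intro b _ hb
    rw [Pi.single_eq_of_ne hb, zero_mul]
  · intro h
    exact absurd (Finset.mem_univ I) h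

theorem f1s_hJ_add_right (ok : Ok n F q) (u w w' : Fin n → F) :
    hJ n F q u (w + w') = hJ n F q u w + hJ n F q u w' := by
  unfold hJ
  simp only [Pi.add_apply, ok.frob_add, mul_add, Finset.sum_add_distrib]

theorem f1s_hJ_single_right (ok : Ok n F q) (I : Fin n) (c : F) (u : Fin n → F) :
    hJ n F q u (Pi.single I c) = u (Fin.rev I) * c ^ q := by
  unfold hJ
  rw [Finset.sum_eq_single (Fin.rev I)]
  · rw [Fin.rev_rev, Pi.single_eq_same]
  · intro b _ hb
    have hb' : Fin.rev b ≠ I := by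
      intro h
      apply hb
      rw [← h, Fin.rev_rev]
    rw [Pi.single_eq_of_ne hb', f1s_frob_zero ok, mul_zero]
  · intro h
    exact absurd (Finset.mem_univ _) h

/-! ### the root element -/

/-- `1 + t E_{I,J} - t^q E_{J',I'}` -/
def xsM (q : ℕ) (I J J' I' : Fin n) (t : F) : Matrix (Fin n) (Fin n) F :=
  1 + Matrix.single I J t + Matrix.single J' I' (-(t ^ q))

theorem xsM_mulVec (I J J' I' : Fin n) (t : F) (u : Fin n → F) :
    xsM q I J J' I' t *ᵥ u =
      u + Pi.single I (t * u J) + Pi.single J' (-(t ^ q) * u I') := by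
  unfold xsM
  rw [Matrix.add_mulVec, Matrix.add_mulVec, Matrix.one_mulVec, Matrix.single_mulVec,
    Matrix.single_mulVec]
  rfl

theorem xsM_apply_of_lt (I J J' I' : Fin n) (hIJ : I < J) (hJI : J' < I') (t : F)
    (a b : Fin n) (hab : b < a) : xsM q I J J' I' t a b = 0 := by
  unfold xsM
  rw [Matrix.add_apply, Matrix.add_apply, Matrix.one_apply_ne (ne_of_gt hab),
    Matrix.single_apply, Matrix.single_apply, if_neg, if_neg]
  · simp
  · rintro ⟨rfl, rfl⟩
    exact absurd hab (not_lt.mpr hJI.le)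
  · rintro ⟨rfl, rfl⟩
    exact absurd hab (not_lt.mpr hIJ.le)

theorem xsM_apply_diag (I J J' I' : Fin n) (hIJ : I < J) (hJI : J' < I') (t : F)
    (a : Fin n) : xsM q I J J' I' t a a = 1 := by
  unfold xsM
  rw [Matrix.add_apply, Matrix.add_apply, Matrix.one_apply_eq,
    Matrix.single_apply, Matrix.single_apply, if_neg, if_neg]
  · simp
  · rintro ⟨rfl, h⟩
    exact absurd h.symm (ne_of_lt hJI)
  · rintro ⟨rfl, h⟩
    exact absurd h.symm (ne_of_lt hIJ)

theorem xsM_det (I J J' I' : Fin n) (hIJ : I < J) (hJI : J' < I') (t : F) :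
    (xsM q I J J' I' t).det = 1 := by
  rw [Matrix.det_of_isUpperTriangular]
  · simp only [xsM_apply_diag I J J' I' hIJ hJI t, Finset.prod_const_one]
  · intro a b hab
    exact xsM_apply_of_lt I J J' I' hIJ hJI t a b hab

theorem xsM_pres (ok : Ok n F q) (I J J' I' : Fin n) (hIJ : I < J) (hJJ : J < J') (hJI : J' < I')
    (hrI : Fin.rev I = I') (hrJ : Fin.rev J' = J) (t : F) (u v : Fin n → F) :
    hJ n F q (xsM q I J J' I' t *ᵥ u) (xsM q I J J' I' t *ᵥ v) = hJ n F q u v := by
  have e1 : (xsM q I J J' I' t *ᵥ v) I' = v I' := by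
    rw [xsM_mulVec]
    simp only [Pi.add_apply]
    rw [Pi.single_eq_of_ne, Pi.single_eq_of_ne]
    · simp
    · exact ne_of_gt hJI
    · exact ne_of_gt (hIJ.trans (hJJ.trans hJI))
  have e2 : (xsM q I J J' I' t *ᵥ v) J = v J := by
    rw [xsM_mulVec]
    simp only [Pi.add_apply]
    rw [Pi.single_eq_of_ne, Pi.single_eq_of_ne]
    · simp
    · exact ne_of_lt hJJ
    · exact ne_of_gt hIJ
  rw [xsM_mulVec I J J' I' t u, f1s_hJ_add_left, f1s_hJ_add_left, f1s_hJ_single_left,
    f1s_hJ_single_left, hrI, hrJ, e1, e2, xsM_mulVec, f1s_hJ_add_right ok, f1s_hJ_add_right ok,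
    f1s_hJ_single_right ok, f1s_hJ_single_right ok, hrI, hrJ, mul_pow, mul_pow, f1s_frob_neg ok,
    ok.frob_frob]
  ring

/-- the root element as an element of the group -/
def xsG (ok : Ok n F q) (I J J' I' : Fin n) (hIJ : I < J) (hJJ : J < J') (hJI : J' < I')
    (hrI : Fin.rev I = I') (hrJ : Fin.rev J' = J) (t : F) : GJ n F q :=
  ⟨⟨xsM q I J J' I' t, xsM_det I J J' I' hIJ hJI t⟩,
    (mem_SUJ_iff _).2 (fun u v => xsM_pres ok I J J' I' hIJ hJJ hJI hrI hrJ t u v)⟩

theorem mat_xsG (ok : Ok n F q) (I J J' I' : Fin n) (hIJ : I < J) (hJJ : J < J') (hJI : J' < I')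
    (hrI : Fin.rev I = I') (hrJ : Fin.rev J' = J) (t : F) :
    mat (xsG ok I J J' I' hIJ hJJ hJI hrI hrJ t) = xsM q I J J' I' t := rfl

/-! ### triangular elements -/

theorem f1s_diag_ne_zero (b : GJ n F q) (hb : b ∈ Bsub n F q) (a : Fin n) : mat b a a ≠ 0 := by
  have hbi : b⁻¹ ∈ Bsub n F q := (Bsub n F q).inv_mem hb
  have h1 : (mat b * mat b⁻¹) a a = 1 := by
    rw [mat_mul_inv, Matrix.one_apply_eq]
  have h2 : (mat b * mat b⁻¹) a a = mat b a a * mat b⁻¹ a a := by
    rw [Matrix.mul_apply]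
    apply Finset.sum_eq_single a
    · intro y _ hy
      rcases lt_or_gt_of_ne hy with h | h
      · rw [(mem_Bsub_iff b).1 hb a y h, zero_mul]
      · rw [(mem_Bsub_iff _).1 hbi y a h, mul_zero]
    · intro h
      exact absurd (Finset.mem_univ a) h
  intro h0
  rw [h2, h0, zero_mul] at h1
  exact zero_ne_one h1

/-- unitarity forces the second entry to vanish -/
theorem f1s_lower_zero (ok : Ok n F q) (I J J' I' : Fin n) (hIJ : I < J) (hJI : J' < I')
    (hrI : Fin.rev I = I') (hrJ : Fin.rev J' = J)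
    (hadj : ∀ a : Fin n, a < J → a ≤ I)
    (g : GJ n F q) (hg : g ∈ Bsub n F q) (h0 : mat g I J = 0) : mat g J' I' = 0 := by
  have hB := (mem_Bsub_iff g).1 hg
  have hrJ' : Fin.rev J = J' := by rw [← hrJ, Fin.rev_rev]
  have h := hJ_mat g (Pi.single J 1) (Pi.single I' 1)
  rw [f1s_hJ_single_left, hrJ', Pi.single_eq_of_ne (ne_of_lt hJI), f1s_frob_zero ok, mul_zero,
    Matrix.mulVec_single_one, Matrix.mulVec_single_one] at h
  unfold hJ at h
  rw [Finset.sum_eq_single J] at h
  · simp only [Matrix.col_apply, hrJ'] at h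
    rcases mul_eq_zero.1 h with h | h
    · exact absurd h (f1s_diag_ne_zero g hg J)
    · exact pow_eq_zero_iff (f1s_q_ne ok) |>.1 h
  · intro a _ ha
    simp only [Matrix.col_apply]
    rcases lt_or_gt_of_ne ha with hlt | hgt
    · have hle := hadj a hlt
      rcases eq_or_lt_of_le hle with heq | hlt'
      · rw [heq, h0, zero_mul]
      · have : I' < Fin.rev a := by
          rw [← hrI]
          exact Fin.rev_lt_rev.2 hlt'
        rw [hB _ _ this, f1s_frob_zero ok, mul_zero]
    · rw [hB _ _ hgt, zero_mul]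
  · intro h'
    exact absurd (Finset.mem_univ J) h'

/-! ### the reflection -/

theorem f1s_tau_lt (i v : ℕ) (hi : i + 1 < n / 2) (hv : v < n) : tau n i v < n := by
  unfold tau
  split_ifs <;> omega

theorem f1s_tau_tau (i v : ℕ) (hi : i + 1 < n / 2) (hv : v < n) : tau n i (tau n i v) = v := by
  unfold tau
  split_ifs <;> omega

/-- `tau` as a map of `Fin n` -/
def tauF (i : ℕ) (hi : i + 1 < n / 2) (x : Fin n) : Fin n := ⟨tau n i x.val, f1s_tau_lt i x.val hi x.2⟩

theorem tauF_tauF (i : ℕ) (hi : i + 1 < n / 2) (x : Fin n) : tauF i hi (tauF i hi x) = x :=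
  Fin.ext (f1s_tau_tau i x.val hi x.2)

theorem f1s_sShortMat_apply (i : ℕ) (x y : Fin n) :
    sShortMat n F i x y = if x.val = tau n i y.val then 1 else 0 := rfl

theorem f1s_mul_S_apply (i : ℕ) (hi : i + 1 < n / 2) (G : Matrix (Fin n) (Fin n) F) (a y : Fin n) :
    (G * sShortMat n F i) a y = G a (tauF i hi y) := by
  rw [Matrix.mul_apply, Finset.sum_eq_single (tauF i hi y)]
  · have h : (tauF i hi y).val = tau n i y.val := rfl
    rw [f1s_sShortMat_apply, if_pos h, mul_one]
  · intro x _ hx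
    rw [f1s_sShortMat_apply, if_neg, mul_zero]
    intro h
    exact hx (Fin.ext h)
  · intro h
    exact absurd (Finset.mem_univ _) h

theorem f1s_S_mul_apply (i : ℕ) (hi : i + 1 < n / 2) (M : Matrix (Fin n) (Fin n) F) (a y : Fin n) :
    (sShortMat n F i * M) a y = M (tauF i hi a) y := by
  rw [Matrix.mul_apply, Finset.sum_eq_single (tauF i hi a)]
  · have h : a.val = tau n i (tauF i hi a).val :=
      (congrArg Fin.val (tauF_tauF i hi a)).symm
    rw [f1s_sShortMat_apply, if_pos h, one_mul]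
  · intro x _ hx
    rw [f1s_sShortMat_apply, if_neg, zero_mul]
    intro h
    apply hx
    have : a = tauF i hi x := Fin.ext h
    rw [this, tauF_tauF]
  · intro h
    exact absurd (Finset.mem_univ _) h

theorem f1s_tau_cases (i c a : ℕ) (hi : i + 1 < n / 2) (hc : c < a) (ha : a < n) :
    tau n i c < tau n i a ∨ (c = i ∧ a = i + 1) ∨ (c = n - 2 - i ∧ a = n - 1 - i) := by
  unfold tau
  split_ifs <;> omega

theorem f1s_tau_i (i : ℕ) (hi : i + 1 < n / 2) : tau n i i = i + 1 := by
  unfold tau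
  split_ifs <;> omega

theorem f1s_tau_i1 (i : ℕ) (hi : i + 1 < n / 2) : tau n i (i + 1) = i := by
  unfold tau
  split_ifs <;> omega

theorem f1s_tau_j' (i : ℕ) (hi : i + 1 < n / 2) : tau n i (n - 2 - i) = n - 1 - i := by
  unfold tau
  split_ifs <;> omega

theorem f1s_tau_i' (i : ℕ) (hi : i + 1 < n / 2) : tau n i (n - 1 - i) = n - 2 - i := by
  unfold tau
  split_ifs <;> omega

/-- conjugation by the short reflection keeps `b'` triangular if two entries vanish -/
theorem f1s_conj_mem (ok : Ok n F q) (i : ℕ) (hi : i + 1 < n / 2) (b' : GJ n F q)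
    (hb' : b' ∈ Bsub n F q)
    (h1 : ∀ I J : Fin n, I.val = i → J.val = i + 1 → mat b' I J = 0)
    (h2 : ∀ J' I' : Fin n, J'.val = n - 2 - i → I'.val = n - 1 - i → mat b' J' I' = 0) :
    sShort n F q i * b' * (sShort n F q i)⁻¹ ∈ Bsub n F q := by
  have hgc : (sShort n F q i * b' * (sShort n F q i)⁻¹) * sShort n F q i =
      sShort n F q i * b' := by group
  have hmat : mat (sShort n F q i * b' * (sShort n F q i)⁻¹) * sShortMat n F i =
      sShortMat n F i * mat b' := by
    rw [← ok.short i hi, ← mat_mul, ← mat_mul, hgc]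
  have hM := (mem_Bsub_iff b').1 hb'
  rw [mem_Bsub_iff]
  intro a c hca
  have e := congrFun (congrFun hmat a) (tauF i hi c)
  rw [f1s_mul_S_apply i hi, f1s_S_mul_apply i hi, tauF_tauF] at e
  rw [e]
  rcases f1s_tau_cases i c.val a.val hi hca a.2 with h | ⟨hc, ha⟩ | ⟨hc, ha⟩
  · exact hM _ _ h
  · apply h1
    · show tau n i a.val = i
      rw [ha, f1s_tau_i1 i hi]
    · show tau n i c.val = i + 1
      rw [hc, f1s_tau_i i hi]
  · apply h2
    · show tau n i a.val = n - 2 - i
      rw [ha, f1s_tau_i' i hi]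
    · show tau n i c.val = n - 1 - i
      rw [hc, f1s_tau_j' i hi]

/-- **K-StSU-F1S** -/
theorem decomp_short (ok : Ok n F q) (i : ℕ) (hi : i + 1 < n / 2) (b : GJ n F q)
    (hb : b ∈ Bsub n F q) :
    ∃ b' ∈ Bsub n F q, ∃ x ∈ XS n F q i, b = b' * x ∧
      sShort n F q i * b' * (sShort n F q i)⁻¹ ∈ Bsub n F q := by
  have hn : i + 1 < n := by omega
  set I : Fin n := ⟨i, by omega⟩ with hI
  set J : Fin n := ⟨i + 1, by omega⟩ with hJ
  set J' : Fin n := ⟨n - 2 - i, by omega⟩ with hJ'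
  set I' : Fin n := ⟨n - 1 - i, by omega⟩ with hI'
  have hIJ : I < J := by
    rw [Fin.lt_def]; simp only [hI, hJ]; omega
  have hJJ : J < J' := by
    rw [Fin.lt_def]; simp only [hJ', hJ]; omega
  have hJI : J' < I' := by
    rw [Fin.lt_def]; simp only [hJ', hI']; omega
  have hrI : Fin.rev I = I' := by
    apply Fin.ext
    rw [Fin.val_rev]; simp only [hI, hI']; omega
  have hrJ : Fin.rev J' = J := by
    apply Fin.ext
    rw [Fin.val_rev]; simp only [hJ, hJ']; omega
  have hd0 : mat b I I ≠ 0 := f1s_diag_ne_zero b hb I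
  set t : F := mat b I J / mat b I I with ht
  set x : GJ n F q := xsG ok I J J' I' hIJ hJJ hJI hrI hrJ t with hx
  have hxm : mat x = xsM q I J J' I' t := rfl
  have hxB : x ∈ Bsub n F q := by
    rw [mem_Bsub_iff]
    intro a c hca
    rw [hxm]
    exact xsM_apply_of_lt I J J' I' hIJ hJI t a c hca
  have hxX : x ∈ XS n F q i := by
    intro a c hA
    rw [hxm]
    unfold xsM
    rw [Matrix.add_apply, Matrix.add_apply, Matrix.single_apply, Matrix.single_apply, if_neg,
      if_neg]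
    · simp
    · rintro ⟨rfl, rfl⟩
      exact hA (Or.inr ⟨rfl, rfl⟩)
    · rintro ⟨rfl, rfl⟩
      exact hA (Or.inl ⟨rfl, rfl⟩)
  have hb'B : b * x⁻¹ ∈ Bsub n F q := (Bsub n F q).mul_mem hb ((Bsub n F q).inv_mem hxB)
  have hbx : b = b * x⁻¹ * x := by rw [inv_mul_cancel_right]
  have hmat : mat b = mat (b * x⁻¹) * xsM q I J J' I' t := by
    rw [← hxm, ← mat_mul, ← hbx]
  -- entries
  have eI : ∀ a : Fin n, mat b a I = mat (b * x⁻¹) a I := by
    intro a
    rw [hmat]
    unfold xsM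
    rw [Matrix.mul_add, Matrix.mul_add, Matrix.mul_one, Matrix.add_apply, Matrix.add_apply,
      Matrix.mul_single_apply_of_ne, Matrix.mul_single_apply_of_ne]
    · simp
    · exact ne_of_lt (hIJ.trans (hJJ.trans hJI))
    · exact ne_of_lt hIJ
  have eJ : ∀ a : Fin n, mat b a J = mat (b * x⁻¹) a J + mat (b * x⁻¹) a I * t := by
    intro a
    conv_lhs => rw [hmat]
    unfold xsM
    rw [Matrix.mul_add, Matrix.mul_add, Matrix.mul_one, Matrix.add_apply, Matrix.add_apply,
      Matrix.mul_single_apply_same, Matrix.mul_single_apply_of_ne]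
    · simp
    · exact ne_of_lt (hJJ.trans hJI)
  have hz : mat (b * x⁻¹) I J = 0 := by
    have h1 := eJ I
    rw [← eI I] at h1
    have : mat (b * x⁻¹) I J = mat b I J - mat b I I * t := by rw [h1]; ring
    rw [this, ht]
    field_simp
    ring
  have hadj : ∀ a : Fin n, a < J → a ≤ I := by
    intro a ha
    rw [Fin.lt_def] at ha
    rw [Fin.le_def]
    simp only [hJ, hI] at ha ⊢
    omega
  have hz' : mat (b * x⁻¹) J' I' = 0 :=
    f1s_lower_zero ok I J J' I' hIJ hJI hrI hrJ hadj (b * x⁻¹) hb'B hz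
  refine ⟨b * x⁻¹, hb'B, x, hxX, hbx, ?_⟩
  apply f1s_conj_mem ok i hi _ hb'B
  · intro I0 J0 h1 h2
    have e1 : I0 = I := Fin.ext h1
    have e2 : J0 = J := Fin.ext h2
    rw [e1, e2]
    exact hz
  · intro J0 I0 h1 h2
    have e1 : J0 = J' := Fin.ext h1
    have e2 : I0 = I' := Fin.ext h2
    rw [e1, e2]
    exact hz'

end Cfsg.Agent.Lib.Helper93.StSU
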