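import Cfsg.Agent.Lib.Helper49.StSpDefs

/-!
# K-StSp-F1L (keystone 254503): `B = (B ∩ c B c⁻¹) X_α` for the long simple root
-/

set_option autoImplicit false
set_option linter.unusedSectionVars false
set_option linter.unusedVariables false

namespace Cfsg.Agent.Lib.Helper93.StSp

open Cfsg Cfsg.Agent.Lib.Helper49.StSp Matrix

variable {m : ℕ} {F : Type*} [Field F]

theorem f1l_diag_ne_zero (b : SpG m F) (hb : b ∈ Bsub m F) (a : Fin m ⊕ Fin m) :
    (b.1 : Matrix (Fin m ⊕ Fin m) (Fin m ⊕ Fin m) F) a a ≠ 0 := by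
  have hbi : b⁻¹ ∈ Bsub m F := (Bsub m F).inv_mem hb
  have h1 : ((b * b⁻¹ : SpG m F).1 : Matrix (Fin m ⊕ Fin m) (Fin m ⊕ Fin m) F) a a = 1 := by
    rw [mul_inv_cancel]
    change (1 : Matrix (Fin m ⊕ Fin m) (Fin m ⊕ Fin m) F) a a = 1
    simp
  have h2 : ((b * b⁻¹ : SpG m F).1 : Matrix (Fin m ⊕ Fin m) (Fin m ⊕ Fin m) F) a a =
      (b.1 : Matrix (Fin m ⊕ Fin m) (Fin m ⊕ Fin m) F) a a *
        ((b⁻¹ : SpG m F).1 : Matrix (Fin m ⊕ Fin m) (Fin m ⊕ Fin m) F) a a := by
    change ((b.1 : Matrix (Fin m ⊕ Fin m) (Fin m ⊕ Fin m) F) *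
      ((b⁻¹ : SpG m F).1 : Matrix (Fin m ⊕ Fin m) (Fin m ⊕ Fin m) F)) a a = _
    rw [Matrix.mul_apply]
    apply Finset.sum_eq_single a
    · intro y _ hy
      rcases lt_or_gt_of_ne (fun h => hy (pos_injective m h)) with h | h
      · rw [(mem_Bsub_iff b).1 hb a y h, zero_mul]
      · rw [(mem_Bsub_iff _).1 hbi y a h, mul_zero]
    · intro h
      exact absurd (Finset.mem_univ a) h
  intro h0
  rw [h2, h0, zero_mul] at h1
  exact zero_ne_one h1

theorem f1l_xLongMat_mul (k : Fin m) (s t : F) :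
    xLongMat m F k s * xLongMat m F k t = xLongMat m F k (s + t) := by
  unfold xLongMat
  rw [Matrix.fromBlocks_multiply]
  simp only [Matrix.one_mul, Matrix.mul_zero, add_zero, Matrix.mul_one, Matrix.zero_mul, zero_add]
  congr 1
  rw [Matrix.diagonal_add]
  congr 1
  funext i
  by_cases h : i = k
  · subst h; simp [add_comm]
  · simp [h]

theorem f1l_xLongMat_zero (k : Fin m) : xLongMat m F k 0 = 1 := by
  unfold xLongMat
  simp

theorem f1l_mul_xLongMat_inl (M : Matrix (Fin m ⊕ Fin m) (Fin m ⊕ Fin m) F) (k : Fin m) (t : F)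
    (a : Fin m ⊕ Fin m) (j : Fin m) :
    (M * xLongMat m F k t) a (Sum.inl j) = M a (Sum.inl j) := by
  simp [Matrix.mul_apply, Fintype.sum_sum_type, xLongMat, Matrix.one_apply]

theorem f1l_mul_xLongMat_inr (M : Matrix (Fin m ⊕ Fin m) (Fin m ⊕ Fin m) F) (k : Fin m) (t : F)
    (a : Fin m ⊕ Fin m) (j : Fin m) :
    (M * xLongMat m F k t) a (Sum.inr j) =
      M a (Sum.inl j) * (Pi.single k t : Fin m → F) j + M a (Sum.inr j) := by
  simp [Matrix.mul_apply, Fintype.sum_sum_type, xLongMat, Matrix.one_apply, Matrix.diagonal_apply]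

theorem f1l_xL_mem_B (k : Fin m) (t : F) : xL m F k t ∈ Bsub m F := by
  rw [mem_Bsub_iff]
  intro a b hab
  change xLongMat m F k t a b = 0
  unfold xLongMat
  rcases a with i | i <;> rcases b with j | j
  · have hne : i ≠ j := by
      rintro rfl
      exact lt_irrefl _ hab
    simp [hne]
  · exfalso
    simp only [pos] at hab
    have := i.2; have := j.2
    omega
  · simp
  · have hne : i ≠ j := by
      rintro rfl
      exact lt_irrefl _ hab
    simp [hne]

section csign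

variable (k : Fin m)

theorem f1l_mul_C_inl_ne (g : Matrix (Fin m ⊕ Fin m) (Fin m ⊕ Fin m) F) (a : Fin m ⊕ Fin m)
    (j : Fin m) (hj : j ≠ k) : (g * cSignMat m F k) a (Sum.inl j) = g a (Sum.inl j) := by
  simp [Matrix.mul_apply, Fintype.sum_sum_type, cSignMat, Matrix.diagonal_apply, Pi.single_apply, hj]

theorem f1l_mul_C_inr_ne (g : Matrix (Fin m ⊕ Fin m) (Fin m ⊕ Fin m) F) (a : Fin m ⊕ Fin m)
    (j : Fin m) (hj : j ≠ k) : (g * cSignMat m F k) a (Sum.inr j) = g a (Sum.inr j) := by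
  simp [Matrix.mul_apply, Fintype.sum_sum_type, cSignMat, Matrix.diagonal_apply, Pi.single_apply, hj]

theorem f1l_mul_C_inl_k (g : Matrix (Fin m ⊕ Fin m) (Fin m ⊕ Fin m) F) (a : Fin m ⊕ Fin m) :
    (g * cSignMat m F k) a (Sum.inl k) = g a (Sum.inr k) := by
  simp [Matrix.mul_apply, Fintype.sum_sum_type, cSignMat, Matrix.diagonal_apply, Pi.single_apply]

theorem f1l_mul_C_inr_k (g : Matrix (Fin m ⊕ Fin m) (Fin m ⊕ Fin m) F) (a : Fin m ⊕ Fin m) :
    (g * cSignMat m F k) a (Sum.inr k) = - g a (Sum.inl k) := by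
  simp [Matrix.mul_apply, Fintype.sum_sum_type, cSignMat, Matrix.diagonal_apply, Pi.single_apply]

theorem f1l_C_mul_inl_ne (M : Matrix (Fin m ⊕ Fin m) (Fin m ⊕ Fin m) F) (i : Fin m) (hi : i ≠ k)
    (x : Fin m ⊕ Fin m) : (cSignMat m F k * M) (Sum.inl i) x = M (Sum.inl i) x := by
  simp [Matrix.mul_apply, Fintype.sum_sum_type, cSignMat, Matrix.diagonal_apply, Pi.single_apply, hi]

theorem f1l_C_mul_inr_ne (M : Matrix (Fin m ⊕ Fin m) (Fin m ⊕ Fin m) F) (i : Fin m) (hi : i ≠ k)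
    (x : Fin m ⊕ Fin m) : (cSignMat m F k * M) (Sum.inr i) x = M (Sum.inr i) x := by
  simp [Matrix.mul_apply, Fintype.sum_sum_type, cSignMat, Matrix.diagonal_apply, Pi.single_apply, hi]

theorem f1l_C_mul_inl_k (M : Matrix (Fin m ⊕ Fin m) (Fin m ⊕ Fin m) F)
    (x : Fin m ⊕ Fin m) : (cSignMat m F k * M) (Sum.inl k) x = - M (Sum.inr k) x := by
  simp [Matrix.mul_apply, Fintype.sum_sum_type, cSignMat, Matrix.diagonal_apply, Pi.single_apply]

theorem f1l_C_mul_inr_k (M : Matrix (Fin m ⊕ Fin m) (Fin m ⊕ Fin m) F)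
    (x : Fin m ⊕ Fin m) : (cSignMat m F k * M) (Sum.inr k) x = M (Sum.inl k) x := by
  simp [Matrix.mul_apply, Fintype.sum_sum_type, cSignMat, Matrix.diagonal_apply, Pi.single_apply]

end csign

section main

variable (hm : 0 < m)

theorem f1l_CM1 (M : Matrix (Fin m ⊕ Fin m) (Fin m ⊕ Fin m) F)
    (hM : ∀ a b, pos m b < pos m a → M a b = 0) (a : Fin m ⊕ Fin m) (j : Fin m)
    (hj : j ≠ lastF hm) (hab : pos m (Sum.inl j) < pos m a) :
    (cSignMat m F (lastF hm) * M) a (Sum.inl j) = 0 := by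
  have kval : (lastF hm).val = m - 1 := rfl
  have hj' : j.val ≠ m - 1 := fun h => hj (Fin.ext (by rw [h, kval]))
  have := j.2
  rcases a with i | i
  · by_cases hi : i = lastF hm
    · subst hi
      rw [f1l_C_mul_inl_k, hM, neg_zero]
      simp only [pos]; omega
    · rw [f1l_C_mul_inl_ne _ _ i hi]
      exact hM _ _ hab
  · by_cases hi : i = lastF hm
    · subst hi
      rw [f1l_C_mul_inr_k]
      apply hM
      simp only [pos]; omega
    · rw [f1l_C_mul_inr_ne _ _ i hi]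
      apply hM
      have := i.2
      simp only [pos]; omega

theorem f1l_CM2 (M : Matrix (Fin m ⊕ Fin m) (Fin m ⊕ Fin m) F)
    (hM : ∀ a b, pos m b < pos m a → M a b = 0)
    (h0 : M (Sum.inl (lastF hm)) (Sum.inr (lastF hm)) = 0) (a : Fin m ⊕ Fin m)
    (hab : pos m (Sum.inl (lastF hm)) < pos m a) :
    (cSignMat m F (lastF hm) * M) a (Sum.inr (lastF hm)) = 0 := by
  have kval : (lastF hm).val = m - 1 := rfl
  rcases a with i | i
  · exfalso
    have := i.2
    simp only [pos] at hab; omega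
  · by_cases hi : i = lastF hm
    · subst hi
      rw [f1l_C_mul_inr_k, h0]
    · rw [f1l_C_mul_inr_ne _ _ i hi]
      apply hM
      have hi' : i.val ≠ m - 1 := fun h => hi (Fin.ext (by rw [h, kval]))
      have := i.2
      simp only [pos]; omega

theorem f1l_CM3 (M : Matrix (Fin m ⊕ Fin m) (Fin m ⊕ Fin m) F)
    (hM : ∀ a b, pos m b < pos m a → M a b = 0) (a : Fin m ⊕ Fin m) (j : Fin m)
    (hj : j ≠ lastF hm) (hab : pos m (Sum.inr j) < pos m a) :
    (cSignMat m F (lastF hm) * M) a (Sum.inr j) = 0 := by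
  have kval : (lastF hm).val = m - 1 := rfl
  have := j.2
  rcases a with i | i
  · exfalso
    have := i.2
    simp only [pos] at hab; omega
  · by_cases hi : i = lastF hm
    · subst hi
      exfalso
      simp only [pos] at hab; omega
    · rw [f1l_C_mul_inr_ne _ _ i hi]
      exact hM _ _ hab

theorem f1l_CM4 (M : Matrix (Fin m ⊕ Fin m) (Fin m ⊕ Fin m) F)
    (hM : ∀ a b, pos m b < pos m a → M a b = 0) (a : Fin m ⊕ Fin m)
    (hab : pos m (Sum.inr (lastF hm)) < pos m a) :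
    (cSignMat m F (lastF hm) * M) a (Sum.inl (lastF hm)) = 0 := by
  have kval : (lastF hm).val = m - 1 := rfl
  rcases a with i | i
  · exfalso
    have := i.2
    simp only [pos] at hab; omega
  · have hi : i ≠ lastF hm := by
      rintro rfl
      exact lt_irrefl _ hab
    rw [f1l_C_mul_inr_ne _ _ i hi]
    apply hM
    have := i.2
    simp only [pos] at hab ⊢; omega

theorem f1l_conj_mem (b' : SpG m F) (hb' : b' ∈ Bsub m F)
    (h0 : (b'.1 : Matrix (Fin m ⊕ Fin m) (Fin m ⊕ Fin m) F)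
      (Sum.inl (lastF hm)) (Sum.inr (lastF hm)) = 0) :
    cSign m F (lastF hm) * b' * (cSign m F (lastF hm))⁻¹ ∈ Bsub m F := by
  have hgc : (cSign m F (lastF hm) * b' * (cSign m F (lastF hm))⁻¹) * cSign m F (lastF hm) =
      cSign m F (lastF hm) * b' := by group
  have hmat : ((cSign m F (lastF hm) * b' * (cSign m F (lastF hm))⁻¹ : SpG m F).1 :
        Matrix (Fin m ⊕ Fin m) (Fin m ⊕ Fin m) F) * cSignMat m F (lastF hm) =
      cSignMat m F (lastF hm) * (b'.1 : Matrix (Fin m ⊕ Fin m) (Fin m ⊕ Fin m) F) :=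
    congrArg Subtype.val hgc
  have hM := (mem_Bsub_iff b').1 hb'
  rw [mem_Bsub_iff]
  intro a b hab
  rcases b with j | j
  · by_cases hj : j = lastF hm
    · subst hj
      have e := congrFun (congrFun hmat a) (Sum.inr (lastF hm))
      rw [f1l_mul_C_inr_k, f1l_CM2 hm _ hM h0 a hab] at e
      exact neg_eq_zero.mp e
    · have e := congrFun (congrFun hmat a) (Sum.inl j)
      rw [f1l_mul_C_inl_ne _ _ a j hj, f1l_CM1 hm _ hM a j hj hab] at e
      exact e
  · by_cases hj : j = lastF hm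
    · subst hj
      have e := congrFun (congrFun hmat a) (Sum.inl (lastF hm))
      rw [f1l_mul_C_inl_k, f1l_CM4 hm _ hM a hab] at e
      exact e
    · have e := congrFun (congrFun hmat a) (Sum.inr j)
      rw [f1l_mul_C_inr_ne _ _ a j hj, f1l_CM3 hm _ hM a j hj hab] at e
      exact e

/-- LEAF F1L. -/
theorem decomp_long (hm : 0 < m) (b : SpG m F) (hb : b ∈ Bsub m F) :
    ∃ b' ∈ Bsub m F, ∃ t : F, b = b' * xL m F (lastF hm) t ∧
      cSign m F (lastF hm) * b' * (cSign m F (lastF hm))⁻¹ ∈ Bsub m F := by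
  have hd0 : (b.1 : Matrix (Fin m ⊕ Fin m) (Fin m ⊕ Fin m) F)
      (Sum.inl (lastF hm)) (Sum.inl (lastF hm)) ≠ 0 := f1l_diag_ne_zero b hb _
  set t : F := (b.1 : Matrix (Fin m ⊕ Fin m) (Fin m ⊕ Fin m) F)
      (Sum.inl (lastF hm)) (Sum.inr (lastF hm)) /
    (b.1 : Matrix (Fin m ⊕ Fin m) (Fin m ⊕ Fin m) F)
      (Sum.inl (lastF hm)) (Sum.inl (lastF hm)) with ht
  have hinv : xL m F (lastF hm) (-t) * xL m F (lastF hm) t = 1 := by
    apply Subtype.ext
    change xLongMat m F (lastF hm) (-t) * xLongMat m F (lastF hm) t = 1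
    rw [f1l_xLongMat_mul, neg_add_cancel, f1l_xLongMat_zero]
  have hmem : b * xL m F (lastF hm) (-t) ∈ Bsub m F :=
    (Bsub m F).mul_mem hb (f1l_xL_mem_B _ (-t))
  refine ⟨b * xL m F (lastF hm) (-t), hmem, t, ?_, ?_⟩
  · rw [mul_assoc, hinv, mul_one]
  · apply f1l_conj_mem hm _ hmem
    change ((b.1 : Matrix (Fin m ⊕ Fin m) (Fin m ⊕ Fin m) F) * xLongMat m F (lastF hm) (-t))
      (Sum.inl (lastF hm)) (Sum.inr (lastF hm)) = 0
    rw [f1l_mul_xLongMat_inr, Pi.single_eq_same, ht]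
    field_simp
    ring

end main

end Cfsg.Agent.Lib.Helper93.StSp
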