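import Mathlib

/-!
# K-PG2 pack (S3452), leaf F36 (345207): a finite group with a nontrivial solvable normal subgroup and
spectrum `{1, 2, 3, 4}`: the symmetric group `S₄` with its Klein four-group.
-/

set_option autoImplicit false
set_option linter.unusedSectionVars false
set_option linter.unusedVariables false

namespace Cfsg.Agent.Lib.Helper93.PG2

open Matrix

/-- the double transposition `(0 1)(2 3)` -/
def f36_dtr : Equiv.Perm (Fin 4) := Equiv.swap 0 1 * Equiv.swap 2 3

theorem f36_conj_comm : ∀ g h : Equiv.Perm (Fin 4),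
    (g * f36_dtr * g⁻¹) * (h * f36_dtr * h⁻¹) = (h * f36_dtr * h⁻¹) * (g * f36_dtr * g⁻¹) := by
  decide +kernel

theorem f36_pow_cases : ∀ σ : Equiv.Perm (Fin 4),
    σ ^ 1 = 1 ∨ σ ^ 2 = 1 ∨ σ ^ 3 = 1 ∨ σ ^ 4 = 1 := by
  decide +kernel

theorem f36_dtr_ne : f36_dtr ≠ 1 := by decide +kernel

theorem f36_three : (c[(0 : Fin 4), 1, 2] : Equiv.Perm (Fin 4)) ^ 3 = 1 ∧
    (c[(0 : Fin 4), 1, 2] : Equiv.Perm (Fin 4)) ≠ 1 := by decide +kernel

theorem f36_four : ¬ (c[(0 : Fin 4), 1, 2, 3] : Equiv.Perm (Fin 4)) ^ 2 ^ 1 = 1 ∧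
    (c[(0 : Fin 4), 1, 2, 3] : Equiv.Perm (Fin 4)) ^ 2 ^ (1 + 1) = 1 := by decide +kernel

theorem f36_two : (Equiv.swap (0 : Fin 4) 1) ^ 2 = 1 ∧ Equiv.swap (0 : Fin 4) 1 ≠ 1 := by
  decide +kernel

theorem exists_spec_pgl23 : ∃ (G : Type) (_ : Group G) (_ : Finite G) (K : Subgroup G),
    K.Normal ∧ K ≠ ⊥ ∧ Group.IsSolvable ↥K ∧ Set.range (orderOf : G → ℕ) = {1, 2, 3, 4} := by
  refine ⟨Equiv.Perm (Fin 4), inferInstance, inferInstance,
    Subgroup.normalClosure {f36_dtr}, Subgroup.normalClosure_normal, ?_, ?_, ?_⟩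
  · intro h
    have hm : f36_dtr ∈ Subgroup.normalClosure ({f36_dtr} : Set (Equiv.Perm (Fin 4))) :=
      Subgroup.subset_normalClosure (Set.mem_singleton _)
    rw [h, Subgroup.mem_bot] at hm
    exact f36_dtr_ne hm
  · have hcomm : ∀ x ∈ Group.conjugatesOfSet ({f36_dtr} : Set (Equiv.Perm (Fin 4))),
        ∀ y ∈ Group.conjugatesOfSet ({f36_dtr} : Set (Equiv.Perm (Fin 4))), x * y = y * x := by
      intro x hx y hy
      rw [Group.mem_conjugatesOfSet_iff] at hx hy
      obtain ⟨a, ha, hax⟩ := hx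
      obtain ⟨b, hb, hby⟩ := hy
      rw [Set.mem_singleton_iff] at ha hb
      subst ha hb
      obtain ⟨g, hg⟩ := isConj_iff.1 hax
      obtain ⟨h, hh⟩ := isConj_iff.1 hby
      rw [← hg, ← hh]
      exact f36_conj_comm g h
    have hc : ∀ x y : ↥(Subgroup.closure (Group.conjugatesOfSet
        ({f36_dtr} : Set (Equiv.Perm (Fin 4))))), x * y = y * x :=
      isMulCommutative_iff.1 (Subgroup.isMulCommutative_closure hcomm)
    exact Group.isSolvable_of_comm hc
  · ext k
    simp only [Set.mem_range, Set.mem_insert_iff, Set.mem_singleton_iff]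
    constructor
    · rintro ⟨σ, rfl⟩
      rcases f36_pow_cases σ with h | h | h | h
      · have := orderOf_dvd_of_pow_eq_one h
        have h1 : orderOf σ ≤ 1 := Nat.le_of_dvd (by norm_num) this
        have h0 : 0 < orderOf σ := orderOf_pos σ
        omega
      · have := orderOf_dvd_of_pow_eq_one h
        have h1 : orderOf σ ≤ 2 := Nat.le_of_dvd (by norm_num) this
        have h0 : 0 < orderOf σ := orderOf_pos σ
        omega
      · have := orderOf_dvd_of_pow_eq_one h
        have h1 : orderOf σ ≤ 3 := Nat.le_of_dvd (by norm_num) this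
        have h0 : 0 < orderOf σ := orderOf_pos σ
        have h2 : orderOf σ ≠ 2 := by
          intro e
          rw [e] at this
          omega
        omega
      · have := orderOf_dvd_of_pow_eq_one h
        have h1 : orderOf σ ≤ 4 := Nat.le_of_dvd (by norm_num) this
        have h0 : 0 < orderOf σ := orderOf_pos σ
        omega
    · rintro (rfl | rfl | rfl | rfl)
      · exact ⟨1, orderOf_one⟩
      · exact ⟨Equiv.swap 0 1, orderOf_eq_prime f36_two.1 f36_two.2⟩
      · exact ⟨c[(0 : Fin 4), 1, 2], orderOf_eq_prime f36_three.1 f36_three.2⟩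
      · exact ⟨c[(0 : Fin 4), 1, 2, 3], orderOf_eq_prime_pow f36_four.1 f36_four.2⟩

end Cfsg.Agent.Lib.Helper93.PG2
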