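import Cfsg.Agent.Lib.Helper64.StBDefs

/-!
# K-S2311-A1 : additivity of the length on `n * closure K` for `n` right-`K`-reduced (and the mirror image)

Self-contained: `len_inv_aux` (= K-A0 `len_inv`) is proved here as well.
-/

set_option autoImplicit false

namespace Cfsg.Agent.Lib.Helper93.StB

open Cfsg Cfsg.Agent.Lib.Helper08 Cfsg.Agent.Lib.Helper64.StB

variable {G : Type*} [Group G] (P : Cfsg.BNPair G)

theorem closure_le_N {J : Set G} (hJ : J ⊆ P.S) : Subgroup.closure J ≤ P.N :=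
  (Subgroup.closure_mono hJ).trans (closure_S_le_N P)

theorem prod_mem_closure {J : Set G} {l : List G} (hl : ∀ a ∈ l, a ∈ J) :
    l.prod ∈ Subgroup.closure J :=
  Subgroup.list_prod_mem _ (fun a ha => Subgroup.subset_closure (hl a ha))

/-- a reduced `J`-word for an element of `closure J` -/
theorem exists_reduced_word_of_mem_closure {J : Set G} (hJ : J ⊆ P.S) {v : G}
    (hv : v ∈ Subgroup.closure J) :
    ∃ μ : List G, (∀ a ∈ μ, a ∈ J) ∧ Reduced P μ ∧ Eqv P μ.prod v ∧ μ.length = len P v := by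
  obtain ⟨l, hlJ, hlv⟩ := exists_word_of_mem_closure P hJ hv
  obtain ⟨μ, hsub, hred, heqv⟩ := exists_reduced_sublist P l (fun a ha => hJ (hlJ a ha))
  have h1 : Eqv P μ.prod v := Eqv_trans P (Eqv_symm P heqv) hlv
  refine ⟨μ, fun a ha => hlJ a (hsub.subset ha), hred, h1, ?_⟩
  rw [← hred.2]
  exact len_congr P h1

theorem Eqv_cancel_right {a b d : G} (ha : a ∈ P.N) (hb : b ∈ P.N) (hd : d ∈ P.N)
    (h : Eqv P (a * d) (b * d)) : Eqv P a b := by
  have := Eqv_mul_right P (P.N.mul_mem ha hd) (P.N.mul_mem hb hd) (P.N.inv_mem hd) h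
  simpa [mul_assoc] using this

/-- Step 1 (left version): if `d` has minimal length in `closure J * d`, the length is additive. -/
theorem len_mul_of_min_left {J : Set G} (hJ : J ⊆ P.S) {d : G} (hd : d ∈ P.N)
    (hmin : ∀ a ∈ Subgroup.closure J, len P d ≤ len P (a * d)) {u : G}
    (hu : u ∈ Subgroup.closure J) : len P (u * d) = len P u + len P d := by
  have hJN := closure_le_N P hJ
  obtain ⟨δ, hδlen, hδS, hδd⟩ := exists_word_len P hd
  obtain ⟨μ, hμJ, hμred, hμu, hμlen⟩ := exists_reduced_word_of_mem_closure P hJ hu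
  have hμS : ∀ a ∈ μ, a ∈ P.S := fun a ha => hJ (hμJ a ha)
  have hall : ∀ a ∈ μ ++ δ, a ∈ P.S := by
    intro a ha
    rcases List.mem_append.mp ha with h | h
    · exact hμS a h
    · exact hδS a h
  obtain ⟨L, hsub, hLred, hLeqv⟩ := exists_reduced_sublist P (μ ++ δ) hall
  obtain ⟨μ', δ', rfl, hμ'sub, hδ'sub⟩ := List.sublist_append_iff.mp hsub
  have hμ'J : ∀ a ∈ μ', a ∈ J := fun a ha => hμJ a (hμ'sub.subset ha)
  have hμ'S : ∀ a ∈ μ', a ∈ P.S := fun a ha => hJ (hμ'J a ha)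
  have hδ'S : ∀ a ∈ δ', a ∈ P.S := fun a ha => hδS a (hδ'sub.subset ha)
  have hμN : μ.prod ∈ P.N := prod_mem_N P hμS
  have hμ'N : μ'.prod ∈ P.N := prod_mem_N P hμ'S
  have huN : u ∈ P.N := hJN hu
  -- the product of `μ ++ δ`
  have hprod : Eqv P (μ ++ δ).prod (u * d) := by
    rw [List.prod_append]
    exact Eqv_trans P (Eqv_mul_left P _ hδd) (Eqv_mul_right P hμN huN hd hμu)
  have hL : Eqv P (μ'.prod * δ'.prod) (u * d) := by
    have := Eqv_trans P (Eqv_symm P hLeqv) hprod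
    rwa [List.prod_append] at this
  -- `δ' = δ`
  have hδ'eq : Eqv P δ'.prod (μ'.prod⁻¹ * u * d) := by
    have := Eqv_mul_left P μ'.prod⁻¹ hL
    simpa [mul_assoc] using this
  have hδ'len : δ'.length = δ.length := by
    have h1 : len P d ≤ len P (μ'.prod⁻¹ * u * d) :=
      hmin _ (Subgroup.mul_mem _ (Subgroup.inv_mem _ (prod_mem_closure hμ'J)) hu)
    have h2 : len P δ'.prod ≤ δ'.length := len_le P ⟨hδ'S, Eqv_refl P _⟩
    have h3 := len_congr P hδ'eq
    have h4 := hδ'sub.length_le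
    omega
  have hδ' : δ' = δ := hδ'sub.eq_of_length hδ'len
  subst hδ'
  -- `μ' = μ`
  have hμ'u : Eqv P μ'.prod u := by
    apply Eqv_cancel_right P hμ'N huN hd
    exact Eqv_trans P (Eqv_mul_left P _ (Eqv_symm P hδd)) hL
  have hμ'len : μ'.length = μ.length := by
    have h2 : len P μ'.prod ≤ μ'.length := len_le P ⟨hμ'S, Eqv_refl P _⟩
    have h3 := len_congr P hμ'u
    have h4 := hμ'sub.length_le
    omega
  have hμ' : μ' = μ := hμ'sub.eq_of_length hμ'len
  subst hμ'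
  have h5 := hLred.2
  rw [List.length_append] at h5
  rw [← len_congr P hprod, h5, hμlen, hδlen]

/-- K-A1L. -/
theorem len_mul_left_of_red {J : Set G} (hJ : J ⊆ P.S) {n : G} (hn : n ∈ P.N)
    (hred : ∀ s ∈ J, len P n < len P (s * n)) {v : G} (hv : v ∈ Subgroup.closure J) :
    len P (v * n) = len P v + len P n := by
  classical
  have hJN := closure_le_N P hJ
  have hex : ∃ k, ∃ a ∈ Subgroup.closure J, len P (a * n) = k :=
    ⟨_, 1, Subgroup.one_mem _, rfl⟩
  obtain ⟨v₀, hv₀, hk₀⟩ := Nat.find_spec hex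
  have hmin0 : ∀ a ∈ Subgroup.closure J, len P (v₀ * n) ≤ len P (a * n) := by
    intro a ha
    rw [hk₀]
    exact Nat.find_min' hex ⟨a, ha, rfl⟩
  obtain ⟨d, hddef⟩ : ∃ d, d = v₀ * n := ⟨_, rfl⟩
  have hd : d ∈ P.N := by rw [hddef]; exact P.N.mul_mem (hJN hv₀) hn
  have hmin : ∀ a ∈ Subgroup.closure J, len P d ≤ len P (a * d) := by
    intro a ha
    have := hmin0 (a * v₀) (Subgroup.mul_mem _ ha hv₀)
    rw [hddef, ← mul_assoc]
    exact this
  have hu₀ : v₀⁻¹ ∈ Subgroup.closure J := Subgroup.inv_mem _ hv₀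
  have hn_eq : n = v₀⁻¹ * d := by rw [hddef]; group
  have h1 : len P n = len P v₀⁻¹ + len P d := by
    have := len_mul_of_min_left P hJ hd hmin hu₀
    rwa [← hn_eq] at this
  have hu0 : len P v₀⁻¹ = 0 := by
    by_contra hne
    obtain ⟨μ, hμJ, hμred, hμu, hμlen⟩ := exists_reduced_word_of_mem_closure P hJ hu₀
    cases μ with
    | nil =>
      simp only [List.length_nil] at hμlen
      exact hne hμlen.symm
    | cons s μ' =>
      have hsJ : s ∈ J := hμJ s List.mem_cons_self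
      have hs : s ∈ P.S := hJ hsJ
      have hμ'S : ∀ a ∈ μ', a ∈ P.S := fun a ha => hJ (hμJ a (List.mem_cons_of_mem _ ha))
      have e1 : Eqv P (s * v₀⁻¹) (s * (s * μ'.prod)) := by
        apply Eqv_mul_left P s
        apply Eqv_symm P
        simpa using hμu
      have e2 : Eqv P (s * (s * μ'.prod)) μ'.prod := Eqv_sq_mul P hs (prod_mem_N P hμ'S)
      have hlen : len P (s * v₀⁻¹) ≤ μ'.length := by
        rw [len_congr P (Eqv_trans P e1 e2)]
        exact len_le P ⟨hμ'S, Eqv_refl P _⟩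
      have h2 : len P (s * v₀⁻¹ * d) = len P (s * v₀⁻¹) + len P d :=
        len_mul_of_min_left P hJ hd hmin
          (Subgroup.mul_mem _ (Subgroup.subset_closure hsJ) hu₀)
      have h3 : s * n = s * v₀⁻¹ * d := by rw [hn_eq, mul_assoc]
      have h4 := hred s hsJ
      rw [h3, h2] at h4
      simp only [List.length_cons] at hμlen
      omega
  have hu0B : v₀⁻¹ ∈ P.B := mem_B_of_len_eq_zero P (hJN hu₀) hu0
  have h3 : len P (v * v₀⁻¹ * d) = len P (v * v₀⁻¹) + len P d :=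
    len_mul_of_min_left P hJ hd hmin (Subgroup.mul_mem _ hv hu₀)
  have h4 : len P (v * v₀⁻¹) = len P v := (len_congr P (Eqv_mul_B P hu0B)).symm
  have h5 : v * n = v * v₀⁻¹ * d := by rw [hn_eq, mul_assoc]
  rw [h5, h3, h4, h1, hu0, zero_add]

/-! ### inversion -/

theorem Eqv_inv_of_Eqv {n m : G} (hn : n ∈ P.N) (hm : m ∈ P.N) (h : Eqv P n m) : Eqv P n⁻¹ m⁻¹ := by
  -- `n * m⁻¹ = n * (m⁻¹ * n) * n⁻¹`
  have h1 : m⁻¹ * n ∈ P.B := Eqv_symm P h
  have h2 : m⁻¹ * n ∈ P.N := P.N.mul_mem (P.N.inv_mem hm) hn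
  have h3 := conj_mem_B P hn h1 h2
  have h4 : n * (m⁻¹ * n) * n⁻¹ = n⁻¹⁻¹ * m⁻¹ := by group
  rw [h4] at h3
  exact h3

theorem Eqv_reverse_prod : ∀ l : List G, (∀ a ∈ l, a ∈ P.S) → Eqv P l.reverse.prod (l.prod)⁻¹ := by
  intro l
  induction l with
  | nil => intro _; simpa using Eqv_refl P (1 : G)
  | cons s l ih =>
    intro hl
    have hs : s ∈ P.S := hl s List.mem_cons_self
    have hl' : ∀ a ∈ l, a ∈ P.S := fun a ha => hl a (List.mem_cons_of_mem _ ha)
    have hl'r : ∀ a ∈ l.reverse, a ∈ P.S := fun a ha => hl' a (List.mem_reverse.mp ha)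
    have ih' := ih hl'
    rw [List.reverse_cons, List.prod_append, List.prod_singleton, List.prod_cons, mul_inv_rev]
    have e1 : Eqv P (l.reverse.prod * s) (l.prod⁻¹ * s) :=
      Eqv_mul_right P (prod_mem_N P hl'r) (P.N.inv_mem (prod_mem_N P hl')) (S_mem_N P hs) ih'
    have e2 : Eqv P (l.prod⁻¹ * s) (l.prod⁻¹ * s⁻¹) :=
      Eqv_mul_left P _ (Eqv_symm P (Eqv_inv_S P hs))
    exact Eqv_trans P e1 e2

theorem len_inv_le {n : G} (hn : n ∈ P.N) : len P n⁻¹ ≤ len P n := by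
  obtain ⟨l, hllen, hlS, hln⟩ := exists_word_len P hn
  have hlr : ∀ a ∈ l.reverse, a ∈ P.S := fun a ha => hlS a (List.mem_reverse.mp ha)
  have e1 := Eqv_reverse_prod P l hlS
  have e2 : Eqv P (l.prod)⁻¹ n⁻¹ := Eqv_inv_of_Eqv P (prod_mem_N P hlS) hn hln
  have := len_le P (l := l.reverse) (n := n⁻¹) ⟨hlr, Eqv_trans P e1 e2⟩
  rw [List.length_reverse, hllen] at this
  exact this

/-- (= K-A0 `len_inv`) -/
theorem len_inv_aux {n : G} (hn : n ∈ P.N) : len P n⁻¹ = len P n := by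
  apply le_antisymm (len_inv_le P hn)
  have := len_inv_le P (P.N.inv_mem hn)
  rwa [inv_inv] at this

/-- K-A1R. -/
theorem len_mul_right_of_red {K : Set G} (hK : K ⊆ P.S) {n : G} (hn : n ∈ P.N)
    (hred : ∀ t ∈ K, len P n < len P (n * t)) {v : G} (hv : v ∈ Subgroup.closure K) :
    len P (n * v) = len P n + len P v := by
  have hKN := closure_le_N P hK
  have hred' : ∀ s ∈ K, len P n⁻¹ < len P (s * n⁻¹) := by
    intro s hsK
    have hs : s ∈ P.S := hK hsK
    have hsN : s ∈ P.N := S_mem_N P hs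
    have h1 : s * n⁻¹ = (n * s⁻¹)⁻¹ := by group
    have h2 : len P (n * s⁻¹) = len P (n * s) := len_congr P (Eqv_mul_left P n (Eqv_inv_S P hs))
    rw [h1, len_inv_aux P (P.N.mul_mem hn (P.N.inv_mem hsN)), h2, len_inv_aux P hn]
    exact hred s hsK
  have h := len_mul_left_of_red P hK (P.N.inv_mem hn) hred' (Subgroup.inv_mem _ hv)
  have h1 : v⁻¹ * n⁻¹ = (n * v)⁻¹ := by group
  rw [h1, len_inv_aux P (P.N.mul_mem hn (hKN hv)), len_inv_aux P (hKN hv), len_inv_aux P hn] at h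
  omega

end Cfsg.Agent.Lib.Helper93.StB
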