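import Mathlib
import Cfsg.Prelude.Def_Transfer
import Cfsg.Agent.Lib.Helper01.Basic

/-!
# K-S1421-L : the lines lemma (pure group theory)

`A ≅ C_p²` normalized by `L` of odd order with `L' ≤ C(A)`; `H ≤ L` all of whose elements of prime-power
order normalize some line of `A`.  Then either every line of `A` is `H`-invariant, or some line is
`L`-invariant.

Proof: an element normalizing three distinct lines acts on `A` as a power map, hence normalizes every
line.  So a prime-power part `h` of an element moving a line has at most two invariant lines; `L`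
permutes them (`l h l⁻¹ ∈ h C(A)`), and has odd order, so fixes them.
-/

set_option autoImplicit false
set_option linter.unusedSectionVars false

namespace Cfsg.Agent.Lib.Helper93.BG1211

open Cfsg Cfsg.Agent.Lib.Helper01
open scoped Pointwise

variable {G : Type*} [Group G] [Finite G]

/-- in a finite group, `g R g⁻¹ ≤ R` forces `g ∈ N(R)` -/
theorem mem_normalizer_of_conj_mem (R : Subgroup G) (g : G)
    (h : ∀ r ∈ R, g * r * g⁻¹ ∈ R) : g ∈ Subgroup.normalizer (R : Set G) := by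
  rw [Subgroup.mem_normalizer_iff]
  intro r
  constructor
  · exact h r
  · intro hr
    let f : R → R := fun s => ⟨g * s * g⁻¹, h s s.2⟩
    have hf : Function.Injective f := by
      intro s t hst
      have := congrArg Subtype.val hst
      simp only [f] at this
      apply Subtype.ext
      simpa using this
    have hsurj := Finite.surjective_of_injective hf
    obtain ⟨s, hs⟩ := hsurj ⟨g * r * g⁻¹, hr⟩
    have := congrArg Subtype.val hs
    simp only [f] at this
    have : (s : G) = r := by simpa using this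
    rw [← this]
    exact s.2

/-- some prime-power part of `g ∉ N` is not in `N` -/
theorem exists_primePow_part_not_mem (g : G) (N : Subgroup G) (hg : g ∉ N) :
    ∃ (h : G) (r k : ℕ), h ∈ Subgroup.zpowers g ∧ r.Prime ∧ orderOf h = r ^ k ∧ h ∉ N := by
  by_contra hcon
  push Not at hcon
  apply hg
  set Z : Subgroup G := Subgroup.zpowers g with hZ
  have key : (N.subgroupOf Z).index = 1 := by
    by_contra h1
    obtain ⟨r, hr, hrd⟩ := Nat.exists_prime_and_dvd h1
    have hrF : Fact r.Prime := ⟨hr⟩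
    let P : Sylow r Z := default
    have hPK : (P : Subgroup Z) ≤ N.subgroupOf Z := by
      intro x hx
      rw [Subgroup.mem_subgroupOf]
      obtain ⟨k, hk⟩ := (IsPGroup.iff_orderOf.mp P.isPGroup') ⟨x, hx⟩
      have h1 : orderOf (x : G) = r ^ k := by
        rw [Subgroup.orderOf_coe, ← hk]
        exact (Subgroup.orderOf_mk x hx).symm
      exact hcon (x : G) r k x.2 hr h1
    exact P.not_dvd_index (dvd_trans hrd (Subgroup.index_dvd_of_le hPK))
  have htop := Subgroup.index_eq_one.mp key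
  have : (⟨g, Subgroup.mem_zpowers g⟩ : Z) ∈ N.subgroupOf Z := by rw [htop]; exact Subgroup.mem_top _
  exact Subgroup.mem_subgroupOf.mp this

section lines

variable {p : ℕ} [Fact p.Prime]

theorem inf_eq_bot_of_lines {X Y : Subgroup G} (hX : Nat.card X = p) (hY : Nat.card Y = p)
    (hne : X ≠ Y) : X ⊓ Y = ⊥ := by
  have hp : p.Prime := Fact.out
  have hd : Nat.card (X ⊓ Y : Subgroup G) ∣ p := by
    rw [← hX]; exact Subgroup.card_dvd_of_le inf_le_left
  rcases (Nat.dvd_prime hp).mp hd with h | h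
  · exact Subgroup.card_eq_one.mp h
  · exfalso
    apply hne
    have h1 : X ⊓ Y = X := Subgroup.eq_of_le_of_card_ge inf_le_left (by rw [h, hX])
    have h2 : X ≤ Y := by rw [← h1]; exact inf_le_right
    exact Subgroup.eq_of_le_of_card_ge h2 (by rw [hX, hY])

theorem exists_ne_one_of_line {X : Subgroup G} (hX : Nat.card X = p) : ∃ x ∈ X, x ≠ 1 := by
  have hp : p.Prime := Fact.out
  have hne : X ≠ ⊥ := by
    intro h
    rw [h, Subgroup.card_bot] at hX
    exact hp.one_lt.ne hX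
  exact (Subgroup.ne_bot_iff_exists_ne_one).mp hne |>.elim fun x hx => ⟨x.1, x.2, fun h => hx (Subtype.ext h)⟩

theorem exists_zpow_eq_of_line {X : Subgroup G} (hX : Nat.card X = p) {x x' : G} (hx : x ∈ X)
    (hx1 : x ≠ 1) (hx' : x' ∈ X) : ∃ k : ℤ, x ^ k = x' := by
  have h1 : (⟨x, hx⟩ : X) ≠ 1 := fun h => hx1 (congrArg Subtype.val h)
  have h2 : (⟨x', hx'⟩ : X) ∈ Subgroup.zpowers (⟨x, hx⟩ : X) := mem_zpowers_of_prime_card hX h1
  obtain ⟨k, hk⟩ := Subgroup.mem_zpowers_iff.mp h2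
  refine ⟨k, ?_⟩
  have := congrArg Subtype.val hk
  simpa using this

/-- an element normalizing a line acts on it as a power map -/
theorem exists_conj_eq_zpow {X : Subgroup G} (hX : Nat.card X = p) {h : G}
    (hh : h ∈ Subgroup.normalizer (X : Set G)) {x : G} (hx : x ∈ X) (hx1 : x ≠ 1) :
    ∃ i : ℤ, h * x * h⁻¹ = x ^ i := by
  have h1 : h * x * h⁻¹ ∈ X := (Subgroup.mem_normalizer_iff.mp hh x).mp hx
  obtain ⟨i, hi⟩ := exists_zpow_eq_of_line hX hx hx1 h1
  exact ⟨i, hi.symm⟩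

/-- **three invariant lines**: an element normalizing three distinct lines of `A ≅ C_p²` acts on `A` as a
power map, hence normalizes every subgroup of `A`. -/
theorem mem_normalizer_of_three_lines {A X Y Z W : Subgroup G} (hAc : ∀ a ∈ A, ∀ b ∈ A, a * b = b * a)
    (hAcard : Nat.card A = p ^ 2) (hXA : X ≤ A) (hYA : Y ≤ A) (hZA : Z ≤ A) (hWA : W ≤ A)
    (hX : Nat.card X = p) (hY : Nat.card Y = p) (hZ : Nat.card Z = p)
    (hXY : X ≠ Y) (hXZ : X ≠ Z) (hYZ : Y ≠ Z) {h : G}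
    (hhX : h ∈ Subgroup.normalizer (X : Set G)) (hhY : h ∈ Subgroup.normalizer (Y : Set G))
    (hhZ : h ∈ Subgroup.normalizer (Z : Set G)) : h ∈ Subgroup.normalizer (W : Set G) := by
  have iXY := inf_eq_bot_of_lines hX hY hXY
  have iXZ := inf_eq_bot_of_lines hX hZ hXZ
  have iYZ := inf_eq_bot_of_lines hY hZ hYZ
  -- decomposition `A = X Y`
  have hdec : ∀ a ∈ A, ∃ x ∈ X, ∃ y ∈ Y, a = x * y := by
    let f : X × Y → A := fun q => ⟨q.1 * q.2, A.mul_mem (hXA q.1.2) (hYA q.2.2)⟩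
    have hf : Function.Injective f := by
      rintro ⟨x, y⟩ ⟨x', y'⟩ hq
      have hq' : (x : G) * y = x' * y' := congrArg Subtype.val hq
      have e1 : (x' : G)⁻¹ * x = y' * (y : G)⁻¹ := by
        calc (x' : G)⁻¹ * x = (x' : G)⁻¹ * (x * y) * (y : G)⁻¹ := by group
          _ = (x' : G)⁻¹ * (x' * y') * (y : G)⁻¹ := by rw [hq']
          _ = y' * (y : G)⁻¹ := by group
      have e2 : (x' : G)⁻¹ * x ∈ X ⊓ Y :=
        Subgroup.mem_inf.mpr ⟨X.mul_mem (X.inv_mem x'.2) x.2, e1 ▸ Y.mul_mem y'.2 (Y.inv_mem y.2)⟩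
      rw [iXY, Subgroup.mem_bot] at e2
      have e3 : (x : G) = x' := by
        calc (x : G) = x' * ((x' : G)⁻¹ * x) := by group
          _ = x' := by rw [e2, mul_one]
      have e4 : (y : G) = y' := by
        rw [e3] at hq'
        exact mul_left_cancel hq'
      exact Prod.ext (Subtype.ext e3) (Subtype.ext e4)
    have hcard : Nat.card A ≤ Nat.card (X × Y) := by
      rw [Nat.card_prod, hX, hY, hAcard, sq]
    have hbij := hf.bijective_of_nat_card_le hcard
    intro a ha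
    obtain ⟨⟨x, y⟩, hxy⟩ := hbij.2 ⟨a, ha⟩
    exact ⟨x, x.2, y, y.2, (congrArg Subtype.val hxy).symm⟩
  -- a generator of `Z` and its components
  obtain ⟨z₀, hz₀Z, hz₀1⟩ := exists_ne_one_of_line hZ
  obtain ⟨x', hx'X, y', hy'Y, hz₀⟩ := hdec z₀ (hZA hz₀Z)
  have hx'1 : x' ≠ 1 := by
    intro h1
    rw [h1, one_mul] at hz₀
    have : z₀ ∈ Y ⊓ Z := Subgroup.mem_inf.mpr ⟨hz₀ ▸ hy'Y, hz₀Z⟩
    rw [iYZ, Subgroup.mem_bot] at this
    exact hz₀1 this
  have hy'1 : y' ≠ 1 := by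
    intro h1
    rw [h1, mul_one] at hz₀
    have : z₀ ∈ X ⊓ Z := Subgroup.mem_inf.mpr ⟨hz₀ ▸ hx'X, hz₀Z⟩
    rw [iXZ, Subgroup.mem_bot] at this
    exact hz₀1 this
  obtain ⟨i, hi⟩ := exists_conj_eq_zpow hX hhX hx'X hx'1
  obtain ⟨j, hj⟩ := exists_conj_eq_zpow hY hhY hy'Y hy'1
  obtain ⟨m, hm⟩ := exists_conj_eq_zpow hZ hhZ hz₀Z hz₀1
  have hcomm : Commute x' y' := hAc x' (hXA hx'X) y' (hYA hy'Y)
  have e1 : x' ^ i * y' ^ j = x' ^ m * y' ^ m := by
    calc x' ^ i * y' ^ j = (h * x' * h⁻¹) * (h * y' * h⁻¹) := by rw [hi, hj]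
      _ = h * (x' * y') * h⁻¹ := by group
      _ = (x' * y') ^ m := by rw [← hz₀, hm]
      _ = x' ^ m * y' ^ m := hcomm.mul_zpow m
  have e2 : (x' ^ m)⁻¹ * x' ^ i = y' ^ m * (y' ^ j)⁻¹ := by
    calc (x' ^ m)⁻¹ * x' ^ i = (x' ^ m)⁻¹ * (x' ^ i * y' ^ j) * (y' ^ j)⁻¹ := by group
      _ = (x' ^ m)⁻¹ * (x' ^ m * y' ^ m) * (y' ^ j)⁻¹ := by rw [e1]
      _ = y' ^ m * (y' ^ j)⁻¹ := by group
  have e3 : (x' ^ m)⁻¹ * x' ^ i ∈ X ⊓ Y :=
    Subgroup.mem_inf.mpr ⟨X.mul_mem (X.inv_mem (X.zpow_mem hx'X m)) (X.zpow_mem hx'X i),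
      e2 ▸ Y.mul_mem (Y.zpow_mem hy'Y m) (Y.inv_mem (Y.zpow_mem hy'Y j))⟩
  rw [iXY, Subgroup.mem_bot] at e3
  have hxi : x' ^ i = x' ^ m := by
    calc x' ^ i = x' ^ m * ((x' ^ m)⁻¹ * x' ^ i) := by group
      _ = x' ^ m := by rw [e3, mul_one]
  have hyj : y' ^ j = y' ^ m := by
    rw [hxi] at e1
    exact mul_left_cancel e1
  -- `h` acts on `X` and `Y` as the `m`-th power map
  have hXm : ∀ x ∈ X, h * x * h⁻¹ = x ^ m := by
    intro x hx
    obtain ⟨k, rfl⟩ := exists_zpow_eq_of_line hX hx'X hx'1 hx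
    calc h * x' ^ k * h⁻¹ = (h * x' * h⁻¹) ^ k := (conj_zpow (a := h) (b := x') (i := k)).symm
      _ = (x' ^ m) ^ k := by rw [hi, hxi]
      _ = (x' ^ k) ^ m := by rw [← zpow_mul, ← zpow_mul, mul_comm]
  have hYm : ∀ y ∈ Y, h * y * h⁻¹ = y ^ m := by
    intro y hy
    obtain ⟨k, rfl⟩ := exists_zpow_eq_of_line hY hy'Y hy'1 hy
    calc h * y' ^ k * h⁻¹ = (h * y' * h⁻¹) ^ k := (conj_zpow (a := h) (b := y') (i := k)).symm
      _ = (y' ^ m) ^ k := by rw [hj, hyj]
      _ = (y' ^ k) ^ m := by rw [← zpow_mul, ← zpow_mul, mul_comm]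
  have hAm : ∀ a ∈ A, h * a * h⁻¹ = a ^ m := by
    intro a ha
    obtain ⟨x, hx, y, hy, rfl⟩ := hdec a ha
    have hc : Commute x y := hAc x (hXA hx) y (hYA hy)
    calc h * (x * y) * h⁻¹ = (h * x * h⁻¹) * (h * y * h⁻¹) := by group
      _ = x ^ m * y ^ m := by rw [hXm x hx, hYm y hy]
      _ = (x * y) ^ m := (hc.mul_zpow m).symm
  apply mem_normalizer_of_conj_mem
  intro w hw
  rw [hAm w (hWA hw)]
  exact W.zpow_mem hw m

end lines

/-- the `h`-invariant lines are permuted by `L` -/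
theorem conj_line_invariant {L A X : Subgroup G} (hLA : L ≤ Subgroup.normalizer (A : Set G))
    (hLc : ⁅L, L⁆ ≤ Subgroup.centralizer (A : Set G)) (hXA : X ≤ A) {h l : G} (hh : h ∈ L) (hl : l ∈ L)
    (hhX : h ∈ Subgroup.normalizer (X : Set G)) :
    MulAut.conj l • X ≤ A ∧ h ∈ Subgroup.normalizer ((MulAut.conj l • X : Subgroup G) : Set G) := by
  constructor
  · have h1 : MulAut.conj l • A = A := mem_normalizer_iff_conj_smul.mp (hLA hl)
    rw [← h1]
    exact Subgroup.pointwise_smul_le_pointwise_smul_iff.mpr hXA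
  · rw [mem_normalizer_iff_conj_smul]
    -- `c = l⁻¹ h l h⁻¹` centralizes `A`
    obtain ⟨c, hcdef⟩ : ∃ c, c = l⁻¹ * h * l * h⁻¹ := ⟨_, rfl⟩
    have hcL : c ∈ ⁅L, L⁆ := by
      have := Subgroup.commutator_mem_commutator (L.inv_mem hl) hh
      rw [commutatorElement_def, inv_inv] at this
      rw [hcdef]; exact this
    have hcA : c ∈ Subgroup.centralizer (A : Set G) := hLc hcL
    have hcX : MulAut.conj c • X = X := by
      rw [← mem_normalizer_iff_conj_smul]
      apply Subgroup.centralizer_le_normalizer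
      exact Subgroup.centralizer_le (by exact_mod_cast hXA) hcA
    have hhX' : MulAut.conj h • X = X := mem_normalizer_iff_conj_smul.mp hhX
    have e : h * l = l * c * h := by rw [hcdef]; group
    rw [smul_smul, ← map_mul, e, map_mul, map_mul, mul_smul, mul_smul, hhX', hcX]

/-- **(L)** -/
theorem lines_dichotomy {p : ℕ} [Fact p.Prime] (L A H : Subgroup G) (hodd : Odd (Nat.card L))
    (hLA : L ≤ Subgroup.normalizer (A : Set G))
    (hA : IsElementaryAbelian p A) (hAc : Nat.card A = p ^ 2)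
    (hLc : ⁅L, L⁆ ≤ Subgroup.centralizer (A : Set G))
    (hHL : H ≤ L) (hHp : ¬ p ∣ Nat.card H)
    (hline : ∀ h ∈ H, ∀ (r k : ℕ), r.Prime → orderOf h = r ^ k →
      ∃ X : Subgroup G, X ≤ A ∧ Nat.card X = p ∧ h ∈ Subgroup.normalizer (X : Set G)) :
    (∀ X : Subgroup G, X ≤ A → Nat.card X = p → H ≤ Subgroup.normalizer (X : Set G)) ∨
      ∃ X : Subgroup G, X ≤ A ∧ Nat.card X = p ∧ L ≤ Subgroup.normalizer (X : Set G) := by
  by_cases hall : ∀ X : Subgroup G, X ≤ A → Nat.card X = p → H ≤ Subgroup.normalizer (X : Set G)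
  · exact Or.inl hall
  right
  push Not at hall
  obtain ⟨X₁, hX₁A, hX₁p, hHX₁⟩ := hall
  obtain ⟨g, hgH, hgN⟩ := SetLike.not_le_iff_exists.mp hHX₁
  obtain ⟨h, r, k, hhg, hr, hord, hhN⟩ := exists_primePow_part_not_mem g _ hgN
  have hhH : h ∈ H := (Subgroup.zpowers_le.mpr hgH) hhg
  have hhL : h ∈ L := hHL hhH
  obtain ⟨X₀, hX₀A, hX₀p, hhX₀⟩ := hline h hhH r k hr hord
  have hAcomm : ∀ a ∈ A, ∀ b ∈ A, a * b = b * a := by
    intro a ha b hb
    have h1 := hA.1.is_comm.comm (⟨a, ha⟩ : A) ⟨b, hb⟩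
    exact congrArg Subtype.val h1
  refine ⟨X₀, hX₀A, hX₀p, ?_⟩
  intro l hl
  by_contra hlX₀
  have hY := conj_line_invariant hLA hLc hX₀A hhL hl hhX₀
  have hYp : Nat.card (MulAut.conj l • X₀ : Subgroup G) = p := by rw [card_conj_smul, hX₀p]
  have hY' := conj_line_invariant hLA hLc hY.1 hhL hl hY.2
  have hY'p : Nat.card (MulAut.conj l • MulAut.conj l • X₀ : Subgroup G) = p := by
    rw [card_conj_smul, hYp]
  have hne1 : X₀ ≠ MulAut.conj l • X₀ := by
    intro h1
    exact hlX₀ (mem_normalizer_iff_conj_smul.mpr h1.symm)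
  have hne2 : MulAut.conj l • X₀ ≠ MulAut.conj l • MulAut.conj l • X₀ := by
    intro h1
    exact hne1 (MulAction.injective (MulAut.conj l) h1)
  by_cases hne3 : X₀ = MulAut.conj l • MulAut.conj l • X₀
  · -- `l²` normalizes `X₀`, `l` has odd order
    apply hlX₀
    have hl2 : l * l ∈ Subgroup.normalizer (X₀ : Set G) := by
      rw [mem_normalizer_iff_conj_smul, map_mul, mul_smul]
      exact hne3.symm
    have hordl : Odd (orderOf l) := by
      have h1 : orderOf l ∣ Nat.card L := by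
        have := orderOf_dvd_natCard (⟨l, hl⟩ : L)
        rwa [Subgroup.orderOf_mk] at this
      exact Odd.of_dvd_nat hodd h1
    obtain ⟨t, ht⟩ := hordl
    have e : l = (l * l) ^ (t + 1) := by
      calc l = l ^ (orderOf l) * l := by rw [pow_orderOf_eq_one, one_mul]
        _ = l ^ (2 * t + 1 + 1) := by rw [ht]; exact (pow_succ l (2 * t + 1)).symm
        _ = (l * l) ^ (t + 1) := by rw [← pow_two, ← pow_mul]; congr 1
    rw [e]
    exact Subgroup.pow_mem _ hl2 _
  · exact hhN (mem_normalizer_of_three_lines hAcomm hAc hX₀A hY.1 hY'.1 hX₁A hX₀p hYp hY'p hne1 hne3 hne2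
      hhX₀ hY.2 hY'.2)

end Cfsg.Agent.Lib.Helper93.BG1211
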