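import Cfsg.Agent.Lib.Helper93.SPCC9
import Cfsg.Agent.Lib.Helper10.SPCC4

/-!
# K-SPC-C9 (keystone 267618): exact-signature wrapper
-/

set_option autoImplicit false

namespace Cfsg.Agent.Lib.Helper93.SPC

open Matrix Cfsg.Agent.Lib.Helper73.UC Cfsg.Agent.Lib.Helper73.SPC

variable {F : Type*} [Field F]

/-- LEAF C9 (unipotence). -/
theorem isNilpotent_sub_one_of_commute {t : ℕ} (d : Fin t → ℕ) (hd : ∀ k, 1 ≤ d k)
    (h : Matrix (JI d) (JI d) F) (hcomm : h * nilM d F = nilM d F * h)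
    (htop : ∀ l k : Fin t, d l = d k →
      h ⟨l, ⟨0, hd l⟩⟩ ⟨k, ⟨0, hd k⟩⟩ = if l = k then 1 else 0) :
    IsNilpotent (h - 1) :=
  isNilpotent_sub_one_of_commute_of d hd h
    (fun l k b a => Cfsg.Agent.Lib.Helper10.SPC.commute_nilM_entries d h hcomm l k b a) htop

end Cfsg.Agent.Lib.Helper93.SPC
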