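import Mathlib
import Cfsg.Agent.Lib.Helper73.UNdDefs
import Cfsg.Agent.Lib.Helper65.UNdBA1
import Cfsg.Agent.Lib.Helper79.UNdBA3
import Cfsg.Agent.Lib.Helper64.UNdBA2

/-!
# K-UNd-IA (keystone 595419): an isometric involution (odd characteristic) fixes nondegenerate
subspaces of every dimension
-/

set_option autoImplicit false

namespace Cfsg.Agent.Lib.Helper93.UNd

open Module Cfsg.Agent.Lib.Helper99.HermONB Cfsg.Agent.Lib.Helper98.Elus Cfsg.Agent.Lib.Helper73.UNd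

universe u
variable {F : Type u} [Field F] {V : Type u} [AddCommGroup V] [Module F V]
variable {q : ℕ} {h : V → V → F}

/-- I-A (595419). -/
theorem exists_fixed_invol_pos [Fintype F] [FiniteDimensional F V] (hF : Fintype.card F = q ^ 2)
    (hh : HForm q h) (h2 : (2 : F) ≠ 0) (g : V →ₗ[F] V) (hg : g ^ 2 = 1) (hiso : Isom h g)
    (m : ℕ) (hm : m ≤ finrank F V) : Fixes h g m := by
  have hrF : ((2 : ℕ) : F) ≠ 0 := by simpa using h2
  have hdim : finrank F (V0 g) + finrank F (V1 2 g) = finrank F V :=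
    finrank_V0_add_V1 2 hrF g hg
  obtain ⟨hnd0, hnd1⟩ := Cfsg.Agent.Lib.Helper79.UNd.nd_inf_parts hF hh 2 hrF g hg hiso ⊤
    (Cfsg.Agent.Lib.Helper65.UNd.nd_top hh) (fun v _ => Submodule.mem_top)
  rw [top_inf_eq] at hnd0 hnd1
  -- split `m = s0 + s1`
  obtain ⟨s0, s1, hs0, hs1, hs⟩ : ∃ s0 s1 : ℕ, s0 ≤ finrank F (V0 g) ∧ s1 ≤ finrank F (V1 2 g) ∧
      s0 + s1 = m := by
    refine ⟨min m (finrank F (V0 g)), m - min m (finrank F (V0 g)), min_le_right _ _, ?_, ?_⟩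
    · omega
    · omega
  obtain ⟨W0, hW0le, hW0nd, hW0d⟩ := Cfsg.Agent.Lib.Helper64.UNd.exists_nd_sub hF hh (V0 g) hnd0 s0 hs0
  obtain ⟨W1, hW1le, hW1nd, hW1d⟩ := Cfsg.Agent.Lib.Helper64.UNd.exists_nd_sub hF hh (V1 2 g) hnd1 s1 hs1
  have hort : Ort h W0 W1 := by
    intro u hu v hv
    exact Cfsg.Agent.Lib.Helper79.UNd.ort_V0_V1 hF hh 2 hrF g hg hiso u (hW0le hu) v (hW1le hv)
  refine ⟨W0 ⊔ W1, ?_, (Cfsg.Agent.Lib.Helper65.UNd.nd_sup hF hh W0 W1 hW0nd hW1nd hort).1, ?_⟩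
  · intro v hv
    obtain ⟨a, ha, b, hb, rfl⟩ := Submodule.mem_sup.1 hv
    have hga : g a = a := (mem_V0 g a).1 (hW0le ha)
    have hgb : g b = -b := by
      have h1 := (mem_V1 2 g b).1 (hW1le hb)
      rw [gsum_apply] at h1
      simp only [Finset.sum_range_succ, Finset.sum_range_zero, pow_zero, pow_one, zero_add,
        Module.End.one_apply] at h1
      exact (neg_eq_of_add_eq_zero_right h1).symm
    rw [map_add, hga, hgb]
    exact Submodule.add_mem_sup ha (W1.neg_mem hb)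
  · rw [Cfsg.Agent.Lib.Helper65.UNd.finrank_sup_of_ort hF hh W0 W1 hW0nd hW1nd hort, hW0d, hW1d, hs]

end Cfsg.Agent.Lib.Helper93.UNd
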