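import Mathlib
import Cfsg.Prelude.Def_Transfer

/-!
Extraspecial groups are preserved by isomorphisms.
-/

set_option autoImplicit false

namespace Cfsg.Agent.Lib.Helper93

/-- the Frattini subgroup is carried to the Frattini subgroup by an isomorphism. -/
theorem frattini_map_mulEquiv {A B : Type*} [Group A] [Group B] (e : A ≃* B) :
    (frattini A).map e.toMonoidHom = frattini B := by
  have h : (frattini B).comap e.toMonoidHom = frattini A := by
    apply le_antisymm
    · have h1 := frattini_le_comap_frattini_of_surjective (φ := e.symm.toMonoidHom)
        e.symm.surjective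
      intro x hx
      rw [Subgroup.mem_comap] at hx
      have := h1 hx
      rw [Subgroup.mem_comap] at this
      simpa using this
    · exact frattini_le_comap_frattini_of_surjective (φ := e.toMonoidHom) e.surjective
  rw [← h]
  exact Subgroup.map_comap_eq_self_of_surjective e.surjective _

/-- the centre is carried to the centre by an isomorphism. -/
theorem center_map_mulEquiv {A B : Type*} [Group A] [Group B] (e : A ≃* B) :
    (Subgroup.center A).map e.toMonoidHom = Subgroup.center B := by
  ext b
  rw [Subgroup.mem_map, Subgroup.mem_center_iff]
  constructor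
  · rintro ⟨a, ha, rfl⟩ b'
    rw [Subgroup.mem_center_iff] at ha
    obtain ⟨a', rfl⟩ := e.surjective b'
    have := ha a'
    show e a' * e a = e a * e a'
    rw [← map_mul, ← map_mul, this]
  · intro hb
    refine ⟨e.symm b, ?_, by simp⟩
    rw [Subgroup.mem_center_iff]
    intro a'
    apply e.injective
    rw [map_mul, map_mul, MulEquiv.apply_symm_apply]
    exact hb (e a')

/-- the commutator subgroup is carried to the commutator subgroup by an isomorphism. -/
theorem commutator_map_mulEquiv {A B : Type*} [Group A] [Group B] (e : A ≃* B) :
    (commutator A).map e.toMonoidHom = commutator B := by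
  rw [commutator_def, commutator_def, Subgroup.map_commutator,
    Subgroup.map_top_of_surjective _ e.surjective]

/-- being extraspecial is invariant under isomorphism. -/
theorem isExtraspecial_of_mulEquiv {A B : Type*} [Group A] [Group B] {p : ℕ} (e : A ≃* B)
    (h : Cfsg.IsExtraspecial p A) : Cfsg.IsExtraspecial p B := by
  obtain ⟨⟨hp, hfr, hco⟩, hc⟩ := h
  refine ⟨⟨hp.of_equiv e, ?_, ?_⟩, ?_⟩
  · rw [← frattini_map_mulEquiv e, ← center_map_mulEquiv e, hfr]
  · rw [← commutator_map_mulEquiv e, ← center_map_mulEquiv e, hco]
  · rw [← hc, ← center_map_mulEquiv e]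
    exact Nat.card_congr ((Subgroup.center A).equivMapOfInjective e.toMonoidHom
      e.injective).symm.toEquiv

end Cfsg.Agent.Lib.Helper93
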