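import Mathlib
import Cfsg.Prelude.Def_Solvable
import Cfsg.Agent.Lib.Helper40.Cores
import Cfsg.Agent.Lib.Helper81.Cores
import Cfsg.Agent.Lib.Helper15.PSolv
import Cfsg.Agent.Lib.Helper67.Conj

/-!
# K-1383-C (keystone 138303): the `p`-part and the `p'`-part of a nilpotent subgroup
-/

set_option autoImplicit false

namespace Cfsg.Agent.Lib.Helper93.BG1383

open Cfsg

/-- in a finite nilpotent group `O_p ⊔ O_{p'} = ⊤` -/
theorem pCore_sup_pPrimeCore_eq_top {H : Type*} [Group H] [Finite H] (hH : Group.IsNilpotent H)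
    (p : ℕ) [Fact p.Prime] : pCore p H ⊔ pPrimeCore p H = ⊤ := by
  have hnorm : ∀ (q : ℕ) (_hq : Fact q.Prime) (S : Sylow q H), (S : Subgroup H).Normal :=
    ((Group.isNilpotent_of_finite_tfae (G := H)).out 0 3).1 hH
  apply Subgroup.eq_top_of_card_eq
  apply Nat.dvd_antisymm (Subgroup.card_subgroup_dvd_card _)
  rw [Nat.dvd_iff_prime_pow_dvd_dvd]
  intro q k hq hk
  have : Fact q.Prime := ⟨hq⟩
  obtain S : Sylow q H := default
  have h1 : q ^ k ∣ Nat.card S := S.pow_dvd_card_of_pow_dvd_card hk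
  have hSn := hnorm q ⟨hq⟩ S
  have h2 : (S : Subgroup H) ≤ pCore p H ⊔ pPrimeCore p H := by
    by_cases hqp : q = p
    · subst hqp
      exact le_sup_of_le_left (Cfsg.Agent.Lib.Helper40.le_pCore' hSn S.isPGroup')
    · refine le_sup_of_le_right (Cfsg.Agent.Lib.Helper40.le_pPrimeCore' _ hSn ?_)
      obtain ⟨m, hm⟩ := IsPGroup.iff_card.mp S.isPGroup'
      rw [hm]
      exact Nat.Coprime.pow_left _ ((Nat.coprime_primes hq (Fact.out)).2 hqp)
  exact h1.trans (Subgroup.card_dvd_of_le h2)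

/-- K-1383-C -/
theorem parts_of_nilpotent {G : Type*} [Group G] [Finite G] (H : Subgroup G)
    (hH : Group.IsNilpotent H) (p : ℕ) [Fact p.Prime] :
    IsPGroup p ((pCore p ↥H).map H.subtype : Subgroup G) ∧
      (Nat.card ((pPrimeCore p ↥H).map H.subtype : Subgroup G)).Coprime p ∧
      (pCore p ↥H).map H.subtype ⊓ (pPrimeCore p ↥H).map H.subtype = ⊥ ∧
      (∀ a ∈ (pCore p ↥H).map H.subtype, ∀ b ∈ (pPrimeCore p ↥H).map H.subtype, a * b = b * a) ∧
      (∀ h ∈ H, ∃ a ∈ (pCore p ↥H).map H.subtype, ∃ b ∈ (pPrimeCore p ↥H).map H.subtype, h = a * b) ∧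
      (∀ g ∈ Subgroup.normalizer (H : Set G),
        g ∈ Subgroup.normalizer (((pCore p ↥H).map H.subtype : Subgroup G) : Set G) ∧
        g ∈ Subgroup.normalizer (((pPrimeCore p ↥H).map H.subtype : Subgroup G) : Set G)) := by
  have hPn : (pCore p ↥H).Normal := Cfsg.Agent.Lib.Helper81.pCore_normal p
  have hTn : (pPrimeCore p ↥H).Normal := Cfsg.Agent.Lib.Helper81.pPrimeCore_normal p
  have hPp : IsPGroup p (pCore p ↥H) := Cfsg.Agent.Lib.Helper40.pCore_isPGroup' p ↥H
  have hTc : (Nat.card (pPrimeCore p ↥H)).Coprime p :=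
    Cfsg.Agent.Lib.Helper40.pPrimeCore_card_coprime' p ↥H
  have hdis : pCore p ↥H ⊓ pPrimeCore p ↥H = ⊥ :=
    Cfsg.Agent.Lib.Helper40.isPGroup_inf_coprime_eq_bot _ _ hPp hTc
  have htop := pCore_sup_pPrimeCore_eq_top hH p
  refine ⟨?_, ?_, ?_, ?_, ?_, ?_⟩
  · exact hPp.map H.subtype
  · rw [Subgroup.card_map_of_injective H.subtype_injective]
    exact hTc
  · rw [← Subgroup.map_inf _ _ H.subtype H.subtype_injective, hdis, Subgroup.map_bot]
  · rintro a ⟨a', ha', rfl⟩ b ⟨b', hb', rfl⟩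
    have hc := Subgroup.commute_of_normal_of_disjoint _ _ hPn hTn (disjoint_iff.2 hdis) a' b' ha' hb'
    have h2 := congrArg H.subtype hc.eq
    simpa using h2
  · intro h hh
    have hmem : (⟨h, hh⟩ : H) ∈ ((pCore p ↥H ⊔ pPrimeCore p ↥H : Subgroup H) : Set H) := by
      rw [htop]; trivial
    have := hTn
    rw [Subgroup.mul_normal] at hmem
    obtain ⟨a', ha', b', hb', hab⟩ := Set.mem_mul.1 hmem
    refine ⟨a', ⟨a', ha', rfl⟩, b', ⟨b', hb', rfl⟩, ?_⟩
    have := congrArg H.subtype hab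
    simpa using this.symm
  · intro g hg
    have := Cfsg.Agent.Lib.Helper15.pCore_characteristic p ↥H
    have := Cfsg.Agent.Lib.Helper40.pPrimeCore_characteristic p ↥H
    exact ⟨Cfsg.Agent.Lib.Helper67.normalizer_le_normalizer_map_characteristic H (pCore p ↥H) hg,
      Cfsg.Agent.Lib.Helper67.normalizer_le_normalizer_map_characteristic H (pPrimeCore p ↥H) hg⟩

end Cfsg.Agent.Lib.Helper93.BG1383
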