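import Mathlib
import Cfsg.Agent.Lib.Helper05.A10Defs

/-!
# K-A10-B1 (keystone 348903): table check `matA * elt i = elt (tabA i)`
-/

set_option autoImplicit false

namespace Cfsg.Agent.Lib.Helper93.A10Iso

open Matrix Cfsg.Agent.Lib.Helper05.A10Iso

/-- LEAF B1 (348903) (table check). -/
theorem tabA_ok : ∀ i : Fin 240, matA * elt i = elt (tabA i) := by
  decide +kernel

end Cfsg.Agent.Lib.Helper93.A10Iso
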