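import Mathlib
import Cfsg.Prelude.Def_Solvable
import Cfsg.Agent.Lib.Helper01.PCore

/-!
The special linear groups over the field with two elements have no normal `2`-subgroups
other than the trivial one.
-/

set_option autoImplicit false

namespace Cfsg.Agent.Lib.Helper93

open Matrix

theorem zmod_two_eq_one_of_ne_zero : ∀ a : ZMod 2, a ≠ 0 → a = 1 := by decide

/-- the action of the special linear group on the vectors. -/
@[reducible] def slVecAction (n : ℕ) :
    MulAction (Matrix.SpecialLinearGroup (Fin n) (ZMod 2)) (Fin n → ZMod 2) where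
  smul g w := (g : Matrix (Fin n) (Fin n) (ZMod 2)) *ᵥ w
  one_smul w := by
    show ((1 : Matrix.SpecialLinearGroup (Fin n) (ZMod 2)) : Matrix (Fin n) (Fin n) (ZMod 2)) *ᵥ w = w
    simp
  mul_smul g h w := by
    show ((g * h : Matrix.SpecialLinearGroup (Fin n) (ZMod 2)) :
      Matrix (Fin n) (Fin n) (ZMod 2)) *ᵥ w = (g : Matrix (Fin n) (Fin n) (ZMod 2)) *ᵥ
        ((h : Matrix (Fin n) (Fin n) (ZMod 2)) *ᵥ w)
    simp [Matrix.mulVec_mulVec]

/-- a transvection, as an element of the special linear group. -/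
def slTransvection {n : ℕ} (i j : Fin n) (hij : i ≠ j) :
    Matrix.SpecialLinearGroup (Fin n) (ZMod 2) :=
  ⟨Matrix.transvection i j 1, Matrix.det_transvection_of_ne i j hij 1⟩

theorem transvection_mulVec {n : ℕ} (i j : Fin n) (w : Fin n → ZMod 2) :
    Matrix.transvection i j (1 : ZMod 2) *ᵥ w = w + Pi.single i (w j) := by
  ext k
  simp only [Matrix.transvection, Matrix.add_mulVec, Matrix.one_mulVec, Pi.add_apply]
  congr 1
  simp only [Matrix.mulVec, dotProduct, Matrix.single_apply, Pi.single_apply]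
  by_cases hk : k = i
  · subst hk
    simp
  · have : ¬ i = k := fun h => hk h.symm
    simp [hk, this]

/-- a normal `2`-subgroup of `SL(n, 2)` is trivial. -/
theorem normal_two_subgroup_SL_eq_bot {n : ℕ}
    (N : Subgroup (Matrix.SpecialLinearGroup (Fin n) (ZMod 2))) [hN : N.Normal]
    (h2 : IsPGroup 2 N) : N = ⊥ := by
  have : Fact (Nat.Prime 2) := ⟨Nat.prime_two⟩
  rcases Nat.eq_zero_or_pos n with hn | hn
  · subst hn
    rw [eq_bot_iff]
    intro g _
    rw [Subgroup.mem_bot]
    apply Subtype.ext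
    ext i
    exact i.elim0
  let _ := slVecAction n
  -- the fixed vectors
  let W : Submodule (ZMod 2) (Fin n → ZMod 2) :=
    { carrier := {w | ∀ g ∈ N, (g : Matrix (Fin n) (Fin n) (ZMod 2)) *ᵥ w = w}
      add_mem' := by
        intro a b ha hb g hg
        rw [Matrix.mulVec_add, ha g hg, hb g hg]
      zero_mem' := by
        intro g _
        simp
      smul_mem' := by
        intro c a ha g hg
        rw [Matrix.mulVec_smul, ha g hg] }
  have hWmem : ∀ w, w ∈ W ↔ ∀ g ∈ N, (g : Matrix (Fin n) (Fin n) (ZMod 2)) *ᵥ w = w :=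
    fun w => Iff.rfl
  -- invariance under the whole group
  have hWinv : ∀ (h : Matrix.SpecialLinearGroup (Fin n) (ZMod 2)) (w : Fin n → ZMod 2), w ∈ W →
      (h : Matrix (Fin n) (Fin n) (ZMod 2)) *ᵥ w ∈ W := by
    intro h w hw g hg
    have hc : h⁻¹ * g * h ∈ N := by
      have := hN.conj_mem g hg h⁻¹
      simpa using this
    have h1 := hw _ hc
    have h2 : g * h = h * (h⁻¹ * g * h) := by group
    rw [Matrix.mulVec_mulVec, ← Matrix.SpecialLinearGroup.coe_mul, h2,
      Matrix.SpecialLinearGroup.coe_mul, ← Matrix.mulVec_mulVec, h1]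
  -- a non-zero fixed vector
  have hcard : 2 ∣ Nat.card (Fin n → ZMod 2) := by
    rw [Nat.card_fun, Nat.card_zmod, Nat.card_eq_fintype_card, Fintype.card_fin]
    exact dvd_pow_self 2 (by omega)
  have h0 : (0 : Fin n → ZMod 2) ∈ MulAction.fixedPoints ↥N (Fin n → ZMod 2) := by
    intro g
    show ((g : Matrix.SpecialLinearGroup (Fin n) (ZMod 2)) : Matrix (Fin n) (Fin n) (ZMod 2)) *ᵥ 0 = 0
    simp
  obtain ⟨w, hw, hw0⟩ := h2.exists_fixed_point_of_prime_dvd_card_of_fixed_point
    (Fin n → ZMod 2) hcard h0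
  have hwW : w ∈ W := by
    intro g hg
    exact hw ⟨g, hg⟩
  obtain ⟨j, hj⟩ : ∃ j, w j ≠ 0 := by
    by_contra hcon
    push Not at hcon
    exact hw0 (funext fun i => (hcon i).symm)
  have hj1 : w j = 1 := zmod_two_eq_one_of_ne_zero _ hj
  -- the basis vectors are fixed
  have hei : ∀ i, i ≠ j → (Pi.single i 1 : Fin n → ZMod 2) ∈ W := by
    intro i hij
    have h1 := hWinv (slTransvection i j hij) w hwW
    have h2 : ((slTransvection i j hij : Matrix.SpecialLinearGroup (Fin n) (ZMod 2)) :
        Matrix (Fin n) (Fin n) (ZMod 2)) *ᵥ w = w + Pi.single i 1 := by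
      show Matrix.transvection i j (1 : ZMod 2) *ᵥ w = _
      rw [transvection_mulVec, hj1]
    rw [h2] at h1
    have h3 := W.sub_mem h1 hwW
    simpa using h3
  have hej : (Pi.single j 1 : Fin n → ZMod 2) ∈ W := by
    have hsum : w = ∑ i, w i • (Pi.single i 1 : Fin n → ZMod 2) := by
      ext k
      rw [Finset.sum_apply]
      simp [Pi.single_apply]
    have hsplit := Finset.add_sum_erase Finset.univ
      (fun i => w i • (Pi.single i 1 : Fin n → ZMod 2)) (Finset.mem_univ j)
    have h4 : (Pi.single j 1 : Fin n → ZMod 2) =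
        w - ∑ i ∈ Finset.univ.erase j, w i • (Pi.single i 1 : Fin n → ZMod 2) := by
      rw [eq_sub_iff_add_eq]
      conv_rhs => rw [hsum]
      rw [← hsplit, hj1, one_smul]
    rw [h4]
    apply W.sub_mem hwW
    apply W.sum_mem
    intro i hi
    apply W.smul_mem
    exact hei i (Finset.ne_of_mem_erase hi)
  have hall : ∀ i, (Pi.single i 1 : Fin n → ZMod 2) ∈ W := by
    intro i
    by_cases hij : i = j
    · rw [hij]; exact hej
    · exact hei i hij
  rw [eq_bot_iff]
  intro g hg
  rw [Subgroup.mem_bot]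
  apply Subtype.ext
  ext i k
  have := congrFun (hall k g hg) i
  rw [Matrix.mulVec_single_one] at this
  simpa [Matrix.one_apply, Pi.single_apply, eq_comm] using this

/-- `O₂(SL(n, 2)) = 1`. -/
theorem pCore_two_SL (n : ℕ) :
    Cfsg.pCore 2 (Matrix.SpecialLinearGroup (Fin n) (ZMod 2)) = ⊥ := by
  have := Cfsg.Agent.Lib.Helper01.pCore_normal
    (G := Matrix.SpecialLinearGroup (Fin n) (ZMod 2)) 2
  exact normal_two_subgroup_SL_eq_bot _ (Cfsg.Agent.Lib.Helper01.pCore_isPGroup 2)

end Cfsg.Agent.Lib.Helper93
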