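import Mathlib
import Cfsg.Prelude.Def_Solvable
import Cfsg.Prelude.Def_Transfer
import Cfsg.Agent.Lib.Helper01.PCore
import Cfsg.Agent.Lib.Helper44.ExtraCocycle
import Cfsg.Agent.Lib.Helper93.XSTransport
import Cfsg.Agent.Lib.Helper93.SLCore

/-!
Groups of the shape `2^{1+2n} : SL(n, 2)` (the centraliser of a transvection in `SL(n+2, 2)`),
described by homomorphisms to and from the group, and their structure.
-/

set_option autoImplicit false

namespace Cfsg.Agent.Lib.Helper93

open Matrix Cfsg.Agent.Lib.Helper44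

/-- the cocycle matrix of the Heisenberg group. -/
def heisN (n : ℕ) : Matrix (Fin n ⊕ Fin n) (Fin n ⊕ Fin n) (ZMod 2) :=
  Matrix.fromBlocks 0 1 0 0

/-- the Heisenberg group of order `2^(2n+1)`. -/
abbrev Heis (n : ℕ) := CExt (heisN n)

theorem heisN_bf {n : ℕ} (x y : Fin n ⊕ Fin n → ZMod 2) :
    CExt.bf (heisN n) x y = (fun i => x (Sum.inl i)) ⬝ᵥ (fun i => y (Sum.inr i)) := by
  simp only [CExt.bf, heisN, dotProduct, Matrix.mulVec, Fintype.sum_sum_type,
    Matrix.fromBlocks_apply₁₁, Matrix.fromBlocks_apply₁₂, Matrix.fromBlocks_apply₂₁,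
    Matrix.fromBlocks_apply₂₂, Matrix.zero_apply, zero_mul, Finset.sum_const_zero, add_zero,
    zero_add, mul_zero, Matrix.one_apply]
  apply Finset.sum_congr rfl
  intro i _
  simp

theorem heisN_det (n : ℕ) : (heisN n + (heisN n)ᵀ).det ≠ 0 := by
  have h : (heisN n + (heisN n)ᵀ) * (heisN n + (heisN n)ᵀ) = 1 := by
    have e : heisN n + (heisN n)ᵀ = Matrix.fromBlocks 0 1 1 0 := by
      rw [heisN, Matrix.fromBlocks_transpose, Matrix.fromBlocks_add]
      simp
    rw [e, Matrix.fromBlocks_multiply]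
    simp [Matrix.fromBlocks_one]
  intro h0
  have := congrArg Matrix.det h
  rw [Matrix.det_mul, h0, Matrix.det_one] at this
  simp at this

/-- the action of `SL(n, 2)` on the Heisenberg group. -/
def heisAct {n : ℕ} (B : Matrix.SpecialLinearGroup (Fin n) (ZMod 2)) (q : Heis n) : Heis n :=
  ⟨Sum.elim ((fun i => q.v (Sum.inl i)) ᵥ* ((B⁻¹ : Matrix.SpecialLinearGroup (Fin n) (ZMod 2)) :
      Matrix (Fin n) (Fin n) (ZMod 2)))
    ((B : Matrix (Fin n) (Fin n) (ZMod 2)) *ᵥ (fun i => q.v (Sum.inr i))), q.c⟩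

/-- the structure of a group of shape `2^{1+2n} : SL(n, 2)`, with the natural action. -/
structure TvcData (n : ℕ) (C : Type*) [Group C] where
  /-- the projection onto the linear group -/
  blk : C →* Matrix.SpecialLinearGroup (Fin n) (ZMod 2)
  /-- the complement -/
  sec : Matrix.SpecialLinearGroup (Fin n) (ZMod 2) →* C
  blk_sec : ∀ B, blk (sec B) = B
  /-- the Heisenberg group -/
  emb : Heis n →* C
  emb_inj : Function.Injective emb
  emb_range : emb.range = blk.ker
  conj_emb : ∀ B q, sec B * emb q * (sec B)⁻¹ = emb (heisAct B q)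

namespace TvcData

variable {n : ℕ} {C : Type*} [Group C] (D : TvcData n C)

/-- transport along an isomorphism. -/
def congr {C' : Type*} [Group C'] (e : C ≃* C') : TvcData n C' where
  blk := D.blk.comp e.symm.toMonoidHom
  sec := e.toMonoidHom.comp D.sec
  blk_sec B := by simp [D.blk_sec]
  emb := e.toMonoidHom.comp D.emb
  emb_inj := e.injective.comp D.emb_inj
  emb_range := by
    rw [MonoidHom.range_comp, D.emb_range]
    ext x
    simp only [Subgroup.mem_map, MonoidHom.mem_ker, MonoidHom.coe_comp, Function.comp_apply,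
      MulEquiv.coe_toMonoidHom]
    constructor
    · rintro ⟨y, hy, rfl⟩
      simpa using hy
    · intro hx
      exact ⟨e.symm x, hx, by simp⟩
  conj_emb B q := by
    simp only [MonoidHom.coe_comp, Function.comp_apply, MulEquiv.coe_toMonoidHom]
    rw [← map_inv, ← map_mul, ← map_mul, D.conj_emb]

theorem blk_surjective : Function.Surjective D.blk := fun B => ⟨D.sec B, D.blk_sec B⟩

/-- the kernel is the Heisenberg group. -/
noncomputable def kerEquiv : Heis n ≃* ↥D.blk.ker :=
  (MonoidHom.ofInjective D.emb_inj).trans (MulEquiv.subgroupCongr D.emb_range)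

theorem kerEquiv_coe (q : Heis n) : ((D.kerEquiv q : ↥D.blk.ker) : C) = D.emb q := rfl

theorem ker_isPGroup : IsPGroup 2 ↥D.blk.ker :=
  (CExt.isPGroup (heisN n)).of_equiv D.kerEquiv

/-- the largest normal `2`-subgroup is the kernel. -/
theorem pCore_eq : Cfsg.pCore 2 C = D.blk.ker := by
  apply le_antisymm
  · intro x hx
    rw [MonoidHom.mem_ker]
    have hn : ((Cfsg.pCore 2 C).map D.blk).Normal :=
      (Cfsg.Agent.Lib.Helper01.pCore_normal 2).map D.blk D.blk_surjective
    have hp : IsPGroup 2 ↥((Cfsg.pCore 2 C).map D.blk) :=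
      (Cfsg.Agent.Lib.Helper01.pCore_isPGroup 2).map D.blk
    have hb := normal_two_subgroup_SL_eq_bot _ hp
    have : D.blk x ∈ (Cfsg.pCore 2 C).map D.blk := Subgroup.mem_map_of_mem _ hx
    rw [hb, Subgroup.mem_bot] at this
    exact this
  · exact Cfsg.Agent.Lib.Helper01.le_pCore (MonoidHom.normal_ker _) D.ker_isPGroup

/-- the largest normal `2`-subgroup is the Heisenberg group. -/
noncomputable def pCoreEquiv : Heis n ≃* ↥(Cfsg.pCore 2 C) :=
  D.kerEquiv.trans (MulEquiv.subgroupCongr D.pCore_eq.symm)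

theorem pCoreEquiv_coe (q : Heis n) : ((D.pCoreEquiv q : ↥(Cfsg.pCore 2 C)) : C) = D.emb q := rfl

include D in
theorem pCore_extraspecial (hn : 1 ≤ n) : Cfsg.IsExtraspecial 2 ↥(Cfsg.pCore 2 C) := by
  have : Nonempty (Fin n ⊕ Fin n) := ⟨Sum.inl ⟨0, hn⟩⟩
  exact isExtraspecial_of_mulEquiv D.pCoreEquiv (CExt.isExtraspecial (heisN n) (heisN_det n))

include D in
theorem pCore_card : Nat.card ↥(Cfsg.pCore 2 C) = 2 ^ (2 * n + 1) := by
  rw [← Nat.card_congr D.pCoreEquiv.toEquiv, CExt.card_eq]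
  simp [two_mul]

theorem mem_pCore_iff (x : C) : x ∈ Cfsg.pCore 2 C ↔ D.blk x = 1 := by
  rw [D.pCore_eq, MonoidHom.mem_ker]

theorem emb_mem_pCore (q : Heis n) : D.emb q ∈ Cfsg.pCore 2 C := by
  rw [D.pCore_eq, ← D.emb_range]
  exact ⟨q, rfl⟩

theorem exists_emb_of_mem {x : C} (hx : x ∈ Cfsg.pCore 2 C) : ∃ q, D.emb q = x := by
  rw [D.pCore_eq, ← D.emb_range] at hx
  exact hx

end TvcData

/-- the elementary abelian subgroup of the Heisenberg group. -/
def heisE (n : ℕ) : Subgroup (Heis n) where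
  carrier := {q | ∀ i, q.v (Sum.inr i) = 0}
  mul_mem' := by
    intro a b ha hb i
    simp only [CExt.mul_v, Pi.add_apply, ha i, hb i, add_zero]
  one_mem' := by
    intro i
    rfl
  inv_mem' := by
    intro a ha i
    simpa using ha i

theorem mem_heisE {n : ℕ} (q : Heis n) : q ∈ heisE n ↔ ∀ i, q.v (Sum.inr i) = 0 := Iff.rfl

theorem heisE_bf {n : ℕ} {a b : Heis n} (hb : b ∈ heisE n) : CExt.bf (heisN n) a.v b.v = 0 := by
  rw [heisN_bf]
  have : (fun i => b.v (Sum.inr i)) = 0 := funext hb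
  rw [this, dotProduct_zero]

theorem heisE_elementaryAbelian (n : ℕ) : Cfsg.IsElementaryAbelian 2 (heisE n) := by
  constructor
  · constructor
    constructor
    rintro ⟨a, ha⟩ ⟨b, hb⟩
    apply Subtype.ext
    show a * b = b * a
    rw [CExt.mul_comm_iff, CExt.om, heisE_bf hb, heisE_bf ha, add_zero]
  · intro a ha
    rw [pow_two, CExt.sq_eq, heisE_bf ha]
    rfl

theorem heisE_card (n : ℕ) : Nat.card ↥(heisE n) = 2 ^ (n + 1) := by
  let e : ↥(heisE n) ≃ (Fin n → ZMod 2) × ZMod 2 :=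
    { toFun := fun q => (fun i => q.1.v (Sum.inl i), q.1.c)
      invFun := fun p => ⟨⟨Sum.elim p.1 0, p.2⟩, fun i => rfl⟩
      left_inv := by
        rintro ⟨q, hq⟩
        apply Subtype.ext
        ext x
        · rcases x with i | i
          · rfl
          · exact (hq i).symm
        · rfl
      right_inv := by
        rintro ⟨u, c⟩
        rfl }
  rw [Nat.card_congr e, Nat.card_prod, Nat.card_fun]
  simp [pow_succ]

namespace TvcData

variable {n : ℕ} {C : Type*} [Group C] (D : TvcData n C)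

include D in
/-- an elementary abelian subgroup of order `2^(n+1)` of the largest normal `2`-subgroup. -/
theorem exists_elementaryAbelian : ∃ E : Subgroup C, E ≤ Cfsg.pCore 2 C ∧
    Cfsg.IsElementaryAbelian 2 E ∧ Nat.card ↥E = 2 ^ (n + 1) := by
  refine ⟨(heisE n).map D.emb, ?_, ?_, ?_⟩
  · rintro x ⟨q, _, rfl⟩
    exact D.emb_mem_pCore q
  · obtain ⟨⟨⟨hc⟩⟩, he⟩ := heisE_elementaryAbelian n
    constructor
    · constructor
      constructor
      rintro ⟨x, a, ha, rfl⟩ ⟨y, b, hb, rfl⟩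
      apply Subtype.ext
      show D.emb a * D.emb b = D.emb b * D.emb a
      have := congrArg Subtype.val (hc ⟨a, ha⟩ ⟨b, hb⟩)
      simp only [Subgroup.coe_mul] at this
      rw [← map_mul, ← map_mul, this]
    · rintro x ⟨a, ha, rfl⟩
      rw [← map_pow, he a ha, map_one]
  · rw [Subgroup.card_map_of_injective D.emb_inj, heisE_card]

include D in
/-- the largest normal `2`-subgroup contains its centraliser. -/
theorem centralizer_pCore_le :
    Subgroup.centralizer (Cfsg.pCore 2 C : Set C) ≤ Cfsg.pCore 2 C := by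
  intro x hx
  rw [D.mem_pCore_iff]
  set B := D.blk x with hB
  -- `x = sec B * emb p`
  have hk : (D.sec B)⁻¹ * x ∈ Cfsg.pCore 2 C := by
    rw [D.mem_pCore_iff, map_mul, map_inv, D.blk_sec, ← hB, inv_mul_cancel]
  obtain ⟨p, hp⟩ := D.exists_emb_of_mem hk
  have hx' : x = D.sec B * D.emb p := by rw [hp]; group
  -- the action on the vector part
  have key : ∀ q : Heis n, heisAct B (p * q * p⁻¹) = q := by
    intro q
    apply D.emb_inj
    rw [← D.conj_emb, map_mul, map_mul, map_inv]
    have hc := (Subgroup.mem_centralizer_iff.mp hx) (D.emb q) (D.emb_mem_pCore q)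
    calc D.sec B * (D.emb p * D.emb q * (D.emb p)⁻¹) * (D.sec B)⁻¹
        = (D.sec B * D.emb p) * D.emb q * (D.sec B * D.emb p)⁻¹ := by group
      _ = x * D.emb q * x⁻¹ := by rw [← hx']
      _ = D.emb q * x * x⁻¹ := by rw [hc]
      _ = D.emb q := by group
  -- `B` fixes all vectors
  apply Subtype.ext
  ext i j
  have h1 := key ⟨Sum.elim 0 (Pi.single j 1), 0⟩
  have h2 := congrFun (congrArg CExt.v h1) (Sum.inr i)
  simp only [heisAct, CExt.mul_v, CExt.inv_v, Pi.add_apply, Sum.elim_inr] at h2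
  have h3 : (fun k => p.v (Sum.inr k) + Pi.single (M := fun _ => ZMod 2) j 1 k + p.v (Sum.inr k)) =
      Pi.single j 1 := by
    funext k
    have : ∀ a b : ZMod 2, a + b + a = b := by decide
    exact this _ _
  rw [h3, Matrix.mulVec_single_one] at h2
  simp only [Matrix.col_apply] at h2
  rw [h2]
  simp [Matrix.one_apply, Pi.single_apply]

include D in
/-- the complement. -/
theorem exists_complement : ∃ K : Subgroup C, Cfsg.pCore 2 C ⊓ K = ⊥ ∧ Cfsg.pCore 2 C ⊔ K = ⊤ ∧
    Nonempty (↥K ≃* Matrix.SpecialLinearGroup (Fin n) (ZMod 2)) := by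
  have hinj : Function.Injective D.sec := by
    intro a b hab
    rw [← D.blk_sec a, ← D.blk_sec b, hab]
  refine ⟨D.sec.range, ?_, ?_, ⟨(MonoidHom.ofInjective hinj).symm⟩⟩
  · rw [eq_bot_iff]
    rintro x ⟨hx1, B, rfl⟩
    have hx2 : D.sec B ∈ Cfsg.pCore 2 C := hx1
    rw [D.mem_pCore_iff, D.blk_sec] at hx2
    rw [hx2, map_one]
    exact Subgroup.mem_bot.mpr rfl
  · rw [eq_top_iff]
    intro x _
    have hk : (D.sec (D.blk x))⁻¹ * x ∈ Cfsg.pCore 2 C := by
      rw [D.mem_pCore_iff, map_mul, map_inv, D.blk_sec, inv_mul_cancel]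
    have : x = D.sec (D.blk x) * ((D.sec (D.blk x))⁻¹ * x) := by group
    rw [this, sup_comm]
    exact Subgroup.mul_mem_sup ⟨_, rfl⟩ hk

end TvcData

end Cfsg.Agent.Lib.Helper93
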