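import Mathlib
import Cfsg.Agent.Lib.Helper93.TvcData

/-!
The centraliser of the transvection `1 + E₀₁` in `SL(n+2, 2)`: its matrices have first column `e₀`
and second row `e₁`, so they are given by an entry, a row vector, a column vector and an
`n × n` block.
-/

set_option autoImplicit false

namespace Cfsg.Agent.Lib.Helper93

open Matrix Cfsg.Agent.Lib.Helper44

variable {n : ℕ}

/-- the matrix with rows `(1, a, u)`, `(0, 1, 0)` and `(0, w, B)`. -/
def tvcMk (a : ZMod 2) (u w : Fin n → ZMod 2) (B : Matrix (Fin n) (Fin n) (ZMod 2)) :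
    Matrix (Fin (n + 2)) (Fin (n + 2)) (ZMod 2) :=
  Matrix.of (Fin.cons (Fin.cons 1 (Fin.cons a u))
    (Fin.cons (Fin.cons 0 (Fin.cons 1 0)) (fun i => Fin.cons 0 (Fin.cons (w i) (B i)))))

section entries

variable (a : ZMod 2) (u w : Fin n → ZMod 2) (B : Matrix (Fin n) (Fin n) (ZMod 2))

@[simp] theorem tvcMk_00 : tvcMk a u w B 0 0 = 1 := rfl
@[simp] theorem tvcMk_01 : tvcMk a u w B 0 1 = a := rfl
@[simp] theorem tvcMk_0s (j : Fin n) : tvcMk a u w B 0 j.succ.succ = u j := rfl
@[simp] theorem tvcMk_10 : tvcMk a u w B 1 0 = 0 := rfl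
@[simp] theorem tvcMk_11 : tvcMk a u w B 1 1 = 1 := rfl
@[simp] theorem tvcMk_1s (j : Fin n) : tvcMk a u w B 1 j.succ.succ = 0 := rfl
@[simp] theorem tvcMk_s0 (i : Fin n) : tvcMk a u w B i.succ.succ 0 = 0 := rfl
@[simp] theorem tvcMk_s1 (i : Fin n) : tvcMk a u w B i.succ.succ 1 = w i := rfl
@[simp] theorem tvcMk_ss (i j : Fin n) : tvcMk a u w B i.succ.succ j.succ.succ = B i j := rfl

end entries

/-- case analysis on the indices. -/
theorem fin_two_cases {P : Fin (n + 2) → Prop} (h0 : P 0) (h1 : P 1)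
    (hs : ∀ i : Fin n, P i.succ.succ) : ∀ i, P i := by
  intro i
  refine Fin.cases h0 (fun i' => ?_) i
  refine Fin.cases ?_ (fun i'' => hs i'') i'
  exact h1

/-- extensionality by the nine kinds of entries. -/
theorem mat_ext9 {M M' : Matrix (Fin (n + 2)) (Fin (n + 2)) (ZMod 2)}
    (h00 : M 0 0 = M' 0 0) (h01 : M 0 1 = M' 0 1)
    (h0s : ∀ j : Fin n, M 0 j.succ.succ = M' 0 j.succ.succ)
    (h10 : M 1 0 = M' 1 0) (h11 : M 1 1 = M' 1 1)
    (h1s : ∀ j : Fin n, M 1 j.succ.succ = M' 1 j.succ.succ)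
    (hs0 : ∀ i : Fin n, M i.succ.succ 0 = M' i.succ.succ 0)
    (hs1 : ∀ i : Fin n, M i.succ.succ 1 = M' i.succ.succ 1)
    (hss : ∀ i j : Fin n, M i.succ.succ j.succ.succ = M' i.succ.succ j.succ.succ) : M = M' := by
  ext i j
  revert j
  refine fin_two_cases (P := fun i => ∀ j, M i j = M' i j) ?_ ?_ ?_ i
  · exact fin_two_cases (P := fun j => M 0 j = M' 0 j) h00 h01 h0s
  · exact fin_two_cases (P := fun j => M 1 j = M' 1 j) h10 h11 h1s
  · intro i'
    exact fin_two_cases (P := fun j => M i'.succ.succ j = M' i'.succ.succ j) (hs0 i') (hs1 i')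
      (hss i')

theorem mul_apply3 (M M' : Matrix (Fin (n + 2)) (Fin (n + 2)) (ZMod 2)) (i j : Fin (n + 2)) :
    (M * M') i j = M i 0 * M' 0 j + M i 1 * M' 1 j +
      ∑ k : Fin n, M i k.succ.succ * M' k.succ.succ j := by
  rw [Matrix.mul_apply, Fin.sum_univ_succ, Fin.sum_univ_succ, ← add_assoc]
  rfl

/-- the shape of the matrices of the centraliser. -/
structure TShape (M : Matrix (Fin (n + 2)) (Fin (n + 2)) (ZMod 2)) : Prop where
  c0 : ∀ i : Fin (n + 1), M i.succ 0 = 0
  d0 : M 0 0 = 1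
  r1 : ∀ j : Fin n, M 1 j.succ.succ = 0
  d1 : M 1 1 = 1

theorem tvcMk_shape (a : ZMod 2) (u w : Fin n → ZMod 2) (B : Matrix (Fin n) (Fin n) (ZMod 2)) :
    TShape (tvcMk a u w B) := by
  refine ⟨?_, rfl, fun j => rfl, rfl⟩
  intro i
  refine Fin.cases ?_ (fun i' => ?_) i
  · rfl
  · rfl

/-- the lower right block. -/
def tvcSub (M : Matrix (Fin (n + 2)) (Fin (n + 2)) (ZMod 2)) : Matrix (Fin n) (Fin n) (ZMod 2) :=
  M.submatrix (fun i => i.succ.succ) (fun j => j.succ.succ)

@[simp] theorem tvcSub_apply (M : Matrix (Fin (n + 2)) (Fin (n + 2)) (ZMod 2)) (i j : Fin n) :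
    tvcSub M i j = M i.succ.succ j.succ.succ := rfl

@[simp] theorem tvcSub_mk (a : ZMod 2) (u w : Fin n → ZMod 2)
    (B : Matrix (Fin n) (Fin n) (ZMod 2)) : tvcSub (tvcMk a u w B) = B := by
  ext i j
  rfl

theorem tvcMk_eta {M : Matrix (Fin (n + 2)) (Fin (n + 2)) (ZMod 2)} (h : TShape M) :
    M = tvcMk (M 0 1) (fun j => M 0 j.succ.succ) (fun i => M i.succ.succ 1) (tvcSub M) := by
  apply mat_ext9
  · exact h.d0
  · rfl
  · intro j; rfl
  · exact h.c0 0
  · exact h.d1
  · intro j; exact h.r1 j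
  · intro i; exact h.c0 i.succ
  · intro i; rfl
  · intro i j; rfl

theorem tvcMk_mul (a : ZMod 2) (u w : Fin n → ZMod 2) (B : Matrix (Fin n) (Fin n) (ZMod 2))
    (a' : ZMod 2) (u' w' : Fin n → ZMod 2) (B' : Matrix (Fin n) (Fin n) (ZMod 2)) :
    tvcMk a u w B * tvcMk a' u' w' B' =
      tvcMk (a + a' + u ⬝ᵥ w') (u' + u ᵥ* B') (w + B *ᵥ w') (B * B') := by
  apply mat_ext9
  · rw [mul_apply3]; simp
  · rw [mul_apply3]; simp [dotProduct, add_comm]
  · intro j; rw [mul_apply3]; simp [Matrix.vecMul, dotProduct]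
  · rw [mul_apply3]; simp
  · rw [mul_apply3]; simp
  · intro j; rw [mul_apply3]; simp
  · intro i; rw [mul_apply3]; simp
  · intro i; rw [mul_apply3]; simp [Matrix.mulVec, dotProduct]
  · intro i j; rw [mul_apply3]; simp [Matrix.mul_apply]

theorem tvcMk_one : tvcMk (n := n) 0 0 0 1 = 1 := by
  apply mat_ext9
  · rfl
  · rfl
  · intro j; rfl
  · rfl
  · rfl
  · intro j; rfl
  · intro i; rfl
  · intro i; rfl
  · intro i j
    simp only [tvcMk_ss, Matrix.one_apply, Fin.succ_inj]

theorem tvcMk_inj {a a' : ZMod 2} {u w u' w' : Fin n → ZMod 2}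
    {B B' : Matrix (Fin n) (Fin n) (ZMod 2)} (h : tvcMk a u w B = tvcMk a' u' w' B') :
    a = a' ∧ u = u' ∧ w = w' ∧ B = B' := by
  refine ⟨?_, ?_, ?_, ?_⟩
  · simpa using congrFun (congrFun h 0) 1
  · funext j
    simpa using congrFun (congrFun h 0) j.succ.succ
  · funext i
    simpa using congrFun (congrFun h i.succ.succ) 1
  · ext i j
    simpa using congrFun (congrFun h i.succ.succ) j.succ.succ

theorem det_eq_one_of_mul_eq_one {m : Type*} [Fintype m] [DecidableEq m]
    {M M' : Matrix m m (ZMod 2)} (h : M * M' = 1) : M.det = 1 := by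
  have h1 := congrArg Matrix.det h
  rw [Matrix.det_mul, Matrix.det_one] at h1
  apply zmod_two_eq_one_of_ne_zero
  intro h0
  rw [h0, zero_mul] at h1
  exact zero_ne_one h1

/-- the matrices commuting with the transvection have the given shape. -/
theorem tshape_of_comm {M : Matrix (Fin (n + 2)) (Fin (n + 2)) (ZMod 2)} (hd : M.det = 1)
    (h : transvection 0 1 1 * M = M * transvection 0 1 1) : TShape M := by
  have h' : single 0 1 (1 : ZMod 2) * M = M * single 0 1 1 := by
    simp only [transvection, add_mul, mul_add, one_mul, mul_one] at h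
    exact add_left_cancel h
  have h01 : (0 : Fin (n + 2)) ≠ 1 := by
    intro h; exact absurd (congrArg Fin.val h) (by simp)
  have hr : ∀ j, j ≠ 1 → M 1 j = 0 := by
    intro j hj
    have := Matrix.ext_iff.mpr h' 0 j
    rw [single_mul_apply_same, mul_single_apply_of_ne _ _ _ _ _ hj] at this
    simpa using this
  have hc : ∀ i, i ≠ 0 → M i 0 = 0 := by
    intro i hi
    have := Matrix.ext_iff.mpr h' i 1
    rw [single_mul_apply_of_ne _ _ _ _ _ hi, mul_single_apply_same] at this
    simpa using this.symm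
  have hd' : M 1 1 = M 0 0 := by
    have := Matrix.ext_iff.mpr h' 0 1
    rw [single_mul_apply_same, mul_single_apply_same] at this
    simpa using this
  have h00 : M 0 0 = 1 := by
    apply zmod_two_eq_one_of_ne_zero
    intro h0
    have : M.det = 0 := by
      apply det_eq_zero_of_column_eq_zero 0
      intro i
      by_cases hi : i = 0
      · rw [hi]; exact h0
      · exact hc i hi
    rw [this] at hd
    exact zero_ne_one hd
  refine ⟨fun i => hc _ (Fin.succ_ne_zero i), h00, fun j => hr _ ?_, hd'.trans h00⟩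
  intro h
  have := congrArg Fin.val h
  simp at this

theorem transvection_eq_tvcMk :
    (transvection 0 1 1 : Matrix (Fin (n + 2)) (Fin (n + 2)) (ZMod 2)) = tvcMk 1 0 0 1 := by
  have h1s : ∀ j : Fin n, (1 : Fin (n + 2)) ≠ j.succ.succ := by
    intro j h; have := congrArg Fin.val h; simp at this
  have h0s : ∀ j : Fin n, (0 : Fin (n + 2)) ≠ j.succ.succ := by
    intro j h; have := congrArg Fin.val h; simp at this
  have h01 : (0 : Fin (n + 2)) ≠ 1 := by
    intro h; have := congrArg Fin.val h; simp at this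
  apply mat_ext9
  · simp [transvection, Matrix.single_apply, h01]
  · simp [transvection, Matrix.single_apply, h01]
  · intro j; simp [transvection, Matrix.single_apply, Matrix.one_apply, h0s j, (h1s j)]
  · simp [transvection, Matrix.single_apply, h01, h01.symm]
  · simp [transvection, Matrix.single_apply, h01]
  · intro j; simp [transvection, Matrix.single_apply, Matrix.one_apply, h1s j, h01]
  · intro i; simp [transvection, Matrix.single_apply, Matrix.one_apply, (h0s i).symm, h0s i]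
  · intro i; simp [transvection, Matrix.single_apply, Matrix.one_apply, (h1s i).symm, h0s i]
  · intro i j; simp [transvection, Matrix.single_apply, Matrix.one_apply, h0s i]

theorem comm_of_tshape {M : Matrix (Fin (n + 2)) (Fin (n + 2)) (ZMod 2)} (h : TShape M) :
    transvection 0 1 1 * M = M * transvection 0 1 1 := by
  have e : (transvection 0 1 1 : Matrix (Fin (n + 2)) (Fin (n + 2)) (ZMod 2)) =
      tvcMk 1 0 0 1 := transvection_eq_tvcMk
  rw [e, tvcMk_eta h, tvcMk_mul, tvcMk_mul]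
  congr 1
  · simp [add_comm]
  · simp
  · simp
  · simp

end Cfsg.Agent.Lib.Helper93

namespace Cfsg.Agent.Lib.Helper93

open Matrix Cfsg.Agent.Lib.Helper44

section group

variable {n : ℕ} (t : Matrix.SpecialLinearGroup (Fin (n + 2)) (ZMod 2))
  (ht : (t : Matrix (Fin (n + 2)) (Fin (n + 2)) (ZMod 2)) = Matrix.transvection 0 1 1)

include ht

theorem mem_centralizer_transvection_iff (g : Matrix.SpecialLinearGroup (Fin (n + 2)) (ZMod 2)) :
    g ∈ Subgroup.centralizer ({t} : Set (Matrix.SpecialLinearGroup (Fin (n + 2)) (ZMod 2))) ↔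
      TShape (g : Matrix (Fin (n + 2)) (Fin (n + 2)) (ZMod 2)) := by
  rw [Subgroup.mem_centralizer_iff]
  constructor
  · intro h
    apply tshape_of_comm g.2
    have h2 := congrArg (fun x : Matrix.SpecialLinearGroup (Fin (n + 2)) (ZMod 2) =>
      (x : Matrix (Fin (n + 2)) (Fin (n + 2)) (ZMod 2))) (h t rfl)
    simp only [Matrix.SpecialLinearGroup.coe_mul, ht] at h2
    exact h2
  · intro h x hx
    rw [Set.mem_singleton_iff] at hx
    subst hx
    apply Subtype.ext
    simp only [Matrix.SpecialLinearGroup.coe_mul, ht]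
    exact comm_of_tshape h

theorem tshape_coe
    (g : ↥(Subgroup.centralizer ({t} : Set (Matrix.SpecialLinearGroup (Fin (n + 2)) (ZMod 2))))) :
    TShape ((g : Matrix.SpecialLinearGroup (Fin (n + 2)) (ZMod 2)) :
      Matrix (Fin (n + 2)) (Fin (n + 2)) (ZMod 2)) :=
  (mem_centralizer_transvection_iff t ht _).mp g.2

end group

theorem tvcSub_mul {n : ℕ} {M M' : Matrix (Fin (n + 2)) (Fin (n + 2)) (ZMod 2)} (h : TShape M)
    (h' : TShape M') : tvcSub (M * M') = tvcSub M * tvcSub M' := by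
  rw [tvcMk_eta h, tvcMk_eta h', tvcMk_mul]
  simp only [tvcSub_mk]

theorem tvcSub_one {n : ℕ} : tvcSub (1 : Matrix (Fin (n + 2)) (Fin (n + 2)) (ZMod 2)) = 1 := by
  rw [← tvcMk_one, tvcSub_mk]

/-- an element of the special linear group from a matrix of the given shape. -/
def tvcSL {n : ℕ} (a : ZMod 2) (u w : Fin n → ZMod 2)
    (B : Matrix.SpecialLinearGroup (Fin n) (ZMod 2)) :
    Matrix.SpecialLinearGroup (Fin (n + 2)) (ZMod 2) :=
  ⟨tvcMk a u w (B : Matrix (Fin n) (Fin n) (ZMod 2)), by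
    apply det_eq_one_of_mul_eq_one (M' := tvcMk (a + u ⬝ᵥ
      ((B⁻¹ : Matrix.SpecialLinearGroup (Fin n) (ZMod 2)) : Matrix (Fin n) (Fin n) (ZMod 2)) *ᵥ w)
      (u ᵥ* ((B⁻¹ : Matrix.SpecialLinearGroup (Fin n) (ZMod 2)) : Matrix (Fin n) (Fin n) (ZMod 2)))
      (((B⁻¹ : Matrix.SpecialLinearGroup (Fin n) (ZMod 2)) : Matrix (Fin n) (Fin n) (ZMod 2)) *ᵥ w)
      ((B⁻¹ : Matrix.SpecialLinearGroup (Fin n) (ZMod 2)) : Matrix (Fin n) (Fin n) (ZMod 2)))
    rw [tvcMk_mul, ← tvcMk_one]
    have hB : (B : Matrix (Fin n) (Fin n) (ZMod 2)) *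
        ((B⁻¹ : Matrix.SpecialLinearGroup (Fin n) (ZMod 2)) : Matrix (Fin n) (Fin n) (ZMod 2)) =
        1 := by
      rw [← Matrix.SpecialLinearGroup.coe_mul, mul_inv_cancel, Matrix.SpecialLinearGroup.coe_one]
    congr 1
    · have : ∀ x y : ZMod 2, x + (x + y) + y = 0 := by decide
      exact this _ _
    · ext j
      simp only [Pi.add_apply, Pi.zero_apply]
      exact CharTwo.add_self_eq_zero _
    · rw [Matrix.mulVec_mulVec, hB, Matrix.one_mulVec]
      ext j
      simp only [Pi.add_apply, Pi.zero_apply]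
      exact CharTwo.add_self_eq_zero _⟩

@[simp] theorem tvcSL_coe {n : ℕ} (a : ZMod 2) (u w : Fin n → ZMod 2)
    (B : Matrix.SpecialLinearGroup (Fin n) (ZMod 2)) :
    (tvcSL a u w B : Matrix (Fin (n + 2)) (Fin (n + 2)) (ZMod 2)) =
      tvcMk a u w (B : Matrix (Fin n) (Fin n) (ZMod 2)) := rfl

end Cfsg.Agent.Lib.Helper93

namespace Cfsg.Agent.Lib.Helper93

open Matrix Cfsg.Agent.Lib.Helper44

section data

variable {n : ℕ} (t : Matrix.SpecialLinearGroup (Fin (n + 2)) (ZMod 2))
  (ht : (t : Matrix (Fin (n + 2)) (Fin (n + 2)) (ZMod 2)) = Matrix.transvection 0 1 1)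

/-- the matrix of an element of the centraliser. -/
abbrev cmat
    (g : ↥(Subgroup.centralizer ({t} : Set (Matrix.SpecialLinearGroup (Fin (n + 2)) (ZMod 2))))) :
    Matrix (Fin (n + 2)) (Fin (n + 2)) (ZMod 2) :=
  ((g : Matrix.SpecialLinearGroup (Fin (n + 2)) (ZMod 2)) :
    Matrix (Fin (n + 2)) (Fin (n + 2)) (ZMod 2))

/-- the block of an element of the centraliser, as an element of the special linear group. -/
def tvcBlkSL :
    ↥(Subgroup.centralizer ({t} : Set (Matrix.SpecialLinearGroup (Fin (n + 2)) (ZMod 2)))) →*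
      Matrix.SpecialLinearGroup (Fin n) (ZMod 2) where
  toFun g := ⟨tvcSub (cmat t g), by
    apply det_eq_one_of_mul_eq_one (M' := tvcSub (cmat t g⁻¹))
    rw [← tvcSub_mul (tshape_coe t ht g) (tshape_coe t ht g⁻¹)]
    have : cmat t g * cmat t g⁻¹ = 1 := by
      simp only [cmat]
      rw [← Matrix.SpecialLinearGroup.coe_mul, ← Subgroup.coe_mul, mul_inv_cancel,
        Subgroup.coe_one, Matrix.SpecialLinearGroup.coe_one]
    rw [this, tvcSub_one]⟩
  map_one' := by
    apply Subtype.ext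
    show tvcSub (cmat t 1) = 1
    simp only [cmat, Subgroup.coe_one, Matrix.SpecialLinearGroup.coe_one]
    exact tvcSub_one
  map_mul' g h := by
    apply Subtype.ext
    show tvcSub (cmat t (g * h)) = tvcSub (cmat t g) * tvcSub (cmat t h)
    rw [← tvcSub_mul (tshape_coe t ht g) (tshape_coe t ht h)]
    simp only [cmat, Subgroup.coe_mul, Matrix.SpecialLinearGroup.coe_mul]

theorem tvcBlkSL_coe
    (g : ↥(Subgroup.centralizer ({t} : Set (Matrix.SpecialLinearGroup (Fin (n + 2)) (ZMod 2))))) :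
    (tvcBlkSL t ht g : Matrix (Fin n) (Fin n) (ZMod 2)) = tvcSub (cmat t g) := rfl

include ht in
theorem tvcSL_mem (a : ZMod 2) (u w : Fin n → ZMod 2)
    (B : Matrix.SpecialLinearGroup (Fin n) (ZMod 2)) :
    tvcSL a u w B ∈
      Subgroup.centralizer ({t} : Set (Matrix.SpecialLinearGroup (Fin (n + 2)) (ZMod 2))) := by
  rw [mem_centralizer_transvection_iff t ht]
  exact tvcMk_shape _ _ _ _

/-- the complement. -/
def tvcSec : Matrix.SpecialLinearGroup (Fin n) (ZMod 2) →*
    ↥(Subgroup.centralizer ({t} : Set (Matrix.SpecialLinearGroup (Fin (n + 2)) (ZMod 2)))) where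
  toFun B := ⟨tvcSL 0 0 0 B, tvcSL_mem t ht _ _ _ _⟩
  map_one' := by
    apply Subtype.ext
    apply Subtype.ext
    show tvcMk 0 0 0 ((1 : Matrix.SpecialLinearGroup (Fin n) (ZMod 2)) :
      Matrix (Fin n) (Fin n) (ZMod 2)) = 1
    rw [Matrix.SpecialLinearGroup.coe_one, tvcMk_one]
  map_mul' B B' := by
    apply Subtype.ext
    apply Subtype.ext
    show tvcMk 0 0 0 ((B * B' : Matrix.SpecialLinearGroup (Fin n) (ZMod 2)) :
      Matrix (Fin n) (Fin n) (ZMod 2)) = tvcMk 0 0 0 (B : Matrix (Fin n) (Fin n) (ZMod 2)) *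
        tvcMk 0 0 0 (B' : Matrix (Fin n) (Fin n) (ZMod 2))
    rw [tvcMk_mul, Matrix.SpecialLinearGroup.coe_mul]
    congr 1
    · simp
    · simp
    · simp

/-- the Heisenberg group. -/
def tvcEmb : Heis n →*
    ↥(Subgroup.centralizer ({t} : Set (Matrix.SpecialLinearGroup (Fin (n + 2)) (ZMod 2)))) where
  toFun q := ⟨tvcSL q.c (fun i => q.v (Sum.inl i)) (fun i => q.v (Sum.inr i)) 1,
    tvcSL_mem t ht _ _ _ _⟩
  map_one' := by
    apply Subtype.ext
    apply Subtype.ext
    show tvcMk 0 0 0 ((1 : Matrix.SpecialLinearGroup (Fin n) (ZMod 2)) :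
      Matrix (Fin n) (Fin n) (ZMod 2)) = 1
    rw [Matrix.SpecialLinearGroup.coe_one, tvcMk_one]
  map_mul' q q' := by
    apply Subtype.ext
    apply Subtype.ext
    show tvcMk (q * q').c (fun i => (q * q').v (Sum.inl i)) (fun i => (q * q').v (Sum.inr i))
      ((1 : Matrix.SpecialLinearGroup (Fin n) (ZMod 2)) : Matrix (Fin n) (Fin n) (ZMod 2)) =
      tvcMk q.c (fun i => q.v (Sum.inl i)) (fun i => q.v (Sum.inr i))
        ((1 : Matrix.SpecialLinearGroup (Fin n) (ZMod 2)) : Matrix (Fin n) (Fin n) (ZMod 2)) *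
      tvcMk q'.c (fun i => q'.v (Sum.inl i)) (fun i => q'.v (Sum.inr i))
        ((1 : Matrix.SpecialLinearGroup (Fin n) (ZMod 2)) : Matrix (Fin n) (Fin n) (ZMod 2))
    rw [tvcMk_mul, Matrix.SpecialLinearGroup.coe_one]
    congr 1
    · rw [CExt.mul_c, heisN_bf]
    · funext i
      simp [add_comm]
    · funext i
      simp
    · simp

/-- the structure of the centraliser of the transvection. -/
def tvcDataMat : TvcData n
    ↥(Subgroup.centralizer ({t} : Set (Matrix.SpecialLinearGroup (Fin (n + 2)) (ZMod 2)))) where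
  blk := tvcBlkSL t ht
  sec := tvcSec t ht
  blk_sec B := by
    apply Subtype.ext
    rw [tvcBlkSL_coe]
    show tvcSub (tvcMk 0 0 0 (B : Matrix (Fin n) (Fin n) (ZMod 2))) = _
    rw [tvcSub_mk]
  emb := tvcEmb t ht
  emb_inj := by
    intro q q' h
    have h1 := congrArg (fun g : ↥(Subgroup.centralizer
      ({t} : Set (Matrix.SpecialLinearGroup (Fin (n + 2)) (ZMod 2)))) => cmat t g) h
    obtain ⟨h2, h3, h4, -⟩ := tvcMk_inj (show tvcMk q.c (fun i => q.v (Sum.inl i))
      (fun i => q.v (Sum.inr i)) _ = tvcMk q'.c (fun i => q'.v (Sum.inl i))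
      (fun i => q'.v (Sum.inr i)) _ from h1)
    ext x
    · rcases x with i | i
      · exact congrFun h3 i
      · exact congrFun h4 i
    · exact h2
  emb_range := by
    ext g
    rw [MonoidHom.mem_ker, MonoidHom.mem_range]
    constructor
    · rintro ⟨q, rfl⟩
      apply Subtype.ext
      rw [tvcBlkSL_coe]
      show tvcSub (tvcMk _ _ _ _) = _
      rw [tvcSub_mk]
    · intro hg
      have hb : tvcSub (cmat t g) = 1 := by
        rw [← tvcBlkSL_coe t ht, hg, Matrix.SpecialLinearGroup.coe_one]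
      refine ⟨⟨Sum.elim (fun j => cmat t g 0 j.succ.succ) (fun i => cmat t g i.succ.succ 1),
        cmat t g 0 1⟩, ?_⟩
      apply Subtype.ext
      apply Subtype.ext
      show tvcMk _ _ _ _ = cmat t g
      have h1 := tvcMk_eta (tshape_coe t ht g)
      rw [hb] at h1
      rw [Matrix.SpecialLinearGroup.coe_one]
      exact h1.symm
  conj_emb B q := by
    rw [mul_inv_eq_iff_eq_mul]
    apply Subtype.ext
    apply Subtype.ext
    show tvcMk 0 0 0 (B : Matrix (Fin n) (Fin n) (ZMod 2)) *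
        tvcMk q.c (fun i => q.v (Sum.inl i)) (fun i => q.v (Sum.inr i))
          ((1 : Matrix.SpecialLinearGroup (Fin n) (ZMod 2)) : Matrix (Fin n) (Fin n) (ZMod 2)) =
      tvcMk (heisAct B q).c (fun i => (heisAct B q).v (Sum.inl i))
          (fun i => (heisAct B q).v (Sum.inr i))
          ((1 : Matrix.SpecialLinearGroup (Fin n) (ZMod 2)) : Matrix (Fin n) (Fin n) (ZMod 2)) *
        tvcMk 0 0 0 (B : Matrix (Fin n) (Fin n) (ZMod 2))
    rw [tvcMk_mul, tvcMk_mul, Matrix.SpecialLinearGroup.coe_one]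
    have hB : ((B⁻¹ : Matrix.SpecialLinearGroup (Fin n) (ZMod 2)) : Matrix (Fin n) (Fin n) (ZMod 2)) *
        (B : Matrix (Fin n) (Fin n) (ZMod 2)) = 1 := by
      rw [← Matrix.SpecialLinearGroup.coe_mul, inv_mul_cancel, Matrix.SpecialLinearGroup.coe_one]
    congr 1
    · simp [heisAct]
    · simp only [heisAct, Sum.elim_inl, Matrix.vecMul_one, Matrix.zero_vecMul, add_zero,
        Matrix.vecMul_vecMul]
      rw [hB, Matrix.vecMul_one, zero_add]
    · simp [heisAct]
    · simp

end data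

end Cfsg.Agent.Lib.Helper93

namespace Cfsg.Agent.Lib.Helper93

open Matrix

variable {n : ℕ}

theorem tvcMk_single (j0 : Fin n) :
    tvcMk (n := n) 1 (Pi.single j0 1) 0 1 = 1 + single 0 1 1 + single 0 j0.succ.succ 1 := by
  have h1s : ∀ j : Fin n, (1 : Fin (n + 2)) ≠ j.succ.succ := by
    intro j h; have := congrArg Fin.val h; simp at this
  have h0s : ∀ j : Fin n, (0 : Fin (n + 2)) ≠ j.succ.succ := by
    intro j h; have := congrArg Fin.val h; simp at this
  have h01 : (0 : Fin (n + 2)) ≠ 1 := by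
    intro h; have := congrArg Fin.val h; simp at this
  apply mat_ext9
  · simp [Matrix.single_apply, h01, h0s]
  · simp [Matrix.single_apply, h01, h1s, (h1s j0).symm]
  · intro j; simp [Matrix.single_apply, Matrix.one_apply, h0s j, h1s j, Pi.single_apply, eq_comm]
  · simp [Matrix.single_apply, h01, h01.symm]
  · simp [Matrix.single_apply, h01]
  · intro j; simp [Matrix.single_apply, Matrix.one_apply, h1s j, h01]
  · intro i; simp [Matrix.single_apply, Matrix.one_apply, (h0s i).symm, h0s i]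
  · intro i; simp [Matrix.single_apply, Matrix.one_apply, (h1s i).symm, h0s i]
  · intro i j; simp [Matrix.single_apply, Matrix.one_apply, h0s i]

theorem conj_identity (j0 : Fin n) :
    transvection 1 j0.succ.succ (1 : ZMod 2) * transvection 0 1 1 =
      tvcMk (n := n) 1 (Pi.single j0 1) 0 1 * transvection 1 j0.succ.succ 1 := by
  have h1s : (1 : Fin (n + 2)) ≠ j0.succ.succ := by
    intro h; have := congrArg Fin.val h; simp at this
  have h0s : (0 : Fin (n + 2)) ≠ j0.succ.succ := by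
    intro h; have := congrArg Fin.val h; simp at this
  have h01 : (0 : Fin (n + 2)) ≠ 1 := by
    intro h; have := congrArg Fin.val h; simp at this
  rw [tvcMk_single]
  simp only [transvection, add_mul, mul_add, one_mul, mul_one, Matrix.single_mul_single_same,
    Matrix.single_mul_single_of_ne _ _ _ _ h0s.symm, Matrix.single_mul_single_of_ne _ _ _ _ h1s.symm,
    Matrix.single_mul_single_of_ne _ _ _ _ h01.symm]
  have hh : single (0 : Fin (n + 2)) j0.succ.succ (1 : ZMod 2) + single 0 j0.succ.succ 1 = 0 := by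
    rw [← Matrix.single_add]
    have : (1 : ZMod 2) + 1 = 0 := by decide
    rw [this, Matrix.single_zero]
  have e : (1 : Matrix (Fin (n + 2)) (Fin (n + 2)) (ZMod 2)) + single 0 1 1 +
      single 0 j0.succ.succ 1 + (single 1 j0.succ.succ 1 + single 0 j0.succ.succ 1 + 0) =
      1 + single 1 j0.succ.succ 1 + (single 0 1 1 + 0) +
        (single 0 j0.succ.succ 1 + single 0 j0.succ.succ 1) := by abel
  rw [e, hh]
  abel

end Cfsg.Agent.Lib.Helper93
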