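import Mathlib
import Cfsg.Agent.Lib.Helper93.TvcMat

/-!
Matrices of size `n + 2` with first column `e₀`: they are given by a row vector and a square block
of size `n + 1`, and multiply like affine maps. The matrices of the centraliser of the transvection
`1 + E₀₁` are of this form.
-/

set_option autoImplicit false

namespace Cfsg.Agent.Lib.Helper93

open Matrix

variable {n : ℕ}

/-- the matrix with rows `(1, r)` and `(0, A)`. -/
def affMk (r : Fin (n + 1) → ZMod 2) (A : Matrix (Fin (n + 1)) (Fin (n + 1)) (ZMod 2)) :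
    Matrix (Fin (n + 2)) (Fin (n + 2)) (ZMod 2) :=
  Matrix.of (Fin.cons (Fin.cons 1 r) (fun i => Fin.cons 0 (A i)))

section entries

variable (r : Fin (n + 1) → ZMod 2) (A : Matrix (Fin (n + 1)) (Fin (n + 1)) (ZMod 2))

@[simp] theorem affMk_00 : affMk r A 0 0 = 1 := rfl
@[simp] theorem affMk_0s (j : Fin (n + 1)) : affMk r A 0 j.succ = r j := rfl
@[simp] theorem affMk_s0 (i : Fin (n + 1)) : affMk r A i.succ 0 = 0 := rfl
@[simp] theorem affMk_ss (i j : Fin (n + 1)) : affMk r A i.succ j.succ = A i j := rfl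

end entries

/-- extensionality by the four kinds of entries. -/
theorem mat_ext4 {M M' : Matrix (Fin (n + 2)) (Fin (n + 2)) (ZMod 2)}
    (h00 : M 0 0 = M' 0 0) (h0s : ∀ j : Fin (n + 1), M 0 j.succ = M' 0 j.succ)
    (hs0 : ∀ i : Fin (n + 1), M i.succ 0 = M' i.succ 0)
    (hss : ∀ i j : Fin (n + 1), M i.succ j.succ = M' i.succ j.succ) : M = M' := by
  ext i j
  refine Fin.cases ?_ (fun i' => ?_) i
  · refine Fin.cases ?_ (fun j' => ?_) j
    · exact h00
    · exact h0s j'
  · refine Fin.cases ?_ (fun j' => ?_) j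
    · exact hs0 i'
    · exact hss i' j'

/-- the row vector of a matrix. -/
def affRow (M : Matrix (Fin (n + 2)) (Fin (n + 2)) (ZMod 2)) : Fin (n + 1) → ZMod 2 :=
  fun j => M 0 j.succ

/-- the square block of a matrix. -/
def affSub (M : Matrix (Fin (n + 2)) (Fin (n + 2)) (ZMod 2)) :
    Matrix (Fin (n + 1)) (Fin (n + 1)) (ZMod 2) :=
  M.submatrix Fin.succ Fin.succ

@[simp] theorem affRow_mk (r : Fin (n + 1) → ZMod 2)
    (A : Matrix (Fin (n + 1)) (Fin (n + 1)) (ZMod 2)) : affRow (affMk r A) = r := rfl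

@[simp] theorem affSub_mk (r : Fin (n + 1) → ZMod 2)
    (A : Matrix (Fin (n + 1)) (Fin (n + 1)) (ZMod 2)) : affSub (affMk r A) = A := by
  ext i j
  rfl

theorem affMk_eta {M : Matrix (Fin (n + 2)) (Fin (n + 2)) (ZMod 2)} (h0 : M 0 0 = 1)
    (hc : ∀ i : Fin (n + 1), M i.succ 0 = 0) : M = affMk (affRow M) (affSub M) := by
  apply mat_ext4
  · exact h0
  · intro j; rfl
  · intro i; exact hc i
  · intro i j; rfl

theorem affMk_mul (r : Fin (n + 1) → ZMod 2) (A : Matrix (Fin (n + 1)) (Fin (n + 1)) (ZMod 2))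
    (r' : Fin (n + 1) → ZMod 2) (A' : Matrix (Fin (n + 1)) (Fin (n + 1)) (ZMod 2)) :
    affMk r A * affMk r' A' = affMk (r' + r ᵥ* A') (A * A') := by
  apply mat_ext4
  · rw [Matrix.mul_apply, Fin.sum_univ_succ]; simp
  · intro j; rw [Matrix.mul_apply, Fin.sum_univ_succ]; simp [Matrix.vecMul, dotProduct]
  · intro i; rw [Matrix.mul_apply, Fin.sum_univ_succ]; simp
  · intro i j; rw [Matrix.mul_apply, Fin.sum_univ_succ]; simp [Matrix.mul_apply]

theorem affMk_one : affMk (n := n) 0 1 = 1 := by
  apply mat_ext4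
  · rfl
  · intro j
    simp only [affMk_0s, Pi.zero_apply, Matrix.one_apply]
    rw [if_neg (Fin.succ_ne_zero j).symm]
  · intro i
    simp only [affMk_s0, Matrix.one_apply]
    rw [if_neg (Fin.succ_ne_zero i)]
  · intro i j
    simp only [affMk_ss, Matrix.one_apply, Fin.succ_inj]

theorem affMk_inj {r r' : Fin (n + 1) → ZMod 2}
    {A A' : Matrix (Fin (n + 1)) (Fin (n + 1)) (ZMod 2)} (h : affMk r A = affMk r' A') :
    r = r' ∧ A = A' := by
  constructor
  · have := congrArg affRow h
    simpa using this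
  · have := congrArg affSub h
    simpa using this

/-- the transvection is the translation by the first basis vector. -/
theorem transvection_eq_affMk :
    (transvection 0 1 1 : Matrix (Fin (n + 2)) (Fin (n + 2)) (ZMod 2)) =
      affMk (Pi.single 0 1) 1 := by
  rw [transvection_eq_tvcMk]
  apply mat_ext4
  · rfl
  · intro j
    refine Fin.cases ?_ (fun j' => ?_) j
    · rfl
    · show tvcMk 1 0 0 1 0 j'.succ.succ = _
      rw [tvcMk_0s]
      simp [Pi.single_apply, Fin.succ_ne_zero]
  · intro i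
    refine Fin.cases ?_ (fun i' => ?_) i
    · rfl
    · rfl
  · intro i j
    refine Fin.cases ?_ (fun i' => ?_) i
    · refine Fin.cases ?_ (fun j' => ?_) j
      · simp [Matrix.one_apply]
        rfl
      · show tvcMk 1 0 0 1 1 j'.succ.succ = _
        rw [tvcMk_1s, affMk_ss, Matrix.one_apply,
          if_neg (Fin.succ_ne_zero j').symm]
    · refine Fin.cases ?_ (fun j' => ?_) j
      · show tvcMk 1 0 0 1 i'.succ.succ 1 = _
        rw [tvcMk_s1, affMk_ss, Matrix.one_apply,
          if_neg (Fin.succ_ne_zero i')]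
        rfl
      · show tvcMk 1 0 0 1 i'.succ.succ j'.succ.succ = _
        rw [tvcMk_ss]
        simp [Matrix.one_apply]

/-- the shape of the centraliser, in terms of the affine decomposition. -/
theorem tshape_iff_aff {M : Matrix (Fin (n + 2)) (Fin (n + 2)) (ZMod 2)} :
    TShape M ↔ M 0 0 = 1 ∧ (∀ i : Fin (n + 1), M i.succ 0 = 0) ∧
      affSub M 0 = Pi.single 0 1 := by
  constructor
  · intro h
    refine ⟨h.d0, h.c0, ?_⟩
    funext j
    refine Fin.cases ?_ (fun j' => ?_) j
    · show M 1 1 = _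
      rw [h.d1]; simp
    · show M 1 j'.succ.succ = _
      rw [h.r1]; simp [Pi.single_apply, Fin.succ_ne_zero]
  · rintro ⟨h0, hc, hr⟩
    refine ⟨hc, h0, ?_, ?_⟩
    · intro j
      have := congrFun hr j.succ
      simp only [Pi.single_apply, Fin.succ_ne_zero, if_false] at this
      exact this
    · have := congrFun hr 0
      simp only [Pi.single_eq_same] at this
      exact this

end Cfsg.Agent.Lib.Helper93
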