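import Mathlib
import Cfsg.Agent.Lib.Helper15.BG139Defs2
import Cfsg.Agent.Lib.Helper16.BG134Base
import Cfsg.Agent.Lib.Helper11.BG134P2

/-!
# K-S1378-K2a (keystone 137814): step 15(i) of the proof of BG Theorem 13.9

For `r ∈ τ₂(H)`: a complement `EH ≥ C_{M_σ}(P) P` of `H_σ` in `H`, and `A ≤ EH` elementary abelian
of order `r²` normal in `EH`, containing `P`, with `C_A(X) = P` for `1 ≠ X ≤ C_{M_σ}(P)`.
-/

set_option autoImplicit false

namespace Cfsg.Agent.Lib.Helper93.BG139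

open Cfsg Cfsg.Agent.Lib.Helper55 Cfsg.Agent.Lib.Helper31.BG134 Cfsg.Agent.Lib.Helper15.BG139

variable {G : Type*} [Group G] [Finite G]

/-- a subgroup of order `r` or `r²`: between `P` (order `r`) and `A` (order `r²`) there is nothing
else -/
theorem k2a_eq_of_between {P B A : Subgroup G} {r : ℕ} (hr : r.Prime) (hPB : P ≤ B) (hBA : B ≤ A)
    (hP : Nat.card P = r) (hA : Nat.card A = r ^ 2) : B = P ∨ B = A := by
  have h1 : Nat.card P ∣ Nat.card B := Subgroup.card_dvd_of_le hPB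
  have h2 : Nat.card B ∣ Nat.card A := Subgroup.card_dvd_of_le hBA
  rw [hA] at h2
  rw [hP] at h1
  obtain ⟨k, hk, hBk⟩ := (Nat.dvd_prime_pow hr).1 h2
  have hk1 : 1 ≤ k := by
    rcases Nat.eq_zero_or_pos k with h0 | h0
    · exfalso
      rw [h0, pow_zero] at hBk
      rw [hBk] at h1
      exact hr.one_lt.ne' (Nat.dvd_one.1 h1)
    · exact h0
  have hk' : k = 1 ∨ k = 2 := by omega
  rcases hk' with rfl | rfl
  · left
    symm
    apply Subgroup.eq_of_le_of_card_ge hPB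
    rw [hP, hBk, pow_one]
  · right
    apply Subgroup.eq_of_le_of_card_ge hBA
    rw [hA, hBk]

/-- KEYSTONE 137814  K-S1378-K2a  (step 15(i)). -/
theorem Loc.tau2_act {M P H : Subgroup G} {r : ℕ} (l : Loc M P H r) (hr2 : r ∈ tau2 H) :
    ∃ EH A : Subgroup G, T2 M P H EH A r := by
  have hG := l.o.hG
  have hM := l.o.hM
  have hH := l.hH
  have hrp : r.Prime := hr2.1
  have : Fact r.Prime := ⟨hrp⟩
  have hHall : IsPiHallOf (sigma H) (sigmaCore H) H := Cfsg.Agent.Lib.Helper16.BG134.hall_sigma hG hH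
  -- `CP M P` and `P` lie in `N_G(P) ≤ H`
  have hCPc : CP M P ≤ Subgroup.centralizer (P : Set G) := inf_le_right
  have hCPn : CP M P ≤ Subgroup.normalizer (P : Set G) :=
    hCPc.trans (Subgroup.centralizer_le_normalizer _)
  have hKH : CP M P ⊔ P ≤ H :=
    sup_le (hCPn.trans l.hNH) (Subgroup.le_normalizer.trans l.hNH)
  have hCPσ : CP M P ≤ sigmaCore M := inf_le_left
  -- primes of `CP M P` are in `σ(M)`
  have hprC : ∀ q : ℕ, q.Prime → ∀ X : Subgroup G, X ≤ CP M P → q ∣ Nat.card X → q ∈ sigma M := by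
    intro q hq X hX hqd
    apply Cfsg.Agent.Lib.Helper71.BG11.sigmaCore_pi hG hM hq
    exact hqd.trans (Subgroup.card_dvd_of_le (hX.trans hCPσ))
  have hK : ∀ q : ℕ, q.Prime → q ∣ Nat.card ↥(CP M P ⊔ P) → q ∉ sigma H := by
    intro q hq hqd
    have hdvd : Nat.card ↥(CP M P ⊔ P) ∣ Nat.card (CP M P) * Nat.card P := by
      rw [sup_comm]
      have := Cfsg.Agent.Lib.Helper11.BG134.card_sup_dvd_of_le_normalizer P (CP M P) hCPn
      rwa [mul_comm] at this
    rcases (Nat.Prime.dvd_mul hq).1 (hqd.trans hdvd) with h1 | h1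
    · intro hqH
      exact l.hσ q hqH (hprC q hq _ le_rfl h1)
    · rw [l.o.hPc] at h1
      rw [(Nat.prime_dvd_prime_iff_eq hq hrp).1 h1]
      exact hr2.2.1
  obtain ⟨EH, hEH, hKE⟩ :=
    Cfsg.Agent.Lib.Helper13.BG12.exists_complIn_ge hG hH hHall hKH hK
  obtain ⟨A, hAE, hAel, hAc⟩ :=
    Cfsg.Agent.Lib.Helper13.BG12.exists_elemAb_sq_le_compl hG hH hHall hr2 hEH
  obtain ⟨⟨hAn, hsub⟩, -, -⟩ := Cfsg.Agent.S1418.result hG H hH EH hEH r hr2 A ⟨hAE, hAel, hAc⟩
  have hPE : P ≤ EH := le_sup_right.trans hKE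
  have hPA : P ≤ A := hsub P hPE l.o.hPc
  refine ⟨EH, A, ⟨hEH, hKE, hAE, hAel, hAc, hAn, hPA, ?_⟩⟩
  intro X hXC hX1
  -- `P ≤ A ⊓ C(X)`
  have hPX : P ≤ A ⊓ Subgroup.centralizer (X : Set G) := by
    refine le_inf hPA ?_
    intro y hy
    rw [Subgroup.mem_centralizer_iff]
    intro x hx
    have := (Subgroup.mem_centralizer_iff.1 (hCPc (hXC hx))) y hy
    exact this.symm
  rcases k2a_eq_of_between hrp hPX inf_le_left l.o.hPc hAc with h | h
  · exact h
  · exfalso
    have hAX : A ≤ Subgroup.centralizer (X : Set G) := by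
      rw [← h]; exact inf_le_right
    -- a subgroup `Y ≤ X` of prime order `q`
    have hXcard : Nat.card X ≠ 1 := by
      intro h1
      exact hX1 (Subgroup.card_eq_one.1 h1)
    obtain ⟨q, hq, hqd⟩ := Nat.exists_prime_and_dvd hXcard
    have : Fact q.Prime := ⟨hq⟩
    obtain ⟨y, hy⟩ := exists_prime_orderOf_dvd_card' (G := ↥X) q hqd
    let Y : Subgroup G := Subgroup.zpowers (y : G)
    have hYc : Nat.card Y = q := by
      rw [Nat.card_zpowers, Subgroup.orderOf_coe, hy]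
    have hYX : Y ≤ X := by
      rw [Subgroup.zpowers_le]; exact y.2
    have hqσ : q ∈ sigma M := hprC q hq X hXC hqd
    have hqβ : q ∈ beta M :=
      l.o.hCβ q hq (hqd.trans (Subgroup.card_dvd_of_le hXC))
    have hYM : Y ≤ M :=
      hYX.trans (hXC.trans (hCPσ.trans (Cfsg.Agent.Lib.Helper71.BG11.sigmaCore_le M)))
    have hS : Nonempty (Sylow q ↥(sigmaCore M)) := inferInstance
    obtain ⟨S⟩ := hS
    obtain ⟨⟨hCY, -⟩, -, -⟩ :=
      Cfsg.Agent.S1423.result hG M hM q hqσ Y hYM hYc S (Or.inl hqβ)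
    have hAM : A ≤ M := by
      refine le_trans ?_ hCY
      refine hAX.trans ?_
      exact Subgroup.centralizer_le (by exact_mod_cast hYX)
    -- contradiction with `PRankLE r 1 M`
    have hrank : PRankLE r 1 ↥M := l.o.hr1.2.2.2.2
    apply (not_pRankLE_sub_iff (p := r) (k := 1) (R := M)).2 ?_ hrank
    refine ⟨A, hAM, ?_, hAel.2, ?_⟩
    · intro a ha b hb
      have := hAel.1.is_comm.comm ⟨a, ha⟩ ⟨b, hb⟩
      exact congrArg Subtype.val this
    · rw [hAc, pow_one]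
      have h1 := hrp.one_lt
      nlinarith

end Cfsg.Agent.Lib.Helper93.BG139
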