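import Cfsg.Agent.Lib.Helper93.Rigid

/-!
Stabiliser chains in `Cfsg.M24`: permutations of the 24 points given by tables of images of
indices, membership in `M24` from a table of images of the generating words, evaluation of words
in such permutations on indices, and the lower bound for the order of a group from a transversal.
-/

set_option autoImplicit false

namespace Cfsg.Agent.Lib.Helper93

open Cfsg Cfsg.Agent.Lib.Helper10

/-! ### Permutations from tables -/

/-- the map of the 24 points with table of images `t` (on indices). -/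
def tabFun (t : List ℕ) (p : GolayPt) : GolayPt := pt (t.getD (idx p) 0)

/-- `t` and `tinv` are tables of mutually inverse maps of `0..23`. -/
def tabOk (t tinv : List ℕ) : Bool :=
  (List.range 24).all (fun i => decide (t.getD i 0 < 24) && decide (tinv.getD i 0 < 24) &&
    (tinv.getD (t.getD i 0) 0 == i) && (t.getD (tinv.getD i 0) 0 == i))

theorem tabOk_spec {t tinv : List ℕ} (h : tabOk t tinv = true) {i : ℕ} (hi : i < 24) :
    t.getD i 0 < 24 ∧ tinv.getD i 0 < 24 ∧ tinv.getD (t.getD i 0) 0 = i ∧
      t.getD (tinv.getD i 0) 0 = i := by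
  have := (List.all_eq_true.mp h) i (List.mem_range.mpr hi)
  simp only [Bool.and_eq_true, decide_eq_true_eq, beq_iff_eq] at this
  tauto

theorem tabFun_tabFun {t tinv : List ℕ} (h1 : ∀ i < 24, t.getD i 0 < 24)
    (h2 : ∀ i < 24, tinv.getD (t.getD i 0) 0 = i) (p : GolayPt) :
    tabFun tinv (tabFun t p) = p := by
  unfold tabFun
  rw [idx_pt (h1 _ (idx_lt p)), h2 _ (idx_lt p), pt_idx]

/-- the permutation with table `t` and inverse table `tinv` (the identity if the tables are not
valid). -/
def tabPerm (t tinv : List ℕ) : Equiv.Perm GolayPt :=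
  if h : tabOk t tinv = true then
    { toFun := tabFun t
      invFun := tabFun tinv
      left_inv := tabFun_tabFun (fun _ hi => (tabOk_spec h hi).1) (fun _ hi => (tabOk_spec h hi).2.2.1)
      right_inv := tabFun_tabFun (fun _ hi => (tabOk_spec h hi).2.1)
        (fun _ hi => (tabOk_spec h hi).2.2.2) }
  else 1

theorem tabPerm_apply {t tinv : List ℕ} (h : tabOk t tinv = true) (p : GolayPt) :
    tabPerm t tinv p = tabFun t p := by
  unfold tabPerm
  rw [dif_pos h]
  rfl

theorem idx_tabPerm {t tinv : List ℕ} (h : tabOk t tinv = true) (p : GolayPt) :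
    idx (tabPerm t tinv p) = t.getD (idx p) 0 := by
  rw [tabPerm_apply h, tabFun, idx_pt (tabOk_spec h (idx_lt p)).1]

/-- `img` lists the images under the table `t` of the 24 generating words, all of them in the
code. -/
def imgOk (t img : List ℕ) : Bool :=
  (List.range 24).all (fun i => decide (img.getD i 0 < 2 ^ 24) &&
    (enc (img.getD i 0) == img.getD i 0) &&
    (List.range 24).all (fun j => (genMask.getD i 0).testBit j == (img.getD i 0).testBit (t.getD j 0)))

theorem tabPerm_mem_M24 (t tinv img : List ℕ) (h : tabOk t tinv = true)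
    (hi : imgOk t img = true) : tabPerm t tinv ∈ M24 := by
  apply mem_M24_of_table (tabPerm t tinv) (tabFun t) (tabPerm_apply h) img
  intro i
  have h0 := (List.all_eq_true.mp hi) i (List.mem_range.mpr i.2)
  simp only [Bool.and_eq_true, decide_eq_true_eq, beq_iff_eq, List.all_eq_true, List.mem_range]
    at h0
  obtain ⟨⟨h1, h2⟩, h3⟩ := h0
  refine ⟨?_, h1, h2⟩
  intro p
  rw [vec_apply, vec_apply]
  have e : idx (tabFun t p) = t.getD (idx p) 0 := idx_pt (tabOk_spec h (idx_lt p)).1
  rw [e, h3 (idx p) (idx_lt p)]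

/-- all the tables of `G` give elements of `M24`, by the image tables `I`. -/
theorem all_mem_M24 (G : List (List ℕ × List ℕ)) (I : List (List ℕ))
    (hG : ∀ x ∈ G, tabOk x.1 x.2 = true)
    (h : (List.range G.length).all (fun j => imgOk (G.getD j ([], [])).1 (I.getD j [])) = true) :
    ∀ x ∈ G, tabPerm x.1 x.2 ∈ M24 := by
  intro x hx
  obtain ⟨j, hj, rfl⟩ := List.getElem_of_mem hx
  have h1 := (List.all_eq_true.mp h) j (List.mem_range.mpr hj)
  rw [List.getD_eq_getElem _ _ hj] at h1
  exact tabPerm_mem_M24 _ _ _ (hG _ hx) h1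

/-! ### Words -/

/-- action on indices of the word `w` in the tables `G` (the first letter acts last). -/
def applyWord (G : List (List ℕ × List ℕ)) : List ℕ → ℕ → ℕ
  | [], i => i
  | j :: w, i => (G.getD j ([], [])).1.getD (applyWord G w i) 0

/-- the product of the permutations named by the word `w`. -/
def evalWord (G : List (List ℕ × List ℕ)) (w : List ℕ) : Equiv.Perm GolayPt :=
  (w.map (fun j => tabPerm (G.getD j ([], [])).1 (G.getD j ([], [])).2)).prod

theorem getD_mem (G : List (List ℕ × List ℕ)) {j : ℕ} (hj : j < G.length) :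
    G.getD j ([], []) ∈ G := by
  rw [List.getD_eq_getElem _ _ hj]
  exact List.getElem_mem _

theorem idx_evalWord (G : List (List ℕ × List ℕ)) (hG : ∀ x ∈ G, tabOk x.1 x.2 = true)
    (w : List ℕ) (hw : ∀ j ∈ w, j < G.length) (p : GolayPt) :
    idx (evalWord G w p) = applyWord G w (idx p) := by
  induction w with
  | nil => simp [evalWord, applyWord]
  | cons j w ih =>
    have hj : j < G.length := hw j (by simp)
    have ih' := ih (fun k hk => hw k (by simp [hk]))
    unfold evalWord at ih' ⊢
    simp only [List.map_cons, List.prod_cons, Equiv.Perm.mul_apply, applyWord]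
    rw [idx_tabPerm (hG _ (getD_mem G hj)), ih']

theorem evalWord_mem (G : List (List ℕ × List ℕ)) (H : Subgroup (Equiv.Perm GolayPt))
    (hG : ∀ x ∈ G, tabPerm x.1 x.2 ∈ H) (w : List ℕ) (hw : ∀ j ∈ w, j < G.length) :
    evalWord G w ∈ H := by
  unfold evalWord
  apply Subgroup.list_prod_mem
  intro x hx
  rw [List.mem_map] at hx
  obtain ⟨j, hj, rfl⟩ := hx
  exact hG _ (getD_mem G (hw j hj))

/-! ### Stabilisers of lists of points -/

/-- the elements of `M24` fixing the points with the indices in `F`. -/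
def fixG (F : List ℕ) : Subgroup (Equiv.Perm GolayPt) :=
  M24 ⊓ ⨅ i ∈ F, MulAction.stabilizer (Equiv.Perm GolayPt) (pt i)

theorem mem_fixG {F : List ℕ} {g : Equiv.Perm GolayPt} :
    g ∈ fixG F ↔ g ∈ M24 ∧ ∀ i ∈ F, g (pt i) = pt i := by
  unfold fixG
  rw [Subgroup.mem_inf]
  simp only [Subgroup.mem_iInf, MulAction.mem_stabilizer_iff, Equiv.Perm.smul_def]

theorem fixG_nil : fixG [] = M24 := by
  ext g; rw [mem_fixG]; simp

theorem fixG_cons (b : ℕ) (F : List ℕ) :
    fixG (b :: F) = fixG F ⊓ MulAction.stabilizer (Equiv.Perm GolayPt) (pt b) := by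
  ext g
  have hs : g ∈ MulAction.stabilizer (Equiv.Perm GolayPt) (pt b) ↔ g (pt b) = pt b :=
    MulAction.mem_stabilizer_iff
  rw [Subgroup.mem_inf, mem_fixG, mem_fixG, hs]
  simp only [List.mem_cons, forall_eq_or_imp]
  tauto

/-! ### The lower bound from a transversal -/

theorem card_ge_of_transversal {α : Type*} [Fintype α] [DecidableEq α]
    (G : Subgroup (Equiv.Perm α)) (p : α) (l : List α) (hl : l.Nodup)
    (h : ∀ q ∈ l, ∃ g ∈ G, g p = q) :
    l.length * Nat.card ↥(G ⊓ MulAction.stabilizer (Equiv.Perm α) p) ≤ Nat.card ↥G := by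
  classical
  choose t ht using h
  let f : {q // q ∈ l} × ↥(G ⊓ MulAction.stabilizer (Equiv.Perm α) p) → ↥G :=
    fun x => ⟨t x.1.1 x.1.2 * x.2.1, G.mul_mem (ht _ _).1 (Subgroup.mem_inf.mp x.2.2).1⟩
  have hf : Function.Injective f := by
    rintro ⟨⟨q, hq⟩, ⟨a, ha⟩⟩ ⟨⟨q', hq'⟩, ⟨a', ha'⟩⟩ hxy
    have e : t q hq * a = t q' hq' * a' := congrArg Subtype.val hxy
    have hap : a p = p := (Subgroup.mem_inf.mp ha).2
    have hap' : a' p = p := (Subgroup.mem_inf.mp ha').2
    have e2 : (t q hq * a) p = (t q' hq' * a') p := by rw [e]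
    rw [Equiv.Perm.mul_apply, Equiv.Perm.mul_apply, hap, hap', (ht q hq).2, (ht q' hq').2] at e2
    subst e2
    have e3 : a = a' := mul_left_cancel e
    subst e3
    rfl
  have hle := Nat.card_le_card_of_injective f hf
  rw [Nat.card_prod] at hle
  have hc : Nat.card {q // q ∈ l} = l.length := by
    rw [Nat.card_eq_fintype_card, Fintype.card_of_subtype l.toFinset (by simp),
      List.toFinset_card_of_nodup hl]
  rw [hc] at hle
  exact hle

/-- the data of one level of a stabiliser chain: the words in `L` fix the indices `bs` and carry the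
index `b` to the listed indices. -/
def levelOk (G : List (List ℕ × List ℕ)) (bs : List ℕ) (b : ℕ) (L : List (ℕ × List ℕ)) : Bool :=
  decide (b < 24) && bs.all (fun c => decide (c < 24)) &&
  L.all (fun x => x.2.all (fun j => decide (j < G.length)) && (applyWord G x.2 b == x.1) &&
    bs.all (fun c => applyWord G x.2 c == c) && decide (x.1 < 24))

theorem level_card (G : List (List ℕ × List ℕ)) (hG : ∀ x ∈ G, tabOk x.1 x.2 = true)
    (hM : ∀ x ∈ G, tabPerm x.1 x.2 ∈ M24) (bs : List ℕ) (b : ℕ) (L : List (ℕ × List ℕ))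
    (hL : levelOk G bs b L = true) (hnd : (L.map Prod.fst).Nodup) :
    L.length * Nat.card ↥(fixG (b :: bs)) ≤ Nat.card ↥(fixG bs) := by
  simp only [levelOk, Bool.and_eq_true, decide_eq_true_eq, List.all_eq_true, beq_iff_eq] at hL
  obtain ⟨⟨hb, hbs⟩, hL⟩ := hL
  rw [fixG_cons]
  have hlen : L.length = (L.map (fun x => pt x.1)).length := by simp
  rw [hlen]
  apply card_ge_of_transversal
  · have : L.map (fun x => pt x.1) = (L.map Prod.fst).map pt := by simp
    rw [this]
    apply List.Nodup.map_on _ hnd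
    intro x hx y hy hxy
    rw [List.mem_map] at hx hy
    obtain ⟨x', hx', rfl⟩ := hx
    obtain ⟨y', hy', rfl⟩ := hy
    have h1 := (hL x' hx').2
    have h2 := (hL y' hy').2
    rw [← idx_pt h1, ← idx_pt h2, hxy]
  · intro q hq
    rw [List.mem_map] at hq
    obtain ⟨x, hx, rfl⟩ := hq
    obtain ⟨⟨⟨hw, hbx⟩, hfix⟩, hx24⟩ := hL x hx
    refine ⟨evalWord G x.2, ?_, ?_⟩
    · rw [mem_fixG]
      refine ⟨evalWord_mem G M24 hM x.2 hw, ?_⟩
      intro i hi
      apply idx_injective
      rw [idx_evalWord G hG x.2 hw, idx_pt (hbs i hi), hfix i hi]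
    · apply idx_injective
      rw [idx_evalWord G hG x.2 hw, idx_pt hb, hbx, idx_pt hx24]

end Cfsg.Agent.Lib.Helper93
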