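import Cfsg.Agent.Lib.Helper93.CzData

/-!
The centraliser in `Cfsg.M24` of the involution `czP` fixing the eight points of an octad: every
element is a product of four tables of the stabiliser chain, hence acts on the labels of the
sixteen other points as a linear map of `𝔽₂⁵`; this gives an injective homomorphism to
`SL(5, 𝔽₂)` carrying `czP` to the transvection `1 + E₀₁`; the centraliser has at least `21504`
elements.
-/

set_option autoImplicit false

namespace Cfsg.Agent.Lib.Helper93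

open Cfsg Cfsg.Agent.Lib.Helper10

/-- the involution. -/
def czP : Equiv.Perm GolayPt := tabPerm czZ czZ

theorem czP_mem : czP ∈ M24 := tabPerm_mem_M24 _ _ czZimg czZ_ok czZ_img

theorem idx_czP (p : GolayPt) : idx (czP p) = czZ.getD (idx p) 0 := idx_tabPerm czZ_ok p

/-- the permutations commuting with the involution. -/
def czC : Subgroup (Equiv.Perm GolayPt) := Subgroup.centralizer {czP}

theorem mem_czC {g : Equiv.Perm GolayPt} : g ∈ czC ↔ czP * g = g * czP := by
  unfold czC
  rw [Subgroup.mem_centralizer_iff]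
  simp

/-- the centraliser of the involution in `M24`, as a group of permutations. -/
def czG : Subgroup (Equiv.Perm GolayPt) := M24 ⊓ czC

theorem mem_czG {g : Equiv.Perm GolayPt} : g ∈ czG ↔ g ∈ M24 ∧ czP * g = g * czP := by
  unfold czG
  rw [Subgroup.mem_inf, mem_czC]

theorem comm_tab {t tinv : List ℕ} (h : tabOk t tinv = true) (hc : commOk t = true) :
    czP * tabPerm t tinv = tabPerm t tinv * czP := by
  apply Equiv.ext
  intro p
  apply idx_injective
  simp only [Equiv.Perm.mul_apply]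
  rw [idx_czP, idx_tabPerm h, idx_tabPerm h, idx_czP]
  have := (List.all_eq_true.mp hc) (idx p) (List.mem_range.mpr (idx_lt p))
  rw [beq_iff_eq] at this
  exact this.symm

theorem czP_fix_iff (p : GolayPt) : notOctA.testBit (idx p) = true ↔ czP p ≠ p := by
  rw [czZ_fix (idx p) (List.mem_range.mpr (idx_lt p))]
  constructor
  · intro h e
    apply h
    rw [← idx_czP, e]
  · intro h e
    apply h
    apply idx_injective
    rw [idx_czP, e]

theorem inv_of_comm {g : Equiv.Perm GolayPt} (hc : czP * g = g * czP) : Inv g notOctA := by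
  intro p
  have h1 := czP_fix_iff (g p)
  have h2 := czP_fix_iff p
  have e : czP (g p) = g (czP p) := by
    have := congrArg (fun x : Equiv.Perm GolayPt => x p) hc
    simpa using this
  have h3 : czP (g p) ≠ g p ↔ czP p ≠ p := by
    rw [e]
    exact g.injective.ne_iff
  rw [Bool.eq_iff_iff, h1, h2, h3]

theorem fix_z {g : Equiv.Perm GolayPt} (hc : g ∈ czC) {i : ℕ} (hi : i < 24)
    (h : g (pt i) = pt i) : g (pt (czZ.getD i 0)) = pt (czZ.getD i 0) := by
  have e : czP (pt i) = pt (czZ.getD i 0) := by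
    apply idx_injective
    rw [idx_czP, idx_pt hi, idx_pt (tabOk_spec czZ_ok hi).1]
  rw [← e]
  have := congrArg (fun x : Equiv.Perm GolayPt => x (pt i)) (mem_czC.mp hc)
  simp only [Equiv.Perm.mul_apply] at this
  rw [← this, h]

theorem stab_z {S : ℕ} {F : List ℕ} {g : Equiv.Perm GolayPt} (hg : g ∈ stabG S F)
    (hc : g ∈ czC) {i : ℕ} (hi : i ∈ F) (hi24 : i < 24) :
    g ∈ stabG S (czZ.getD i 0 :: F) := by
  rw [mem_stabG] at hg ⊢
  refine ⟨hg.1, hg.2.1, ?_⟩
  intro j hj
  rw [List.mem_cons] at hj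
  rcases hj with rfl | hj
  · exact fix_z hc hi24 (hg.2.2 i hi)
  · exact hg.2.2 j hj

theorem lev_comm {T : List (List ℕ × List ℕ × List ℕ)}
    (h : T.all (fun x => commOk x.1) = true) {S : ℕ} {F : List ℕ} {b : ℕ}
    (hs : siftOk S F b T = true) {x : List ℕ × List ℕ × List ℕ} (hx : x ∈ T) :
    tabPerm x.1 x.2.1 ∈ czC :=
  mem_czC.mpr (comm_tab (sift_mem hs hx).1 (List.all_eq_true.mp h x hx))

theorem fixed_of_list {g : Equiv.Perm GolayPt} {F : List ℕ} (h : ∀ i ∈ F, g (pt i) = pt i)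
    (m : ℕ) (hm : ∀ i ∈ List.range 24, m.testBit i = true → i ∈ F) : Fixed g m := by
  intro p hp
  have h1 := hm (idx p) (List.mem_range.mpr (idx_lt p)) hp
  have h2 := h _ h1
  rwa [pt_idx] at h2

/-- an element of `M24` fixing the eight points `5, 15, 22, 20, 14, 16, 23, 8` is the identity. -/
theorem cz_rigid {g : Equiv.Perm GolayPt} (hM : g ∈ M24)
    (hF : ∀ i ∈ [5, 15, 22, 20, 14, 16, 23, 8], g (pt i) = pt i) : g = 1 := by
  apply eq_one_of_cert hM _ _ _ cz_cert
  intro c hc
  have s : ∀ i ∈ [5, 15, 22, 20, 14, 16, 23, 8], Inv g (2 ^ i) := by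
    intro i hi
    have := inv_single (hF _ hi)
    have hi24 : i < 24 := by
      simp only [List.mem_cons, List.not_mem_nil, or_false] at hi
      omega
    rwa [idx_pt hi24] at this
  have e : (3030751 : ℕ) = (2 ^ 24 - 1) ^^^ 2 ^ 5 ^^^ 2 ^ 15 ^^^ 2 ^ 22 ^^^ 2 ^ 20 ^^^ 2 ^ 14
      ^^^ 2 ^ 16 ^^^ 2 ^ 23 ^^^ 2 ^ 8 := by decide
  simp only [List.mem_cons, List.not_mem_nil, or_false] at hc
  rcases hc with rfl | rfl | rfl | rfl | rfl | rfl | rfl | rfl | rfl
  · exact s 5 (by simp)
  · exact s 15 (by simp)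
  · exact s 22 (by simp)
  · exact s 20 (by simp)
  · exact s 14 (by simp)
  · exact s 16 (by simp)
  · exact s 23 (by simp)
  · exact s 8 (by simp)
  · rw [e]
    exact inv_xor (inv_xor (inv_xor (inv_xor (inv_xor (inv_xor (inv_xor (inv_xor (inv_full g)
      (s 5 (by simp))) (s 15 (by simp))) (s 22 (by simp))) (s 20 (by simp))) (s 14 (by simp)))
      (s 16 (by simp))) (s 23 (by simp))) (s 8 (by simp))

/-- every element of the centraliser is a product of four tables, one from each level. -/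
theorem cz_factor {g : Equiv.Perm GolayPt} (hg : g ∈ czG) :
    ∃ x1 ∈ czlev1, ∃ x2 ∈ czlev2, ∃ x3 ∈ czlev3, ∃ x4 ∈ czlev4,
      g = tabPerm x1.1 x1.2.1 * tabPerm x2.1 x2.2.1 * tabPerm x3.1 x3.2.1 *
        tabPerm x4.1 x4.2.1 := by
  obtain ⟨hM, hc⟩ := mem_czG.mp hg
  have hC : g ∈ czC := mem_czC.mpr hc
  have h0 : g ∈ stabG notOctA [] := mem_stabG.mpr ⟨hM, inv_of_comm hc, by simp⟩
  obtain ⟨x1, hx1, h1⟩ := sift_step cz_sift1 h0
  have c1 := czC.mul_mem (czC.inv_mem (lev_comm cz_comm1 cz_sift1 hx1)) hC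
  have h1' := stab_z h1 c1 (i := 5) (by simp) (by norm_num)
  have e15 : czZ.getD 5 0 = 15 := by decide
  rw [e15] at h1'
  obtain ⟨x2, hx2, h2⟩ := sift_step cz_sift2 h1'
  have c2 := czC.mul_mem (czC.inv_mem (lev_comm cz_comm2 cz_sift2 hx2)) c1
  have h2' := stab_z h2 c2 (i := 22) (by simp) (by norm_num)
  have e20 : czZ.getD 22 0 = 20 := by decide
  rw [e20] at h2'
  obtain ⟨x3, hx3, h3⟩ := sift_step cz_sift3 h2'
  have c3 := czC.mul_mem (czC.inv_mem (lev_comm cz_comm3 cz_sift3 hx3)) c2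
  -- the octad through five fixed points
  have hF := fixed_of_list (mem_stabG.mp h3).2.2 (2 ^ 5 + 2 ^ 15 + 2 ^ 22 + 2 ^ 20 + 2 ^ 14)
    (by decide)
  have hH := oct_inv (mem_stabG.mp h3).1 hF cz_octH
  have hS := inv_xor (mem_stabG.mp h3).2.1 (inv_and (mem_stabG.mp h3).2.1 hH)
  rw [← czS4_eq] at hS
  have h3' := stabG_of_inv h3 hS
  obtain ⟨x4, hx4, h4⟩ := sift_step cz_sift4 h3'
  have c4 := czC.mul_mem (czC.inv_mem (lev_comm cz_comm4 cz_sift4 hx4)) c3
  refine ⟨x1, hx1, x2, hx2, x3, hx3, x4, hx4, ?_⟩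
  have f := (mem_stabG.mp h4).2.2
  have f16 := fix_z c4 (i := 14) (by norm_num) (f 14 (by simp))
  have f8 := fix_z c4 (i := 23) (by norm_num) (f 23 (by simp))
  have e16 : czZ.getD 14 0 = 16 := by decide
  have e8 : czZ.getD 23 0 = 8 := by decide
  rw [e16] at f16
  rw [e8] at f8
  have h5 := cz_rigid (mem_stabG.mp h4).1 (by
    intro i hi
    simp only [List.mem_cons, List.not_mem_nil, or_false] at hi
    rcases hi with rfl | rfl | rfl | rfl | rfl | rfl | rfl | rfl
    · exact f 5 (by simp)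
    · exact f 15 (by simp)
    · exact f 22 (by simp)
    · exact f 20 (by simp)
    · exact f 14 (by simp)
    · exact f16
    · exact f 23 (by simp)
    · exact f8)
  rw [inv_mul_eq_one] at h5
  have h6 := h5.symm
  rw [inv_mul_eq_iff_eq_mul, inv_mul_eq_iff_eq_mul, inv_mul_eq_iff_eq_mul] at h6
  rw [h6]
  simp only [mul_assoc]

/-! ### The affine action -/

/-- the label of a point. -/
def czVec (p : GolayPt) : Fin 5 → ZMod 2 := czBit (idx p)

/-- the matrix of a permutation, from the images of the five base points. -/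
def czMat (g : Equiv.Perm GolayPt) : Matrix (Fin 5) (Fin 5) (ZMod 2) :=
  Matrix.of fun i j => if j = 1 then czVec (g (pt 5)) i
    else czVec (g (pt (czB j))) i + czVec (g (pt 5)) i

/-- `g` acts on the labels of the sixteen points by its matrix. -/
def IsAff (g : Equiv.Perm GolayPt) : Prop :=
  ∀ p, notOctA.testBit (idx p) = true → czVec (g p) = Matrix.mulVec (czMat g) (czVec p)

theorem czB_lt : ∀ j : Fin 5, czB j < 24 := by decide
theorem czB_notO : ∀ j : Fin 5, notOctA.testBit (czB j) = true := by decide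

theorem zmod2_add_add_self : ∀ a b : ZMod 2, a + b + a = b := by decide

theorem czMat_eq_of_aff {g : Equiv.Perm GolayPt} {M : Matrix (Fin 5) (Fin 5) (ZMod 2)}
    (h : ∀ p, notOctA.testBit (idx p) = true → czVec (g p) = Matrix.mulVec M (czVec p)) :
    czMat g = M := by
  have hb : ∀ j : Fin 5, czVec (g (pt (czB j))) = Matrix.mulVec M (czVec (pt (czB j))) :=
    fun j => h (pt (czB j)) (by rw [idx_pt (czB_lt j)]; exact czB_notO j)
  have hv : ∀ j k : Fin 5, czVec (pt (czB j)) k =
      if j = 1 then (if k = 1 then 1 else 0) else (if k = 1 ∨ k = j then 1 else 0) := by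
    intro j k
    unfold czVec
    rw [idx_pt (czB_lt j)]
    exact czBit_base j k
  have h5 : pt 5 = pt (czB 1) := rfl
  ext i j
  simp only [czMat, Matrix.of_apply]
  rw [h5, hb 1]
  have e1 : Matrix.mulVec M (czVec (pt (czB 1))) i = M i 1 := by
    simp [Matrix.mulVec, dotProduct, Fin.sum_univ_five, hv]
  rw [e1]
  split_ifs with hj
  · rw [hj]
  · rw [hb j]
    have e2 : Matrix.mulVec M (czVec (pt (czB j))) i = M i 1 + M i j := by
      fin_cases j
      · simp [Matrix.mulVec, dotProduct, Fin.sum_univ_five, hv, add_comm]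
      · exact absurd rfl hj
      · simp [Matrix.mulVec, dotProduct, Fin.sum_univ_five, hv]
      · simp [Matrix.mulVec, dotProduct, Fin.sum_univ_five, hv]
      · simp [Matrix.mulVec, dotProduct, Fin.sum_univ_five, hv]
    rw [e2]
    exact zmod2_add_add_self _ _

theorem isAff_mul {g h : Equiv.Perm GolayPt} (hg : IsAff g) (hh : IsAff h)
    (hI : Inv h notOctA) : IsAff (g * h) ∧ czMat (g * h) = czMat g * czMat h := by
  have key : ∀ p, notOctA.testBit (idx p) = true →
      czVec ((g * h) p) = Matrix.mulVec (czMat g * czMat h) (czVec p) := by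
    intro p hp
    rw [Equiv.Perm.mul_apply, hg (h p) (by rw [hI p]; exact hp), hh p hp, Matrix.mulVec_mulVec]
  have e := czMat_eq_of_aff key
  exact ⟨fun p hp => by rw [e]; exact key p hp, e⟩

theorem czMat_tab {t tinv : List ℕ} (h : tabOk t tinv = true) :
    czMat (tabPerm t tinv) = czMatN t := by
  ext i j
  simp only [czMat, czMatN, czMatE, Matrix.of_apply, czVec]
  rw [idx_tabPerm h, idx_tabPerm h, idx_pt (czB_lt j), idx_pt (by norm_num : 5 < 24)]

theorem isAff_tab {t tinv : List ℕ} (h : tabOk t tinv = true) (ha : affOk t = true) :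
    IsAff (tabPerm t tinv) := by
  intro p hp
  rw [czMat_tab h]
  have := (List.all_eq_true.mp ha) (idx p) (List.mem_range.mpr (idx_lt p))
  rw [hp] at this
  simp only [Bool.not_true, Bool.false_or, decide_eq_true_eq] at this
  funext k
  rw [czVec, idx_tabPerm h, this k]
  simp [Matrix.mulVec, dotProduct, Fin.sum_univ_five, czMatN, czVec]

theorem isAff_of_mem {g : Equiv.Perm GolayPt} (hg : g ∈ czG) : IsAff g := by
  obtain ⟨x1, hx1, x2, hx2, x3, hx3, x4, hx4, rfl⟩ := cz_factor hg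
  have a1 := isAff_tab (sift_mem cz_sift1 hx1).1 (List.all_eq_true.mp cz_aff1 x1 hx1)
  have a2 := isAff_tab (sift_mem cz_sift2 hx2).1 (List.all_eq_true.mp cz_aff2 x2 hx2)
  have a3 := isAff_tab (sift_mem cz_sift3 hx3).1 (List.all_eq_true.mp cz_aff3 x3 hx3)
  have a4 := isAff_tab (sift_mem cz_sift4 hx4).1 (List.all_eq_true.mp cz_aff4 x4 hx4)
  have i2 := inv_of_comm (mem_czC.mp (lev_comm cz_comm2 cz_sift2 hx2))
  have i3 := inv_of_comm (mem_czC.mp (lev_comm cz_comm3 cz_sift3 hx3))
  have i4 := inv_of_comm (mem_czC.mp (lev_comm cz_comm4 cz_sift4 hx4))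
  exact (isAff_mul (isAff_mul (isAff_mul a1 a2 i2).1 a3 i3).1 a4 i4).1

theorem czMat_one : czMat 1 = 1 :=
  czMat_eq_of_aff (fun p _ => by rw [Matrix.one_mulVec]; rfl)

theorem czMat_mul {g h : Equiv.Perm GolayPt} (hg : g ∈ czG) (hh : h ∈ czG) :
    czMat (g * h) = czMat g * czMat h :=
  (isAff_mul (isAff_of_mem hg) (isAff_of_mem hh) (inv_of_comm (mem_czG.mp hh).2)).2

theorem czMat_det {g : Equiv.Perm GolayPt} (hg : g ∈ czG) : (czMat g).det = 1 := by
  have h := czMat_mul hg (czG.inv_mem hg)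
  rw [mul_inv_cancel, czMat_one] at h
  have hd := congrArg Matrix.det h
  rw [Matrix.det_one, Matrix.det_mul] at hd
  have : ∀ a b : ZMod 2, 1 = a * b → a = 1 := by decide
  exact this _ _ hd

/-- the homomorphism to the special linear group. -/
def czHom : ↥czG →* Matrix.SpecialLinearGroup (Fin 5) (ZMod 2) where
  toFun g := ⟨czMat g.1, czMat_det g.2⟩
  map_one' := Subtype.ext czMat_one
  map_mul' g h := Subtype.ext (czMat_mul g.2 h.2)

theorem czHom_coe (g : ↥czG) :
    ((czHom g : Matrix.SpecialLinearGroup (Fin 5) (ZMod 2)) : Matrix (Fin 5) (Fin 5) (ZMod 2)) =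
      czMat g.1 := rfl

theorem czMat_czP : czMat czP = Matrix.transvection 0 1 1 := by
  unfold czP
  rw [czMat_tab czZ_ok]
  ext i j
  rw [czMatN, Matrix.of_apply, czMatE_z]
  fin_cases i <;> fin_cases j <;> simp [Matrix.transvection, Matrix.one_apply, Matrix.single_apply]

theorem czP_mem_czG : czP ∈ czG := mem_czG.mpr ⟨czP_mem, rfl⟩

theorem czHom_injective : Function.Injective czHom := by
  rw [injective_iff_map_eq_one]
  intro g hg
  have h1 : czMat g.1 = 1 := congrArg Subtype.val hg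
  have hA := isAff_of_mem g.2
  have hI := inv_of_comm (mem_czG.mp g.2).2
  have hfix : ∀ p, notOctA.testBit (idx p) = true → g.1 p = p := by
    intro p hp
    have := hA p hp
    rw [h1, Matrix.one_mulVec] at this
    apply idx_injective
    apply czBit_inj _ (List.mem_range.mpr (idx_lt _)) _ (List.mem_range.mpr (idx_lt _))
      (by rw [hI p]; exact hp) hp
    intro k
    exact congrFun this k
  apply Subtype.ext
  apply cz_rigid (mem_czG.mp g.2).1
  intro i hi
  apply hfix
  simp only [List.mem_cons, List.not_mem_nil, or_false] at hi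
  rcases hi with rfl | rfl | rfl | rfl | rfl | rfl | rfl | rfl <;> decide

/-! ### The order -/

theorem cz_level {G : Subgroup (Equiv.Perm GolayPt)} {S : ℕ} {F : List ℕ} {b : ℕ}
    {T : List (List ℕ × List ℕ × List ℕ)} (hs : siftOk S F b T = true)
    (hG : ∀ g ∈ stabG S F, g ∈ czC → g ∈ G) (hc : T.all (fun x => commOk x.1) = true)
    (hnd : (T.map (fun x => x.1.getD b 0)).Nodup) :
    T.length * Nat.card ↥(G ⊓ MulAction.stabilizer (Equiv.Perm GolayPt) (pt b)) ≤ Nat.card ↥G := by
  have hb : b < 24 := by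
    simp only [siftOk, Bool.and_eq_true, decide_eq_true_eq] at hs
    exact hs.1.1.1.1.1
  have hlen : T.length = ((T.map (fun x => x.1.getD b 0)).map pt).length := by simp
  rw [hlen]
  apply card_ge_of_transversal
  · apply List.Nodup.map_on _ hnd
    intro x hx y hy hxy
    rw [List.mem_map] at hx hy
    obtain ⟨x', hx', rfl⟩ := hx
    obtain ⟨y', hy', rfl⟩ := hy
    have h1 := (tabOk_spec (sift_mem hs hx').1 hb).1
    have h2 := (tabOk_spec (sift_mem hs hy').1 hb).1
    rw [← idx_pt h1, ← idx_pt h2, hxy]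
  · intro q hq
    rw [List.mem_map] at hq
    obtain ⟨a, ha, rfl⟩ := hq
    rw [List.mem_map] at ha
    obtain ⟨x, hx, rfl⟩ := ha
    refine ⟨tabPerm x.1 x.2.1, hG _ (sift_mem hs hx).2 (lev_comm hc hs hx), ?_⟩
    apply idx_injective
    rw [idx_tabPerm (sift_mem hs hx).1, idx_pt hb, idx_pt (tabOk_spec (sift_mem hs hx).1 hb).1]

theorem cz_card_ge : 21504 ≤ Nat.card ↥czG := by
  have l1 := cz_level (G := czG) cz_sift1
    (fun g hg hc => Subgroup.mem_inf.mpr ⟨(mem_stabG.mp hg).1, hc⟩) cz_comm1 czlev1_nodup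
  have l2 := cz_level (G := czG ⊓ MulAction.stabilizer (Equiv.Perm GolayPt) (pt 5)) cz_sift2
    (fun g hg hc => Subgroup.mem_inf.mpr ⟨Subgroup.mem_inf.mpr ⟨(mem_stabG.mp hg).1, hc⟩,
      MulAction.mem_stabilizer_iff.mpr ((mem_stabG.mp hg).2.2 5 (by simp))⟩) cz_comm2 czlev2_nodup
  have l3 := cz_level (G := czG ⊓ MulAction.stabilizer (Equiv.Perm GolayPt) (pt 5) ⊓
      MulAction.stabilizer (Equiv.Perm GolayPt) (pt 22)) cz_sift3
    (fun g hg hc => Subgroup.mem_inf.mpr ⟨Subgroup.mem_inf.mpr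
      ⟨Subgroup.mem_inf.mpr ⟨(mem_stabG.mp hg).1, hc⟩,
      MulAction.mem_stabilizer_iff.mpr ((mem_stabG.mp hg).2.2 5 (by simp))⟩,
      MulAction.mem_stabilizer_iff.mpr ((mem_stabG.mp hg).2.2 22 (by simp))⟩) cz_comm3 czlev3_nodup
  have l4 := cz_level (G := czG ⊓ MulAction.stabilizer (Equiv.Perm GolayPt) (pt 5) ⊓
      MulAction.stabilizer (Equiv.Perm GolayPt) (pt 22) ⊓
      MulAction.stabilizer (Equiv.Perm GolayPt) (pt 14)) cz_sift4
    (fun g hg hc => Subgroup.mem_inf.mpr ⟨Subgroup.mem_inf.mpr ⟨Subgroup.mem_inf.mpr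
      ⟨Subgroup.mem_inf.mpr ⟨(mem_stabG.mp hg).1, hc⟩,
      MulAction.mem_stabilizer_iff.mpr ((mem_stabG.mp hg).2.2 5 (by simp))⟩,
      MulAction.mem_stabilizer_iff.mpr ((mem_stabG.mp hg).2.2 22 (by simp))⟩,
      MulAction.mem_stabilizer_iff.mpr ((mem_stabG.mp hg).2.2 14 (by simp))⟩) cz_comm4 czlev4_nodup
  rw [czlev1_length] at l1
  rw [czlev2_length] at l2
  rw [czlev3_length] at l3
  rw [czlev4_length] at l4
  have pos : 0 < Nat.card ↥(czG ⊓ MulAction.stabilizer (Equiv.Perm GolayPt) (pt 5) ⊓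
      MulAction.stabilizer (Equiv.Perm GolayPt) (pt 22) ⊓
      MulAction.stabilizer (Equiv.Perm GolayPt) (pt 14) ⊓
      MulAction.stabilizer (Equiv.Perm GolayPt) (pt 23)) := Nat.card_pos
  omega

end Cfsg.Agent.Lib.Helper93
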