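import Cfsg.Agent.Lib.Helper93.Cz
import Cfsg.Agent.Lib.Helper93.CzConjData
import Cfsg.Agent.Lib.Helper35.OctadSplit
import Cfsg.Agent.S0367

/-!
The involutions of `M24` whose fixed points form an octad are all conjugate (to the involution
`czP`), and a second such involution `czP2` commuting with `czP`.
-/

set_option autoImplicit false

namespace Cfsg.Agent.Lib.Helper93

open Cfsg Cfsg.Agent.Lib.Helper10 Cfsg.Agent.Lib.Helper35
open scoped Pointwise

/-- the second involution. -/
def czP2 : Equiv.Perm GolayPt := tabPerm czZ2 czZ2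

theorem czP2_mem : czP2 ∈ M24 := tabPerm_mem_M24 _ _ czZ2img czZ2_ok czZ2_img

theorem idx_czP2 (p : GolayPt) : idx (czP2 p) = czZ2.getD (idx p) 0 := idx_tabPerm czZ2_ok p

theorem czP2_mem_czG : czP2 ∈ czG := mem_czG.mpr ⟨czP2_mem, comm_tab czZ2_ok czZ2_comm⟩

theorem czMat_czP2 : czMat czP2 = Matrix.transvection 2 1 1 := by
  unfold czP2
  rw [czMat_tab czZ2_ok]
  ext i j
  rw [czMatN, Matrix.of_apply, czMatE_z2]
  fin_cases i <;> fin_cases j <;> simp [Matrix.transvection, Matrix.one_apply, Matrix.single_apply]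

theorem czP2_ne : czP2 ≠ czP := by
  intro h
  have := congrArg (fun g : Equiv.Perm GolayPt => idx (g (pt 5))) h
  simp only [idx_czP2, idx_czP, idx_pt (by norm_num : 5 < 24)] at this
  revert this
  decide

/-- the octad `octA`, as a set of points. -/
theorem fs_octA_mem : fs octA ∈ octads :=
  fs_mem_octads (by decide) (by decide +kernel) (by decide +kernel)

theorem mem_fs_octA_iff (p : GolayPt) : p ∈ fs octA ↔ ¬ notOctA.testBit (idx p) = true := by
  rw [mem_fs, octA_notOctA (idx p) (List.mem_range.mpr (idx_lt p))]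
  cases notOctA.testBit (idx p) <;> simp

theorem czP_mem_octFix : czP ∈ octFix (fs octA) := by
  rw [mem_octFix]
  refine ⟨czP_mem, ?_⟩
  intro y hy
  rw [mem_fs_octA_iff, czP_fix_iff] at hy
  exact not_not.mp hy

theorem czP2_mem_octFix : czP2 ∈ octFix (fs octA) := by
  rw [mem_octFix]
  refine ⟨czP2_mem, ?_⟩
  intro y hy
  rw [mem_fs] at hy
  apply idx_injective
  rw [idx_czP2]
  exact czZ2_fixO (idx y) (List.mem_range.mpr (idx_lt y)) hy

theorem pt5_not_mem : pt 5 ∉ fs octA := by
  rw [mem_fs, idx_pt (by norm_num : 5 < 24)]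
  decide

theorem czP_pt5 : czP (pt 5) = pt 15 := by
  apply idx_injective
  rw [idx_czP, idx_pt (by norm_num : 5 < 24), idx_pt (by norm_num : 15 < 24)]
  decide

/-- the involutions fixing exactly the points of an octad are conjugate to `czP`. -/
theorem exists_conj_czP (z : Equiv.Perm GolayPt) (hzM : z ∈ M24) (hz1 : z ≠ 1)
    (hF : Finset.univ.filter (fun p => z p = p) ∈ octads) :
    ∃ h ∈ M24, h * z * h⁻¹ = czP := by
  set F := Finset.univ.filter (fun p => z p = p) with hFdef
  obtain ⟨⟨a, haM⟩, ha⟩ := Cfsg.Agent.S0367.result F (fs octA) hF fs_octA_mem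
  have ha' : a • F = fs octA := ha
  have hzF : z ∈ octFix F := by
    rw [mem_octFix]
    refine ⟨hzM, ?_⟩
    intro y hy
    exact (Finset.mem_filter.mp hy).2
  have hz1O : a * z * a⁻¹ ∈ octFix (fs octA) := by
    rw [← ha']
    exact conj_mem_octFix haM hzF
  set z1 := a * z * a⁻¹ with hz1def
  have hz1ne : z1 ≠ 1 := by
    intro h
    apply hz1
    have : z = a⁻¹ * z1 * a := by rw [hz1def]; group
    rw [this, h]
    group
  -- the image of the point `5`
  set q := z1 (pt 5) with hqdef
  have hq5 : q ≠ pt 5 := fun h => hz1ne (octFix_free fs_octA_mem hz1O pt5_not_mem h)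
  have hqO : q ∉ fs octA := by
    intro hq
    have h1 : z1 q = q := ((mem_octFix _ _).mp hz1O).2 q hq
    have h2 : z1 q = z1 (pt 5) := h1.trans hqdef
    exact hq5 (z1.injective h2)
  have hqn : notOctA.testBit (idx q) = true := by
    by_contra hcon
    exact hqO ((mem_fs_octA_iff q).mpr hcon)
  have hq5' : idx q ≠ 5 := by
    intro h
    apply hq5
    rw [← pt_idx q, h]
  obtain ⟨x, hx, hxq⟩ := czConj_keys (idx q) (List.mem_range.mpr (idx_lt q)) hqn hq5'
  have hok := (List.all_eq_true.mp czConj_ok) x hx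
  simp only [conjOk, Bool.and_eq_true, beq_iff_eq, List.all_eq_true, List.mem_range,
    Bool.or_eq_true, Bool.not_eq_true'] at hok
  obtain ⟨⟨⟨⟨ht, himg⟩, h55⟩, hq15⟩, hinv⟩ := hok
  set hh := tabPerm x.2.1 x.2.2.1 with hhdef
  have hhM : hh ∈ M24 := tabPerm_mem_M24 _ _ _ ht himg
  have hh5 : hh (pt 5) = pt 5 := by
    apply idx_injective
    rw [idx_tabPerm ht, idx_pt (by norm_num : 5 < 24), h55]
  have hhq : hh q = pt 15 := by
    apply idx_injective
    rw [idx_tabPerm ht, ← hxq, hq15, idx_pt (by norm_num : 15 < 24)]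
  have hhO : hh • fs octA = fs octA := by
    apply Finset.eq_of_subset_of_card_le
    · intro y hy
      obtain ⟨y', hy', rfl⟩ := Finset.mem_smul_finset.mp hy
      rw [mem_fs] at hy' ⊢
      show octA.testBit (idx (hh y')) = true
      rw [idx_tabPerm ht]
      rcases hinv (idx y') (idx_lt y') with h | h
      · rw [hy'] at h; exact absurd h (by simp)
      · exact h
    · rw [Finset.card_smul_finset]
  have hz2O : hh * z1 * hh⁻¹ ∈ octFix (fs octA) := by
    have := conj_mem_octFix hhM hz1O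
    rwa [hhO] at this
  have hz2 : (hh * z1 * hh⁻¹) (pt 5) = pt 15 := by
    have e : hh⁻¹ (pt 5) = pt 5 := by
      rw [Equiv.Perm.inv_eq_iff_eq]; exact hh5.symm
    rw [Equiv.Perm.mul_apply, Equiv.Perm.mul_apply, e, ← hqdef, hhq]
  have hfin : czP⁻¹ * (hh * z1 * hh⁻¹) = 1 := by
    apply octFix_free fs_octA_mem ((octFix (fs octA)).mul_mem
      ((octFix (fs octA)).inv_mem czP_mem_octFix) hz2O) pt5_not_mem
    rw [Equiv.Perm.mul_apply, hz2, Equiv.Perm.inv_eq_iff_eq, czP_pt5]
  refine ⟨hh * a, M24.mul_mem hhM haM, ?_⟩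
  have : hh * a * z * (hh * a)⁻¹ = hh * z1 * hh⁻¹ := by rw [hz1def]; group
  rw [this]
  exact (inv_mul_eq_one.mp hfin).symm

end Cfsg.Agent.Lib.Helper93
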