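import Mathlib

/-!
The centraliser of the transvection `1 + E₀₁` in `SL(5, 𝔽₂)` has at most `16 · 8 · 168 = 21504`
elements: its matrices have first column `e₀` and second row `e₁`, and their lower right `3 × 3`
block is multiplicative, hence invertible.
-/

set_option autoImplicit false

namespace Cfsg.Agent.Lib.Helper93

open Matrix

/-- the entries forced by commuting with the transvection. -/
theorem tvc_entries {g : Matrix (Fin 5) (Fin 5) (ZMod 2)}
    (h : transvection 0 1 1 * g = g * transvection 0 1 1) :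
    (∀ j, j ≠ 1 → g 1 j = 0) ∧ (∀ i, i ≠ 0 → g i 0 = 0) ∧ g 1 1 = g 0 0 := by
  have h' : single 0 1 (1 : ZMod 2) * g = g * single 0 1 1 := by
    simp only [transvection, add_mul, mul_add, one_mul, mul_one] at h
    exact add_left_cancel h
  refine ⟨?_, ?_, ?_⟩
  · intro j hj
    have := Matrix.ext_iff.mpr h' 0 j
    rw [single_mul_apply_same, mul_single_apply_of_ne _ _ _ _ _ hj] at this
    simpa using this
  · intro i hi
    have := Matrix.ext_iff.mpr h' i 1
    rw [single_mul_apply_of_ne _ _ _ _ _ hi, mul_single_apply_same] at this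
    simpa using this.symm
  · have := Matrix.ext_iff.mpr h' 0 1
    rw [single_mul_apply_same, mul_single_apply_same] at this
    simpa using this

/-- the shape of the matrices of the centraliser. -/
structure TvcShape (g : Matrix (Fin 5) (Fin 5) (ZMod 2)) : Prop where
  r10 : g 1 0 = 0
  r12 : g 1 2 = 0
  r13 : g 1 3 = 0
  r14 : g 1 4 = 0
  c20 : g 2 0 = 0
  c30 : g 3 0 = 0
  c40 : g 4 0 = 0
  d00 : g 0 0 = 1
  d11 : g 1 1 = 1

theorem tvcShape_of_comm {g : Matrix (Fin 5) (Fin 5) (ZMod 2)} (hd : g.det = 1)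
    (h : transvection 0 1 1 * g = g * transvection 0 1 1) : TvcShape g := by
  obtain ⟨h1, h2, h3⟩ := tvc_entries h
  have h00 : g 0 0 = 1 := by
    by_contra hne
    have h0 : g 0 0 = 0 := by
      have : ∀ a : ZMod 2, a ≠ 1 → a = 0 := by decide
      exact this _ hne
    have : g.det = 0 := by
      apply det_eq_zero_of_column_eq_zero 0
      intro i
      by_cases hi : i = 0
      · rw [hi]; exact h0
      · exact h2 i hi
    rw [this] at hd
    exact zero_ne_one hd
  exact ⟨h1 0 (by decide), h1 2 (by decide), h1 3 (by decide), h1 4 (by decide),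
    h2 2 (by decide), h2 3 (by decide), h2 4 (by decide), h00, h3.trans h00⟩

/-- the lower right block. -/
def tvcBlk (g : Matrix (Fin 5) (Fin 5) (ZMod 2)) : Matrix (Fin 3) (Fin 3) (ZMod 2) :=
  Matrix.of fun i j => g ⟨i.1 + 2, by omega⟩ ⟨j.1 + 2, by omega⟩

theorem tvcBlk_one : tvcBlk 1 = 1 := by
  ext i j
  fin_cases i <;> fin_cases j <;> simp [tvcBlk, Matrix.one_apply]

theorem tvcBlk_mul {g h : Matrix (Fin 5) (Fin 5) (ZMod 2)} (hg : TvcShape g) (hh : TvcShape h) :
    tvcBlk (g * h) = tvcBlk g * tvcBlk h := by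
  ext i j
  fin_cases i <;> fin_cases j <;>
    simp [tvcBlk, Matrix.mul_apply, Fin.sum_univ_five, Fin.sum_univ_three, hg.c20, hg.c30, hg.c40,
      hh.r12, hh.r13, hh.r14]

/-- a matrix of the given shape is determined by its first row, second column and block. -/
theorem tvcShape_ext {g h : Matrix (Fin 5) (Fin 5) (ZMod 2)} (hg : TvcShape g) (hh : TvcShape h)
    (h01 : g 0 1 = h 0 1) (h02 : g 0 2 = h 0 2) (h03 : g 0 3 = h 0 3) (h04 : g 0 4 = h 0 4)
    (h21 : g 2 1 = h 2 1) (h31 : g 3 1 = h 3 1) (h41 : g 4 1 = h 4 1)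
    (hb : tvcBlk g = tvcBlk h) : g = h := by
  have b : ∀ i j : Fin 3, g ⟨i.1 + 2, by omega⟩ ⟨j.1 + 2, by omega⟩ =
      h ⟨i.1 + 2, by omega⟩ ⟨j.1 + 2, by omega⟩ := fun i j => Matrix.ext_iff.mpr hb i j
  ext i j
  fin_cases i <;> fin_cases j
  · exact hg.d00.trans hh.d00.symm
  · exact h01
  · exact h02
  · exact h03
  · exact h04
  · exact hg.r10.trans hh.r10.symm
  · exact hg.d11.trans hh.d11.symm
  · exact hg.r12.trans hh.r12.symm
  · exact hg.r13.trans hh.r13.symm
  · exact hg.r14.trans hh.r14.symm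
  · exact hg.c20.trans hh.c20.symm
  · exact h21
  · exact b 0 0
  · exact b 0 1
  · exact b 0 2
  · exact hg.c30.trans hh.c30.symm
  · exact h31
  · exact b 1 0
  · exact b 1 1
  · exact b 1 2
  · exact hg.c40.trans hh.c40.symm
  · exact h41
  · exact b 2 0
  · exact b 2 1
  · exact b 2 2

section group

variable (s : Matrix.SpecialLinearGroup (Fin 5) (ZMod 2))
  (hs : (s : Matrix (Fin 5) (Fin 5) (ZMod 2)) = Matrix.transvection 0 1 1)

include hs

theorem tvcShape_of_mem {g : Matrix.SpecialLinearGroup (Fin 5) (ZMod 2)}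
    (hg : g ∈ Subgroup.centralizer ({s} : Set (Matrix.SpecialLinearGroup (Fin 5) (ZMod 2)))) :
    TvcShape (g : Matrix (Fin 5) (Fin 5) (ZMod 2)) := by
  apply tvcShape_of_comm g.2
  have h := Subgroup.mem_centralizer_iff.mp hg s rfl
  have h2 := congrArg (fun x : Matrix.SpecialLinearGroup (Fin 5) (ZMod 2) =>
    (x : Matrix (Fin 5) (Fin 5) (ZMod 2))) h
  simp only [Matrix.SpecialLinearGroup.coe_mul, hs] at h2
  exact h2

/-- the block, as a homomorphism to the matrices. -/
def tvcBlkHom : ↥(Subgroup.centralizer ({s} : Set (Matrix.SpecialLinearGroup (Fin 5) (ZMod 2)))) →*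
    Matrix (Fin 3) (Fin 3) (ZMod 2) where
  toFun g := tvcBlk ((g : Matrix.SpecialLinearGroup (Fin 5) (ZMod 2)) :
    Matrix (Fin 5) (Fin 5) (ZMod 2))
  map_one' := by
    simp only [Subgroup.coe_one, Matrix.SpecialLinearGroup.coe_one]
    exact tvcBlk_one
  map_mul' g h := by
    simp only [Subgroup.coe_mul, Matrix.SpecialLinearGroup.coe_mul]
    exact tvcBlk_mul (tvcShape_of_mem s hs g.2) (tvcShape_of_mem s hs h.2)

/-- the centraliser of the transvection has at most `21504` elements. -/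
theorem card_centralizer_transvection_le :
    Nat.card ↥(Subgroup.centralizer ({s} : Set (Matrix.SpecialLinearGroup (Fin 5) (ZMod 2)))) ≤
      21504 := by
  let ι : ↥(Subgroup.centralizer ({s} : Set (Matrix.SpecialLinearGroup (Fin 5) (ZMod 2)))) →
      (Fin 4 → ZMod 2) × (Fin 3 → ZMod 2) × (Matrix (Fin 3) (Fin 3) (ZMod 2))ˣ := fun g =>
    (![(g : Matrix.SpecialLinearGroup (Fin 5) (ZMod 2)) 0 1,
        (g : Matrix.SpecialLinearGroup (Fin 5) (ZMod 2)) 0 2,
        (g : Matrix.SpecialLinearGroup (Fin 5) (ZMod 2)) 0 3,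
        (g : Matrix.SpecialLinearGroup (Fin 5) (ZMod 2)) 0 4],
      ![(g : Matrix.SpecialLinearGroup (Fin 5) (ZMod 2)) 2 1,
        (g : Matrix.SpecialLinearGroup (Fin 5) (ZMod 2)) 3 1,
        (g : Matrix.SpecialLinearGroup (Fin 5) (ZMod 2)) 4 1],
      (tvcBlkHom s hs).toHomUnits g)
  have hι : Function.Injective ι := by
    intro g h hgh
    simp only [ι, Prod.mk.injEq] at hgh
    obtain ⟨h1, h2, h3⟩ := hgh
    apply Subtype.ext
    apply Subtype.ext
    have e3 : tvcBlk ((g : Matrix.SpecialLinearGroup (Fin 5) (ZMod 2)) :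
        Matrix (Fin 5) (Fin 5) (ZMod 2)) = tvcBlk ((h : Matrix.SpecialLinearGroup (Fin 5) (ZMod 2)) :
        Matrix (Fin 5) (Fin 5) (ZMod 2)) := by
      have := congrArg (fun u : (Matrix (Fin 3) (Fin 3) (ZMod 2))ˣ =>
        (u : Matrix (Fin 3) (Fin 3) (ZMod 2))) h3
      simpa [tvcBlkHom] using this
    exact tvcShape_ext (tvcShape_of_mem s hs g.2) (tvcShape_of_mem s hs h.2)
      (by simpa using congrFun h1 0) (by simpa using congrFun h1 1) (by simpa using congrFun h1 2)
      (by simpa using congrFun h1 3) (by simpa using congrFun h2 0) (by simpa using congrFun h2 1)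
      (by simpa using congrFun h2 2) e3
  have hle := Nat.card_le_card_of_injective ι hι
  have hGL : Nat.card (Matrix (Fin 3) (Fin 3) (ZMod 2))ˣ = 168 := by
    have := Matrix.card_GL_field (𝔽 := ZMod 2) (n := 3)
    rw [this, ZMod.card, Fin.prod_univ_three]
    norm_num
  rw [Nat.card_prod, Nat.card_prod, Nat.card_fun, Nat.card_fun, hGL, Nat.card_zmod] at hle
  simpa using hle

end group

end Cfsg.Agent.Lib.Helper93
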