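import Cfsg.Agent.Lib.Helper93.CzConj
import Cfsg.Agent.Lib.Helper93.SL5Cent
import Cfsg.Agent.Lib.Helper93.TvcMat

/-!
The centraliser in `M24` of an involution fixing exactly the points of an octad has the structure
`2^{1+6} : SL(3, 2)`, by the isomorphism with the centraliser of a transvection in `SL(5, 2)`.
-/

set_option autoImplicit false

namespace Cfsg.Agent.Lib.Helper93

open Cfsg Cfsg.Agent.Lib.Helper10

/-- the transvection. -/
def czS : Matrix.SpecialLinearGroup (Fin 5) (ZMod 2) :=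
  ⟨Matrix.transvection 0 1 1, Matrix.det_transvection_of_ne 0 1 (by decide) 1⟩

theorem czS_coe : (czS : Matrix (Fin 5) (Fin 5) (ZMod 2)) = Matrix.transvection 0 1 1 := rfl

theorem czHom_mem (g : ↥czG) : czHom g ∈ Subgroup.centralizer
    ({czS} : Set (Matrix.SpecialLinearGroup (Fin 5) (ZMod 2))) := by
  have hsz : czS = czHom ⟨czP, czP_mem_czG⟩ := by
    apply Subtype.ext
    rw [czS_coe, czHom_coe, czMat_czP]
  rw [Subgroup.mem_centralizer_iff]
  intro h hh
  rw [Set.mem_singleton_iff] at hh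
  rw [hh, hsz, ← map_mul, ← map_mul]
  congr 1
  apply Subtype.ext
  exact (mem_czG.mp g.2).2

/-- the isomorphism of the centraliser of `czP` with the centraliser of the transvection. -/
noncomputable def czEquiv : ↥czG ≃* ↥(Subgroup.centralizer
    ({czS} : Set (Matrix.SpecialLinearGroup (Fin 5) (ZMod 2)))) :=
  MulEquiv.ofBijective (czHom.codRestrict _ czHom_mem) (by
    have hinj : Function.Injective (czHom.codRestrict (Subgroup.centralizer
        ({czS} : Set (Matrix.SpecialLinearGroup (Fin 5) (ZMod 2)))) czHom_mem) := by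
      intro a b hab
      apply czHom_injective
      exact congrArg Subtype.val hab
    apply hinj.bijective_of_nat_card_le
    exact (card_centralizer_transvection_le czS czS_coe).trans cz_card_ge)

theorem czEquiv_coe (g : ↥czG) : (((czEquiv g : ↥(Subgroup.centralizer
    ({czS} : Set (Matrix.SpecialLinearGroup (Fin 5) (ZMod 2))))) :
    Matrix.SpecialLinearGroup (Fin 5) (ZMod 2)) : Matrix (Fin 5) (Fin 5) (ZMod 2)) = czMat g.1 :=
  rfl

section conj

variable (z : ↥M24) (h : Equiv.Perm GolayPt) (hhM : h ∈ M24)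
  (hconj : h * (z : Equiv.Perm GolayPt) * h⁻¹ = czP)

include hhM hconj in
theorem conj_mem_czG (y : ↥(Subgroup.centralizer ({z} : Set ↥M24))) :
    h * ((y : ↥M24) : Equiv.Perm GolayPt) * h⁻¹ ∈ czG := by
  rw [mem_czG]
  refine ⟨M24.mul_mem (M24.mul_mem hhM (y : ↥M24).2) (M24.inv_mem hhM), ?_⟩
  have hy : ((y : ↥M24) : Equiv.Perm GolayPt) * (z : Equiv.Perm GolayPt) =
      (z : Equiv.Perm GolayPt) * ((y : ↥M24) : Equiv.Perm GolayPt) := by
    have := Subgroup.mem_centralizer_iff.mp y.2 z rfl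
    have h2 := congrArg (fun t : ↥M24 => (t : Equiv.Perm GolayPt)) this
    simpa using h2.symm
  rw [← hconj]
  calc h * (z : Equiv.Perm GolayPt) * h⁻¹ * (h * ((y : ↥M24) : Equiv.Perm GolayPt) * h⁻¹)
      = h * ((z : Equiv.Perm GolayPt) * ((y : ↥M24) : Equiv.Perm GolayPt)) * h⁻¹ := by group
    _ = h * (((y : ↥M24) : Equiv.Perm GolayPt) * (z : Equiv.Perm GolayPt)) * h⁻¹ := by rw [hy]
    _ = h * ((y : ↥M24) : Equiv.Perm GolayPt) * h⁻¹ * (h * (z : Equiv.Perm GolayPt) * h⁻¹) := by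
      group

/-- conjugation by `h`, from the centraliser of `z` to the centraliser of `czP`. -/
def czConjEquiv : ↥(Subgroup.centralizer ({z} : Set ↥M24)) ≃* ↥czG where
  toFun y := ⟨h * ((y : ↥M24) : Equiv.Perm GolayPt) * h⁻¹, conj_mem_czG z h hhM hconj y⟩
  invFun w := ⟨⟨h⁻¹ * (w : Equiv.Perm GolayPt) * h,
      M24.mul_mem (M24.mul_mem (M24.inv_mem hhM) (mem_czG.mp w.2).1) hhM⟩, by
    rw [Subgroup.mem_centralizer_iff]
    intro x hx
    rw [Set.mem_singleton_iff] at hx
    subst hx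
    apply Subtype.ext
    show (x : Equiv.Perm GolayPt) * (h⁻¹ * (w : Equiv.Perm GolayPt) * h) =
      h⁻¹ * (w : Equiv.Perm GolayPt) * h * (x : Equiv.Perm GolayPt)
    have hw := (mem_czG.mp w.2).2
    rw [← hconj] at hw
    have e1 : (x : Equiv.Perm GolayPt) * (h⁻¹ * (w : Equiv.Perm GolayPt) * h) =
        h⁻¹ * (h * (x : Equiv.Perm GolayPt) * h⁻¹ * (w : Equiv.Perm GolayPt)) * h := by group
    have e2 : h⁻¹ * (w : Equiv.Perm GolayPt) * h * (x : Equiv.Perm GolayPt) =
        h⁻¹ * ((w : Equiv.Perm GolayPt) * (h * (x : Equiv.Perm GolayPt) * h⁻¹)) * h := by group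
    rw [e1, e2, hw]⟩
  left_inv y := by
    apply Subtype.ext
    apply Subtype.ext
    show h⁻¹ * (h * ((y : ↥M24) : Equiv.Perm GolayPt) * h⁻¹) * h = _
    group
  right_inv w := by
    apply Subtype.ext
    show h * (h⁻¹ * (w : Equiv.Perm GolayPt) * h) * h⁻¹ = _
    group
  map_mul' y y' := by
    apply Subtype.ext
    show h * (((y * y' : ↥(Subgroup.centralizer ({z} : Set ↥M24))) : ↥M24) :
      Equiv.Perm GolayPt) * h⁻¹ = h * ((y : ↥M24) : Equiv.Perm GolayPt) * h⁻¹ *
        (h * ((y' : ↥M24) : Equiv.Perm GolayPt) * h⁻¹)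
    rw [Subgroup.coe_mul, Subgroup.coe_mul]
    group

theorem czConjEquiv_coe (y : ↥(Subgroup.centralizer ({z} : Set ↥M24))) :
    ((czConjEquiv z h hhM hconj y : ↥czG) : Equiv.Perm GolayPt) =
      h * ((y : ↥M24) : Equiv.Perm GolayPt) * h⁻¹ := rfl

/-- the structure of the centraliser of `z`. -/
noncomputable def czTvcData : TvcData 3 ↥(Subgroup.centralizer ({z} : Set ↥M24)) :=
  (tvcDataMat (n := 3) czS czS_coe).congr ((czConjEquiv z h hhM hconj).trans czEquiv).symm

theorem czTvcData_blk (y : ↥(Subgroup.centralizer ({z} : Set ↥M24))) :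
    (((czTvcData z h hhM hconj).blk y : Matrix.SpecialLinearGroup (Fin 3) (ZMod 2)) :
      Matrix (Fin 3) (Fin 3) (ZMod 2)) =
      tvcSub (n := 3) (czMat (h * ((y : ↥M24) : Equiv.Perm GolayPt) * h⁻¹)) := rfl

end conj

end Cfsg.Agent.Lib.Helper93
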