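import Cfsg.Agent.Lib.Helper93.M12Data
import Cfsg.Agent.Lib.Helper10.Dodecad
import Cfsg.Agent.Lib.Helper10.Conj

/-!
Moving an arbitrary dodecad and one of its points to the dodecad of squares and the residue `0` by
an element of `Cfsg.M24`; the resulting isomorphisms with `Cfsg.Spor.M11`.
-/

set_option autoImplicit false

namespace Cfsg.Agent.Lib.Helper93

open Cfsg Cfsg.Agent.Lib.Helper10 MulAction
open scoped Pointwise

theorem sq_eq_fs : Spor.squareDodecad = fs d0 := by
  rw [squareDodecad_eq, support₂_vec]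
  rfl

/-- every dodecad with a point is the image of the dodecad of squares with the residue `0`. -/
theorem exists_conj_sq {d : Finset GolayPt} (hd : d ∈ dodecads) {p : GolayPt} (hp : p ∈ d) :
    ∃ c ∈ M24, c • Spor.squareDodecad = d ∧ c (some 0) = p := by
  obtain ⟨g, hg, hgd⟩ := exists_smul_d0_eq hd
  have hgM : g ∈ M24 := H_le_M24 hg
  rw [← sq_eq_fs] at hgd
  have hq : g⁻¹ p ∈ Spor.squareDodecad := by
    have : g⁻¹ • p ∈ g⁻¹ • d := Finset.smul_mem_smul_finset hp
    rw [← hgd, inv_smul_smul] at this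
    exact this
  obtain ⟨t, ht, ht0⟩ := m12_trans0 _ hq
  have htM : t ∈ M24 := (Subgroup.mem_inf.mp ht).1
  have htD : t • Spor.squareDodecad = Spor.squareDodecad :=
    mem_stabilizer_iff.mp (Subgroup.mem_inf.mp ht).2
  refine ⟨g * t, M24.mul_mem hgM htM, ?_, ?_⟩
  · rw [mul_smul, htD, hgd]
  · rw [Equiv.Perm.mul_apply, ht0, perm_apply_inv]

theorem mem_map_subtype_stab (d : Finset GolayPt) (p : GolayPt) (x : Equiv.Perm GolayPt) :
    x ∈ (stabilizer ↥M24 d ⊓ stabilizer ↥M24 p).map M24.subtype ↔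
      x ∈ M24 ∧ x • d = d ∧ x p = p := by
  constructor
  · rintro ⟨k, hk, rfl⟩
    exact ⟨k.2, mem_stabilizer_iff.mp hk.1, mem_stabilizer_iff.mp hk.2⟩
  · rintro ⟨h1, h2, h3⟩
    exact ⟨⟨x, h1⟩, ⟨mem_stabilizer_iff.mpr h2, mem_stabilizer_iff.mpr h3⟩, rfl⟩

theorem mem_map_conj_M11 {c : Equiv.Perm GolayPt} (hc : c ∈ M24) (x : Equiv.Perm GolayPt) :
    x ∈ Spor.M11.map (MulAut.conj c).toMonoidHom ↔
      x ∈ M24 ∧ x • (c • Spor.squareDodecad) = c • Spor.squareDodecad ∧
        x (c (some 0)) = c (some 0) := by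
  rw [Subgroup.mem_map_equiv, MulAut.conj_symm_apply]
  unfold Spor.M11 Spor.M12
  rw [Subgroup.mem_inf, Subgroup.mem_inf, mem_stabilizer_iff (a := Spor.squareDodecad),
    mem_stabilizer_iff (a := (some 0 : GolayPt)), conj_mem_M24_iff hc]
  have hD : (c⁻¹ * x * c) • Spor.squareDodecad = Spor.squareDodecad
      ↔ x • (c • Spor.squareDodecad) = c • Spor.squareDodecad := by
    rw [mul_smul, mul_smul, inv_smul_eq_iff]
  have h0 : (c⁻¹ * x * c) • (some 0 : GolayPt) = some 0 ↔ x (c (some 0)) = c (some 0) := by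
    rw [mul_smul, mul_smul, inv_smul_eq_iff]
    rfl
  rw [hD, h0, and_assoc]

/-- the stabiliser of a dodecad and one of its points is isomorphic to `M11`. -/
theorem nonempty_equiv_M11 {d : Finset GolayPt} (hd : d ∈ dodecads) {p : GolayPt} (hp : p ∈ d) :
    Nonempty (↥(stabilizer ↥M24 d ⊓ stabilizer ↥M24 p) ≃* ↥Spor.M11) := by
  obtain ⟨c, hc, hcd, hcp⟩ := exists_conj_sq hd hp
  have heq : (stabilizer ↥M24 d ⊓ stabilizer ↥M24 p).map M24.subtype
      = Spor.M11.map (MulAut.conj c).toMonoidHom := by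
    ext x
    rw [mem_map_subtype_stab, mem_map_conj_M11 hc, hcd, hcp]
  exact ⟨((stabilizer ↥M24 d ⊓ stabilizer ↥M24 p).equivMapOfInjective M24.subtype
    (Subgroup.subtype_injective _)).trans ((MulEquiv.subgroupCongr heq).trans
      (Spor.M11.equivMapOfInjective (MulAut.conj c).toMonoidHom (MulAut.conj c).injective).symm)⟩

/-- an element of `M24` fixing all points of a dodecad is the identity. -/
theorem eq_one_of_fix_dodecad {d : Finset GolayPt} (hd : d ∈ dodecads) {g : Equiv.Perm GolayPt}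
    (hg : g ∈ M24) (hfix : ∀ q ∈ d, g q = q) : g = 1 := by
  have hne : d.Nonempty := by
    have : d.card = 12 := hd.2
    exact Finset.card_pos.mp (by omega)
  obtain ⟨p, hp⟩ := hne
  obtain ⟨c, hc, hcd, _⟩ := exists_conj_sq hd hp
  have hcq : ∀ q, q ∈ Spor.squareDodecad → c q ∈ d := by
    intro q hq
    rw [← hcd]
    exact Finset.smul_mem_smul_finset hq
  have hfix' : ∀ q, q ∈ Spor.squareDodecad → (c⁻¹ * g * c) q = q := by
    intro q hq
    simp only [Equiv.Perm.mul_apply]
    rw [hfix _ (hcq q hq), Equiv.Perm.coe_inv, Equiv.symm_apply_apply]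
  have hy : c⁻¹ * g * c ∈ stabG sqMask [4, 3, 2, 1, 0] := by
    rw [mem_stabG]
    refine ⟨(conj_mem_M24_iff hc g).mpr hg, ?_, ?_⟩
    · apply inv_of_smul_support
      rw [← squareDodecad_eq]
      ext q
      rw [← Finset.inv_smul_mem_iff]
      have e : (c⁻¹ * g * c)⁻¹ • q = (c⁻¹ * g * c)⁻¹ q := rfl
      rw [e]
      constructor
      · intro h
        have := hfix' _ h
        rw [perm_apply_inv] at this
        rw [this]; exact h
      · intro h
        have := hfix' _ h
        have e2 : (c⁻¹ * g * c)⁻¹ q = q := by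
          rw [Equiv.Perm.inv_eq_iff_eq]; exact this.symm
        rw [e2]; exact h
    · intro i hi
      apply hfix'
      rw [mem_sq_iff]
      simp only [List.mem_cons, List.not_mem_nil, or_false] at hi
      rcases hi with rfl | rfl | rfl | rfl | rfl <;> rw [idx_pt (by norm_num)] <;> decide
  have h1 := sq_rigid hy
  have : g = c * (c⁻¹ * g * c) * c⁻¹ := by group
  rw [this, h1]
  group

end Cfsg.Agent.Lib.Helper93
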