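import Mathlib
import Cfsg.Agent.Lib.Helper96.FC91Defs
import Cfsg.Agent.Lib.Helper45.AltFive

/-!
# K-S4291-R5 : `A₅` and `S₅` are rigid

A nontrivial normal subgroup of `A₅` or `S₅` contains `A₅`, hence a Klein four-group, so its Sylow
`2`-subgroups are not cyclic.
-/

set_option autoImplicit false

namespace Cfsg.Agent.Lib.Helper93.FC91

open Cfsg.Agent.Lib.Helper96.FC91

/-- if `A` contains a non-cyclic `2`-subgroup, then not all Sylow `2`-subgroups of `A` are cyclic -/
theorem not_forall_sylow_cyclic_of_le {Q : Type*} [Group Q] (A V : Subgroup Q) (hVA : V ≤ A)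
    (hV : IsPGroup 2 V) (hnc : ¬ IsCyclic V) : ¬ ∀ P : Sylow 2 A, IsCyclic P := by
  intro h
  have hV' : IsPGroup 2 (V.subgroupOf A) := by
    have e := Subgroup.subgroupOfEquivOfLe hVA
    exact hV.of_equiv e.symm
  obtain ⟨P, hP⟩ := hV'.exists_le_sylow
  have : IsCyclic P := h P
  have : IsCyclic (P : Subgroup A) := h P
  have h1 : IsCyclic ((V.subgroupOf A).subgroupOf (P : Subgroup A)) := inferInstance
  have e1 := Subgroup.subgroupOfEquivOfLe hP
  have e2 := Subgroup.subgroupOfEquivOfLe hVA
  apply hnc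
  exact isCyclic_of_surjective (e1.trans e2) (e1.trans e2).surjective

/-- a Klein four subgroup of `A₅` -/
theorem exists_klein_alt5 : ∃ V : Subgroup (alternatingGroup (Fin 5)), IsPGroup 2 V ∧ ¬ IsCyclic V := by
  obtain ⟨P⟩ : Nonempty (Sylow 2 (alternatingGroup (Fin 5))) := inferInstance
  refine ⟨P, P.isPGroup', ?_⟩
  have := Cfsg.Agent.Lib.Helper45.isKleinFour_sylow_two_alt_five P
  exact IsKleinFour.not_isCyclic

theorem rigid_alt5 : Rigid (alternatingGroup (Fin 5)) := by
  refine ⟨?_, ?_⟩
  · rw [Cfsg.Agent.Lib.Helper45.card_alt_five]; norm_num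
  · intro A hA hcyc
    have : IsSimpleGroup (alternatingGroup (Fin 5)) := alternatingGroup.isSimpleGroup (by simp)
    rcases hA.eq_bot_or_eq_top with h | h
    · exact h
    · exfalso
      obtain ⟨V, hV, hnc⟩ := exists_klein_alt5
      exact not_forall_sylow_cyclic_of_le A V (h ▸ le_top) hV hnc hcyc

set_option maxRecDepth 100000 in
theorem perm5_central_eq_one : ∀ a : Equiv.Perm (Fin 5),
    Equiv.swap 0 1 * a = a * Equiv.swap 0 1 → Equiv.swap 1 2 * a = a * Equiv.swap 1 2 →
    Equiv.swap 2 3 * a = a * Equiv.swap 2 3 → Equiv.swap 3 4 * a = a * Equiv.swap 3 4 → a = 1 := by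
  decide

theorem rigid_perm5 : Rigid (Equiv.Perm (Fin 5)) := by
  refine ⟨?_, ?_⟩
  · rw [Nat.card_eq_fintype_card, Fintype.card_perm, Fintype.card_fin]; decide
  · intro A hA hcyc
    by_contra hne
    have : IsSimpleGroup (alternatingGroup (Fin 5)) := alternatingGroup.isSimpleGroup (by simp)
    have := hA
    have hN : (A.subgroupOf (alternatingGroup (Fin 5))).Normal := inferInstance
    rcases hN.eq_bot_or_eq_top with h | h
    · -- `A ⊓ A₅ = ⊥`: `A` is central
      apply hne
      rw [eq_bot_iff]
      intro a ha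
      rw [Subgroup.mem_bot]
      have key : ∀ g : Equiv.Perm (Fin 5), g * a = a * g := by
        intro g
        have h1 : g * a * g⁻¹ * a⁻¹ ∈ A := A.mul_mem (hA.conj_mem a ha g) (A.inv_mem ha)
        have h2 : g * a * g⁻¹ * a⁻¹ ∈ alternatingGroup (Fin 5) := by
          rw [Equiv.Perm.mem_alternatingGroup]
          calc Equiv.Perm.sign (g * a * g⁻¹ * a⁻¹)
              = (Equiv.Perm.sign g * Equiv.Perm.sign g⁻¹) *
                  (Equiv.Perm.sign a * Equiv.Perm.sign a⁻¹) := by
                simp only [map_mul]; ac_rfl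
            _ = 1 := by
                rw [← map_mul, ← map_mul, mul_inv_cancel, mul_inv_cancel, map_one, one_mul]
        have h3 : (⟨g * a * g⁻¹ * a⁻¹, h2⟩ : alternatingGroup (Fin 5)) ∈
            A.subgroupOf (alternatingGroup (Fin 5)) := by
          rw [Subgroup.mem_subgroupOf]; exact h1
        rw [h, Subgroup.mem_bot] at h3
        have h4 : g * a * g⁻¹ * a⁻¹ = 1 := congrArg Subtype.val h3
        calc g * a = (g * a * g⁻¹ * a⁻¹) * (a * g) := by group
          _ = a * g := by rw [h4, one_mul]
      exact perm5_central_eq_one a (key _) (key _) (key _) (key _)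
    · -- `A₅ ≤ A`
      have hle : alternatingGroup (Fin 5) ≤ A := by
        rw [Subgroup.subgroupOf_eq_top] at h; exact h
      obtain ⟨V, hV, hnc⟩ := exists_klein_alt5
      have hV' : IsPGroup 2 (V.map (alternatingGroup (Fin 5)).subtype) := hV.map _
      have e := V.equivMapOfInjective (alternatingGroup (Fin 5)).subtype
        (Subgroup.subtype_injective _)
      have hnc' : ¬ IsCyclic (V.map (alternatingGroup (Fin 5)).subtype) := by
        intro hc
        exact hnc (isCyclic_of_surjective e.symm e.symm.surjective)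
      have hVA : V.map (alternatingGroup (Fin 5)).subtype ≤ A := by
        refine le_trans ?_ hle
        rintro _ ⟨x, -, rfl⟩
        exact x.2
      exact not_forall_sylow_cyclic_of_le A _ hVA hV' hnc' hcyc

end Cfsg.Agent.Lib.Helper93.FC91
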