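import Mathlib
import Cfsg.Agent.Lib.Helper13.MinNormalSolvable
import Cfsg.Agent.S0678

set_option autoImplicit false
set_option linter.unusedSectionVars false

namespace Cfsg.Agent.Lib.Helper93.G42

open Equiv Equiv.Perm MulAction Cfsg.Agent.Lib.Helper13

section Deg7
variable {α : Type*} [Fintype α] [DecidableEq α]

/-- a permutation of order 7 on 7 points is a full cycle -/
lemma full_cycle_of_order7 (hα : Fintype.card α = 7) (c : Perm α) (hc : orderOf c = 7) :
    c.IsCycle ∧ ∀ x, c x ≠ x := by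
  have hcyc : c.IsCycle :=
    isCycle_of_prime_order' (by rw [hc]; norm_num) (by rw [hc, hα]; norm_num)
  refine ⟨hcyc, ?_⟩
  have hs : c.support.card = 7 := by rw [← hcyc.orderOf, hc]
  have : c.support = Finset.univ := Finset.eq_univ_of_card _ (by rw [hs, hα])
  intro x
  have hx : x ∈ c.support := by rw [this]; exact Finset.mem_univ x
  exact mem_support.mp hx

/-- commuting with a full cycle and fixing a point forces the identity -/
lemma eq_one_of_commute_fix {c d : Perm α} (hcyc : c.IsCycle) (hfull : ∀ x, c x ≠ x)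
    (hcd : d * c = c * d) (x0 : α) (hd : d x0 = x0) : d = 1 := by
  ext y
  obtain ⟨i, hi⟩ := hcyc.exists_pow_eq (hfull x0) (hfull y)
  have hcomm : Commute d (c ^ i) := (show Commute d c from hcd).pow_right i
  have : d ((c ^ i) x0) = (c ^ i) (d x0) := by
    have := congrArg (fun f : Perm α => f x0) hcomm.eq
    simpa using this
  rw [← hi, this, hd]
  rfl

lemma exists_pow_of_commute {c d : Perm α} (hcyc : c.IsCycle) (hfull : ∀ x, c x ≠ x)
    (hcd : d * c = c * d) (x0 : α) : ∃ k : ℕ, d = c ^ k := by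
  obtain ⟨k, hk⟩ := hcyc.exists_pow_eq (hfull x0) (hfull (d x0))
  refine ⟨k, ?_⟩
  have h1 : (c ^ k)⁻¹ * d = 1 := by
    apply eq_one_of_commute_fix hcyc hfull _ x0
    · rw [Perm.mul_apply, ← hk]; simp
    · have hc1 : Commute ((c ^ k)⁻¹ * d) c :=
        ((Commute.refl c).pow_left k).inv_left.mul_left (show Commute d c from hcd)
      exact hc1.eq
  calc d = (c ^ k) * ((c ^ k)⁻¹ * d) := by group
    _ = c ^ k := by rw [h1, mul_one]

/-- the stabilizer of a point in the normalizer of a full 7-cycle is semiregular on the other points -/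
lemma eq_one_of_two_fixed {c g : Perm α} (hc7 : orderOf c = 7) (hcyc : c.IsCycle)
    (hfull : ∀ x, c x ≠ x) (k : ℕ) (hk : g * c * g⁻¹ = c ^ k) (x0 y : α) (hg0 : g x0 = x0)
    (hgy : g y = y) (hy : y ≠ x0) : g = 1 := by
  obtain ⟨j, hj⟩ := hcyc.exists_pow_eq (hfull x0) (hfull y)
  have hconj : g * c ^ j * g⁻¹ = c ^ (k * j) := by
    rw [← conj_pow, hk, pow_mul]
  have hginv : g⁻¹ x0 = x0 := by
    rw [Perm.inv_eq_iff_eq]; exact hg0.symm
  have h1 : (c ^ (k * j)) x0 = y := by
    rw [← hconj]
    simp only [Perm.mul_apply]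
    rw [hginv, hj, hgy]
  have h2 : c ^ (k * j) = c ^ j := by
    have he : (c ^ j)⁻¹ * c ^ (k * j) = 1 := by
      apply eq_one_of_commute_fix hcyc hfull _ x0
      · rw [Perm.mul_apply, h1, ← hj]; simp
      · have hc1 : Commute ((c ^ j)⁻¹ * c ^ (k * j)) c :=
          ((Commute.refl c).pow_left j).inv_left.mul_left ((Commute.refl c).pow_left (k * j))
        exact hc1.eq
    calc c ^ (k * j) = c ^ j * ((c ^ j)⁻¹ * c ^ (k * j)) := by group
      _ = c ^ j := by rw [he, mul_one]
  have h3 : k * j ≡ j [MOD 7] := by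
    have := pow_eq_pow_iff_modEq.mp h2
    rwa [hc7] at this
  have hj7 : ¬ 7 ∣ j := by
    intro hd
    apply hy
    have : c ^ j = 1 := by
      rw [← hc7] at hd
      exact orderOf_dvd_iff_pow_eq_one.mp hd
    rw [← hj, this]; rfl
  have hcop : Nat.gcd 7 j = 1 := (Nat.Prime.coprime_iff_not_dvd (by norm_num)).mpr hj7
  have h4 : k ≡ 1 [MOD 7] := by
    apply Nat.ModEq.cancel_right_of_coprime hcop
    simpa using h3
  have h5 : c ^ k = c := by
    have : c ^ k = c ^ 1 := by
      apply pow_eq_pow_iff_modEq.mpr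
      rwa [hc7]
    simpa using this
  have h6 : g * c = c * g := by
    have := hk
    rw [h5] at this
    calc g * c = g * c * g⁻¹ * g := by group
      _ = c * g := by rw [this]
  exact eq_one_of_commute_fix hcyc hfull h6 x0 hg0

/-- a solvable transitive group of degree 7 has a normal subgroup generated by a 7-cycle -/
lemma exists_normal_cycle (hα : Fintype.card α = 7) (H : Subgroup (Perm α))
    [IsPretransitive H α] (hs : Group.IsSolvable H) :
    ∃ c ∈ H, orderOf c = 7 ∧ ∀ g ∈ H, ∃ k : ℕ, g * c * g⁻¹ = c ^ k := by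
  have h7 : Fact (Nat.Prime 7) := ⟨by norm_num⟩
  obtain ⟨a, b, hab⟩ := Fintype.one_lt_card_iff.mp (show 1 < Fintype.card α by rw [hα]; norm_num)
  have hnt : Nontrivial ↥H := by
    obtain ⟨g, hg⟩ := exists_smul_eq ↥H a b
    refine ⟨⟨g, 1, ?_⟩⟩
    intro h
    apply hab
    rw [← hg, h, one_smul]
  obtain ⟨M, hM⟩ := exists_isMinNormal (G := ↥H)
  have hMn : M.Normal := hM.1
  have hprim : IsPreprimitive ↥H α :=
    IsPreprimitive.of_prime_card (by rw [Nat.card_eq_fintype_card, hα]; norm_num)
  have hfp : fixedPoints M α ≠ Set.univ := by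
    intro h
    apply hM.2.1
    rw [eq_bot_iff]
    intro m hm
    rw [Subgroup.mem_bot]
    apply Subtype.ext
    ext x
    have hx : x ∈ fixedPoints M α := by rw [h]; exact Set.mem_univ x
    have := hx ⟨m, hm⟩
    exact this
  have : IsPretransitive M α := IsQuasiPreprimitive.isPretransitive_of_normal hfp
  have hdvd : 7 ∣ Nat.card M := by
    have h1 := index_stabilizer_of_transitive M a
    rw [Nat.card_eq_fintype_card, hα] at h1
    rw [← h1]
    exact Subgroup.index_dvd_card _
  obtain ⟨m, hm⟩ := exists_prime_orderOf_dvd_card' 7 hdvd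
  refine ⟨((m : ↥H) : Perm α), (m : ↥H).2, ?_, ?_⟩
  · rw [Subgroup.orderOf_coe, Subgroup.orderOf_coe, hm]
  · intro g hg
    have hc7 : orderOf ((m : ↥H) : Perm α) = 7 := by
      rw [Subgroup.orderOf_coe, Subgroup.orderOf_coe, hm]
    obtain ⟨hcyc, hfull⟩ := full_cycle_of_order7 hα _ hc7
    have hmem : (⟨g, hg⟩ : ↥H) * (m : ↥H) * (⟨g, hg⟩ : ↥H)⁻¹ ∈ M := hMn.conj_mem _ m.2 _
    have hcomm := hM.mul_comm_of_mem hmem m.2
    have hcomm' : (g * ((m : ↥H) : Perm α) * g⁻¹) * ((m : ↥H) : Perm α)
        = ((m : ↥H) : Perm α) * (g * ((m : ↥H) : Perm α) * g⁻¹) := by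
      have := congrArg (Subtype.val) hcomm
      simpa using this
    exact exists_pow_of_commute hcyc hfull hcomm' a

/-- a solvable transitive group of even permutations of degree 7 of order prime to 5 has order 7 or 21 -/
theorem card_of_solvable (hα : Fintype.card α = 7) (H : Subgroup (Perm α)) [IsPretransitive H α]
    (hs : Group.IsSolvable H) (hA : H ≤ alternatingGroup α) (h5 : ¬ 5 ∣ Nat.card H) :
    Nat.card H = 7 ∨ Nat.card H = 21 := by
  obtain ⟨c, hcH, hc7, hnorm⟩ := exists_normal_cycle hα H hs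
  obtain ⟨hcyc, hfull⟩ := full_cycle_of_order7 hα c hc7
  obtain ⟨x0⟩ : Nonempty α := Fintype.card_pos_iff.mp (by rw [hα]; norm_num)
  set S : Subgroup ↥H := stabilizer ↥H x0 with hS
  have hcard : Nat.card H = 7 * Nat.card S := by
    have h1 := index_stabilizer_of_transitive ↥H x0
    rw [Nat.card_eq_fintype_card, hα] at h1
    rw [← h1, hS]
    exact (Subgroup.index_mul_card _).symm
  have hfix0 : ∀ g : ↥H, g ∈ S → (g : Perm α) x0 = x0 := fun g hg => hg
  have semireg : ∀ g : ↥H, g ∈ S → ∀ y, (g : Perm α) y = y → y ≠ x0 → g = 1 := by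
    intro g hg y hgy hy
    obtain ⟨k, hk⟩ := hnorm (g : Perm α) g.2
    apply Subtype.ext
    exact eq_one_of_two_fixed hc7 hcyc hfull k hk x0 y (hfix0 g hg) hgy hy
  have hy0 : c x0 ≠ x0 := hfull x0
  have hle : Nat.card S ≤ 6 := by
    let f : S → {z : α // z ≠ x0} := fun g => ⟨((g : ↥H) : Perm α) (c x0), by
      intro h
      apply hy0
      have h0 := hfix0 (g : ↥H) g.2
      exact ((g : ↥H) : Perm α).injective (h.trans h0.symm)⟩
    have hf : Function.Injective f := by
      intro g g' hgg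
      have h1 : ((g : ↥H) : Perm α) (c x0) = ((g' : ↥H) : Perm α) (c x0) := congrArg Subtype.val hgg
      have h2 : (g'⁻¹ * g : S) = 1 := by
        apply Subtype.ext
        apply semireg _ (g'⁻¹ * g : S).2 (c x0) _ hy0
        simp only [Subgroup.coe_mul, Subgroup.coe_inv, Perm.mul_apply]
        rw [h1]; simp
      calc g = g' * (g'⁻¹ * g) := by group
        _ = g' := by rw [h2, mul_one]
    have h6 : Nat.card {z : α // z ≠ x0} = 6 := by
      rw [Nat.card_eq_fintype_card, Fintype.card_subtype_compl, hα]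
      simp
    calc Nat.card S ≤ Nat.card {z : α // z ≠ x0} := Nat.card_le_card_of_injective f hf
      _ = 6 := h6
  have h2 : ¬ 2 ∣ Nat.card S := by
    intro hd
    have : Fact (Nat.Prime 2) := ⟨Nat.prime_two⟩
    obtain ⟨t, ht⟩ := exists_prime_orderOf_dvd_card' 2 hd
    set τ : Perm α := ((t : ↥H) : Perm α) with hτ
    have hτ2 : orderOf τ = 2 := by rw [hτ, Subgroup.orderOf_coe, Subgroup.orderOf_coe, ht]
    have ht1 : (t : ↥H) ≠ 1 := by
      intro h
      have : orderOf τ = 1 := by rw [hτ, h]; simp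
      omega
    have hsupp : τ.support = Finset.univ.erase x0 := by
      ext y
      simp only [mem_support, Finset.mem_erase, Finset.mem_univ, and_true]
      constructor
      · intro hy h
        apply hy
        rw [h]
        exact hfix0 (t : ↥H) t.2
      · intro hy h
        exact ht1 (semireg (t : ↥H) t.2 y h hy)
    have hsc : τ.support.card = 6 := by
      rw [hsupp, Finset.card_erase_of_mem (Finset.mem_univ _), Finset.card_univ, hα]
    obtain ⟨n, hn⟩ := cycleType_prime_order (σ := τ) (by rw [hτ2]; exact Nat.prime_two)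
    have hsum := sum_cycleType τ
    rw [hn, hsc, hτ2, Multiset.sum_replicate] at hsum
    have hn2 : n = 2 := by
      simp only [smul_eq_mul] at hsum
      omega
    have hsign : Perm.sign τ = -1 := by
      rw [sign_of_cycleType, hn, hτ2, Multiset.sum_replicate, Multiset.card_replicate, hn2]
      decide
    have hmem : τ ∈ alternatingGroup α := hA (t : ↥H).2
    rw [mem_alternatingGroup, hsign] at hmem
    exact absurd hmem (by decide)
  have h5' : ¬ 5 ∣ Nat.card S := by
    intro hd
    apply h5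
    rw [hcard]
    exact Dvd.dvd.mul_left hd 7
  have hpos : 0 < Nat.card S := Nat.card_pos
  rw [hcard]
  generalize Nat.card S = n at *
  interval_cases n <;> omega

end Deg7

section Transport

/-- the 7 points different from `0` -/
abbrev Pt : Type := {x : Fin 8 // x ≠ 0}

lemma card_Pt : Fintype.card Pt = 7 := by decide

lemma ne_zero_iff_of_fix {σ : Perm (Fin 8)} (h0 : σ 0 = 0) (x : Fin 8) : σ x ≠ 0 ↔ x ≠ 0 := by
  constructor
  · intro h hx; apply h; rw [hx, h0]
  · intro h hx; apply h; apply σ.injective; rw [hx, h0]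

/-- restriction of the stabilizer of `0` to the other 7 points -/
noncomputable def restr (G : Subgroup (Perm (Fin 8))) : ↥(stabilizer ↥G (0 : Fin 8)) →* Perm Pt where
  toFun s := ((s : ↥G) : Perm (Fin 8)).subtypePerm (ne_zero_iff_of_fix (show ((s : ↥G) : Perm (Fin 8)) 0 = 0 from s.2))
  map_one' := by ext x; rfl
  map_mul' s t := by ext x; rfl

lemma restr_apply (G : Subgroup (Perm (Fin 8))) (s : ↥(stabilizer ↥G (0 : Fin 8))) (x : Pt) :
    ((restr G s) x : Fin 8) = ((s : ↥G) : Perm (Fin 8)) x := rfl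

lemma restr_injective (G : Subgroup (Perm (Fin 8))) : Function.Injective (restr G) := by
  rw [injective_iff_map_eq_one]
  intro s hs
  apply Subtype.ext
  apply Subtype.ext
  ext x
  by_cases hx : x = 0
  · subst hx
    have : ((s : ↥G) : Perm (Fin 8)) 0 = 0 := s.2
    rw [this]; rfl
  · have := restr_apply G s ⟨x, hx⟩
    rw [hs] at this
    simpa using congrArg Fin.val this.symm

lemma restr_sign (G : Subgroup (Perm (Fin 8))) (s : ↥(stabilizer ↥G (0 : Fin 8))) :
    Perm.sign (restr G s) = Perm.sign ((s : ↥G) : Perm (Fin 8)) := by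
  refine sign_subtypePerm ((s : ↥G) : Perm (Fin 8))
    (ne_zero_iff_of_fix (show ((s : ↥G) : Perm (Fin 8)) 0 = 0 from s.2)) ?_
  intro x hx h0
  apply hx
  rw [h0]
  exact s.2

/-- 255311 L8c -/
theorem order8 (G : Subgroup (Equiv.Perm (Fin 8))) (hGA : G ≤ alternatingGroup (Fin 8))
    (htr : MulAction.IsPretransitive ↥G (Fin 8)) (h7 : 7 ∣ Nat.card ↥G) (h5 : ¬ 5 ∣ Nat.card ↥G) :
    Nat.card ↥G = 56 ∨ Nat.card ↥G = 168 ∨
      (Nat.card ↥G = 1344 ∧ IsSimpleGroup ↥(MulAction.stabilizer ↥G (0 : Fin 8))) := by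
  have hp7 : Fact (Nat.Prime 7) := ⟨by norm_num⟩
  set S : Subgroup ↥G := stabilizer ↥G (0 : Fin 8) with hS
  have hcard : Nat.card G = 8 * Nat.card S := by
    have h1 := index_stabilizer_of_transitive ↥G (0 : Fin 8)
    rw [Nat.card_eq_fintype_card, Fintype.card_fin] at h1
    have h2 := Subgroup.index_mul_card (stabilizer ↥G (0 : Fin 8))
    rw [h1] at h2
    rw [hS]; exact h2.symm
  have hinj := restr_injective G
  set H : Subgroup (Perm Pt) := (restr G).range with hH
  let e : ↥S ≃* ↥H := MonoidHom.ofInjective hinj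
  have hcSH : Nat.card S = Nat.card H := Nat.card_congr e.toEquiv
  have h7S : 7 ∣ Nat.card S := by
    rw [hcard] at h7
    exact (Nat.Coprime.dvd_mul_left (by norm_num : Nat.Coprime 7 8)).mp h7
  have hHA : H ≤ alternatingGroup Pt := by
    rintro _ ⟨s, rfl⟩
    rw [mem_alternatingGroup, restr_sign]
    exact mem_alternatingGroup.mp (hGA (s : ↥G).2)
  -- transitivity of `H`
  obtain ⟨s7, hs7⟩ := exists_prime_orderOf_dvd_card' 7 h7S
  have hc7 : orderOf (restr G s7) = 7 := by rw [orderOf_injective (restr G) hinj, hs7]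
  obtain ⟨hcyc, hfull⟩ := full_cycle_of_order7 card_Pt _ hc7
  have htrH : IsPretransitive ↥H Pt := by
    refine ⟨fun x y => ?_⟩
    obtain ⟨i, hi⟩ := hcyc.exists_pow_eq (hfull x) (hfull y)
    exact ⟨⟨(restr G s7) ^ i, H.pow_mem ⟨s7, rfl⟩ i⟩, hi⟩
  have h5H : ¬ 5 ∣ Nat.card H := by
    intro hd
    apply h5
    rw [hcard, hcSH]
    exact Dvd.dvd.mul_left hd 8
  by_cases hsol : Group.IsSolvable ↥H
  · rcases card_of_solvable card_Pt H hsol hHA h5H with h | h
    · left; rw [hcard, hcSH, h]
    · right; left; rw [hcard, hcSH, h]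
  · right; right
    have hA' : ¬ alternatingGroup Pt ≤ H := by
      intro hle
      apply h5H
      have h1 : Nat.card (alternatingGroup Pt) ∣ Nat.card H := Subgroup.card_dvd_of_le hle
      have h2 : Nat.card (alternatingGroup Pt) = 2520 := by
        have : Nontrivial Pt := Fintype.one_lt_card_iff_nontrivial.mp (by rw [card_Pt]; norm_num)
        have h3 := two_mul_card_alternatingGroup (α := Pt)
        rw [Fintype.card_perm, card_Pt] at h3
        rw [Nat.card_eq_fintype_card]
        have : Nat.factorial 7 = 5040 := by decide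
        omega
      rw [h2] at h1
      exact Dvd.dvd.trans (by norm_num) h1
    obtain ⟨h168, hsimp⟩ := Cfsg.Agent.S0678.result card_Pt H hsol hA'
    refine ⟨by rw [hcard, hcSH, h168], ?_⟩
    exact e.isSimpleGroup

end Transport

end Cfsg.Agent.Lib.Helper93.G42
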