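import Mathlib
import Cfsg.Prelude.Def_Sporadic_a

/-!
A standard model of the point-block graph of the Steiner system `S(3, 6, 22)`: the 77 blocks as bit
masks, the graph on `Option (Fin 22 ⊕ Fin 77)`, three automorphisms given by tables, and for every
vertex a word in them carrying the extra vertex to it.
-/

set_option autoImplicit false

namespace Cfsg.Agent.Lib.Helper93

open Cfsg

def hsMasks : List ℕ := [1319, 4536, 11289, 14470, 17348, 35041, 46400, 52738, 68148, 74506, 88136, 114961, 137985, 140960, 155715, 164440, 184356, 196749, 201746, 263370, 266325, 279081, 297228, 303154, 353284, 365184, 411792, 459104, 528994, 540702, 545921, 551200, 565765, 598224, 623656, 658500, 688514, 788240, 854019, 929800, 1049235, 1054220, 1066096, 1106056, 1117568, 1126433, 1146950, 1181738, 1188116, 1321536, 1331458, 1475585, 1573193, 1611792, 1786368, 1835172, 2099538, 2105452,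 2126352, 2131092, 2134027, 2164289, 2179234, 2245896, 2336768, 2366496, 2367873, 2490886, 2624136, 2691332, 2752561, 2932800, 3164165, 3179296, 3281088, 3473432, 3679234]

def hsGens : List (List ℕ × List ℕ) := [
  ([1, 0, 23, 25, 28, 43, 53, 34, 95, 74, 40, 84, 37, 93, 75, 89, 44, 61, 35, 63, 83, 55, 68, 11, 32, 7, 48, 51, 15, 26, 76, 96, 81, 64, 19, 18, 46, 9, 99, 69, 12, 66, 62, 5, 8, 92, 87, 39, 29, 57, 80, 72, 77, 22, 31, 4, 36, 71, 78, 56, 54, 2, 47, 3, 73, 70, 41, 24, 20, 97, 98, 85, 88, 33, 10, 16, 67, 65, 50, 91, 90, 30, 59, 6, 17, 38, 52, 82, 45, 21, 94, 60, 27, 13, 58, 14, 79, 42, 86, 49],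
   [1, 0, 61, 63, 55, 43, 83, 25, 44, 37, 74, 23, 40, 93, 95, 28, 75, 84, 35, 34, 68, 89, 53, 2, 67, 3, 29, 92, 4, 48, 81, 54, 24, 73, 7, 18, 56, 12, 85, 47, 10, 66, 97, 5, 16, 88, 36, 62, 26, 99, 78, 27, 86, 6, 60, 21, 59, 49, 94, 82, 91, 17, 42, 19, 33, 77, 41, 76, 22, 39, 65, 57, 51, 64, 9, 14, 30, 52, 58, 96, 50, 32, 87, 20, 11, 71, 98, 46, 72, 15, 80, 79, 45, 13, 90, 8, 31, 69, 70, 38]),
  ([0, 2, 3, 1, 4, 8, 6, 10, 13, 9, 12, 11, 7, 5, 19, 18, 20, 16, 22, 21, 17, 14, 15, 23, 24, 42, 43, 35, 51, 60, 58, 28, 45, 38, 59, 79, 88, 90, 91, 93, 83, 82, 64, 63, 70, 75, 78, 74, 76, 97, 96, 31, 40, 41, 50, 61, 48, 57, 84, 92, 67, 69, 98, 26, 25, 36, 62, 29, 46, 55, 80, 89, 72, 71, 99, 32, 56, 87, 68, 27, 44, 49, 53, 52, 30, 39, 86, 94, 65, 73, 95, 33, 34, 85, 77, 37, 54, 81, 66, 47],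
   [0, 3, 1, 2, 4, 13, 6, 12, 5, 9, 7, 11, 10, 8, 21, 22, 17, 20, 15, 14, 16, 19, 18, 23, 24, 64, 63, 79, 31, 67, 84, 51, 75, 91, 92, 27, 65, 95, 33, 85, 52, 53, 25, 26, 80, 32, 68, 99, 56, 81, 54, 28, 83, 82, 96, 69, 76, 57, 30, 34, 29, 55, 66, 43, 42, 88, 98, 60, 78, 61, 44, 73, 72, 89, 47, 45, 48, 94, 46, 35, 70, 97, 41, 40, 58, 93, 86, 77, 36, 71, 37, 38, 59, 39, 87, 90, 50, 49, 62, 74]),
  ([0, 1, 2, 4, 3, 5, 16, 12, 8, 22, 10, 13, 7, 11, 19, 20, 6, 18, 17, 14, 15, 21, 9, 83, 82, 43, 42, 91, 28, 88, 51, 38, 90, 58, 93, 84, 48, 61, 31, 57, 40, 41, 26, 25, 55, 80, 46, 62, 36, 56, 87, 30, 52, 53, 94, 44, 49, 39, 33, 85, 81, 37, 47, 63, 64, 76, 78, 97, 74, 70, 69, 98, 72, 99, 68, 95, 65, 77, 66, 79, 45, 60, 24, 23, 35, 59, 92, 50, 29, 89, 32, 27, 86, 34, 54, 75, 96, 67, 71, 73],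
   [0, 1, 2, 4, 3, 5, 16, 12, 8, 22, 10, 13, 7, 11, 19, 20, 6, 18, 17, 14, 15, 21, 9, 83, 82, 43, 42, 91, 28, 88, 51, 38, 90, 58, 93, 84, 48, 61, 31, 57, 40, 41, 26, 25, 55, 80, 46, 62, 36, 56, 87, 30, 52, 53, 94, 44, 49, 39, 33, 85, 81, 37, 47, 63, 64, 76, 78, 97, 74, 70, 69, 98, 72, 99, 68, 95, 65, 77, 66, 79, 45, 60, 24, 23, 35, 59, 92, 50, 29, 89, 32, 27, 86, 34, 54, 75, 96, 67, 71, 73])]

def hsWords : List (List ℕ) := [[],
  [0],
  [1, 0],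
  [1, 1, 0],
  [2, 1, 1, 0],
  [1, 2, 0, 0, 1, 0],
  [0, 2, 0, 1, 0],
  [0, 0, 1, 1, 0],
  [1, 1, 2, 0, 0, 1, 0],
  [2, 0, 0, 0, 2, 0, 1, 0],
  [1, 0, 0, 1, 1, 0],
  [0, 0, 1, 0],
  [2, 0, 0, 1, 1, 0],
  [2, 0, 0, 1, 0],
  [2, 0, 0, 0, 0, 1, 1, 0],
  [0, 0, 2, 1, 1, 0],
  [2, 0, 2, 0, 1, 0],
  [0, 0, 0, 0, 1, 0],
  [2, 0, 0, 0, 0, 1, 0],
  [0, 0, 0, 0, 1, 1, 0],
  [1, 2, 0, 2, 0, 1, 0],
  [1, 0, 0, 0, 0, 1, 1, 0],
  [0, 0, 0, 2, 0, 1, 0],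
  [0, 1, 0],
  [0, 0, 0, 1, 0, 0, 0, 1, 0],
  [0, 1, 1, 0],
  [2, 1, 0, 1, 1, 0],
  [1, 1, 2, 0, 0, 0, 1, 0],
  [0, 2, 1, 1, 0],
  [0, 0, 2, 1, 0, 1, 1, 0],
  [1, 0, 0, 0, 1, 0],
  [1, 1, 0, 2, 1, 1, 0],
  [2, 1, 0, 2, 0, 0, 1, 1, 0],
  [2, 1, 1, 0, 0, 0, 1, 0],
  [0, 0, 0, 1, 1, 0],
  [2, 0, 0, 0, 1, 0],
  [1, 0, 0, 1, 2, 0, 1, 0],
  [0, 2, 0, 0, 1, 1, 0],
  [0, 1, 0, 2, 0, 0, 1, 0],
  [1, 1, 0, 2, 0, 0, 1, 0],
  [1, 1, 2, 0, 1, 0],
  [1, 0, 0, 2, 0, 1, 0],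
  [1, 0, 1, 1, 0],
  [2, 0, 1, 1, 0],
  [0, 2, 0, 2, 0, 1, 0],
  [0, 0, 0, 1, 0, 2, 1, 1, 0],
  [1, 0, 0, 0, 0, 2, 0, 1, 0],
  [0, 0, 1, 0, 1, 1, 0],
  [0, 2, 1, 0, 1, 1, 0],
  [2, 1, 0, 1, 0, 0, 0, 1, 0],
  [2, 1, 0, 1, 2, 0, 1, 0],
  [1, 0, 2, 1, 1, 0],
  [1, 2, 0, 1, 0],
  [0, 0, 2, 0, 1, 0],
  [2, 1, 1, 0, 1, 2, 0, 1, 0],
  [2, 0, 2, 0, 2, 0, 1, 0],
  [1, 0, 1, 0, 0, 0, 1, 0],
  [2, 1, 1, 0, 2, 0, 0, 1, 0],
  [1, 1, 0, 0, 0, 1, 0],
  [1, 0, 0, 0, 1, 1, 0],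
  [0, 0, 1, 2, 0, 0, 0, 1, 0],
  [0, 0, 0, 0, 0, 1, 0],
  [0, 1, 0, 1, 1, 0],
  [1, 2, 0, 1, 1, 0],
  [1, 1, 0, 1, 1, 0],
  [0, 0, 1, 2, 0, 1, 0],
  [0, 1, 0, 0, 2, 0, 1, 0],
  [0, 0, 1, 0, 0, 0, 1, 0],
  [0, 0, 0, 0, 2, 0, 1, 0],
  [1, 0, 0, 0, 0, 0, 1, 0],
  [1, 0, 2, 0, 2, 0, 1, 0],
  [2, 1, 0, 1, 0, 1, 1, 0],
  [0, 1, 0, 2, 1, 1, 0],
  [0, 1, 1, 0, 1, 1, 0],
  [1, 0, 0, 1, 0, 1, 1, 0],
  [2, 0, 1, 1, 2, 0, 0, 1, 0],
  [0, 1, 0, 0, 0, 1, 0],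
  [0, 1, 2, 0, 1, 0],
  [0, 1, 1, 0, 0, 0, 1, 0],
  [1, 2, 0, 0, 0, 1, 0],
  [1, 1, 0, 2, 0, 2, 0, 1, 0],
  [1, 0, 1, 0, 0, 0, 0, 0, 1, 0],
  [1, 1, 0, 0, 2, 0, 1, 0],
  [2, 0, 1, 0],
  [0, 0, 0, 1, 0],
  [1, 0, 2, 0, 0, 1, 0],
  [0, 1, 0, 1, 0, 1, 1, 0],
  [1, 0, 1, 2, 0, 1, 0],
  [0, 0, 1, 0, 2, 1, 1, 0],
  [0, 0, 0, 2, 1, 1, 0],
  [1, 0, 2, 0, 0, 1, 1, 0],
  [0, 1, 2, 0, 0, 0, 1, 0],
  [1, 1, 0, 0, 0, 1, 1, 0],
  [0, 2, 0, 0, 1, 0],
  [1, 1, 0, 1, 2, 0, 1, 0],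
  [0, 1, 1, 2, 0, 0, 1, 0],
  [0, 1, 1, 0, 2, 1, 1, 0],
  [0, 1, 0, 0, 0, 0, 0, 1, 0],
  [1, 0, 1, 0, 1, 1, 0],
  [2, 0, 1, 1, 0, 1, 1, 0]]

/-- the vertices of the standard model. -/
abbrev HSV : Type := Option (Fin 22 ⊕ Fin 77)

/-- the mask of block `i`. -/
def hsMask (i : Fin 77) : ℕ := hsMasks.getD i.val 0

/-- the number of a vertex. -/
def hsCode : HSV → ℕ
  | none => 0
  | some (Sum.inl a) => 1 + a.val
  | some (Sum.inr i) => 23 + i.val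

/-- the vertex with a given number. -/
def hsDec (n : ℕ) : HSV :=
  if n = 0 then none else if n < 23 then some (Sum.inl (Fin.ofNat 22 (n - 1)))
  else some (Sum.inr (Fin.ofNat 77 (n - 23)))

theorem hsDec_code : ∀ w : HSV, hsDec (hsCode w) = w := by decide +kernel
theorem hsCode_dec : ∀ n ∈ List.range 100, hsCode (hsDec n) = n := by decide +kernel

theorem hsCode_injective : Function.Injective hsCode := fun x y h => by
  rw [← hsDec_code x, ← hsDec_code y, h]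

theorem hsCode_lt : ∀ w : HSV, hsCode w < 100 := by decide +kernel

/-- the relation generating the graph, as for `Cfsg.pointBlockRel`. -/
def hsRel : HSV → HSV → Bool
  | none, some (Sum.inl _) => true
  | some (Sum.inl a), some (Sum.inr i) => (hsMask i).testBit a.val
  | some (Sum.inr i), some (Sum.inr j) => hsMask i &&& hsMask j == 0
  | _, _ => false

/-- the standard graph. -/
def hsGraph : SimpleGraph HSV := SimpleGraph.fromRel (fun x y => hsRel x y = true)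

/-- adjacency, as a Boolean function. -/
def hsAdjB (x y : HSV) : Bool := decide (x ≠ y) && (hsRel x y || hsRel y x)

theorem hsGraph_adj (x y : HSV) : hsGraph.Adj x y ↔ hsAdjB x y = true := by
  simp [hsGraph, hsAdjB, SimpleGraph.fromRel_adj]

/-! ### Automorphisms from tables -/

/-- the map with table `t`. -/
def hsFun (t : List ℕ) (w : HSV) : HSV := hsDec (t.getD (hsCode w) 0)

/-- `t` and `tinv` are tables of mutually inverse maps of `0..99`. -/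
def hsTabOk (t tinv : List ℕ) : Bool :=
  (List.range 100).all (fun i => decide (t.getD i 0 < 100) && decide (tinv.getD i 0 < 100) &&
    (tinv.getD (t.getD i 0) 0 == i) && (t.getD (tinv.getD i 0) 0 == i))

theorem hsTabOk_spec {t tinv : List ℕ} (h : hsTabOk t tinv = true) {i : ℕ} (hi : i < 100) :
    t.getD i 0 < 100 ∧ tinv.getD i 0 < 100 ∧ tinv.getD (t.getD i 0) 0 = i ∧
      t.getD (tinv.getD i 0) 0 = i := by
  have := (List.all_eq_true.mp h) i (List.mem_range.mpr hi)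
  simp only [Bool.and_eq_true, decide_eq_true_eq, beq_iff_eq] at this
  tauto

theorem hsCode_fun {t : List ℕ} (h1 : ∀ i < 100, t.getD i 0 < 100) (w : HSV) :
    hsCode (hsFun t w) = t.getD (hsCode w) 0 :=
  hsCode_dec _ (List.mem_range.mpr (h1 _ (hsCode_lt w)))

theorem hsFun_hsFun {t tinv : List ℕ} (h1 : ∀ i < 100, t.getD i 0 < 100)
    (h2 : ∀ i < 100, tinv.getD (t.getD i 0) 0 = i) (w : HSV) :
    hsFun tinv (hsFun t w) = w := by
  unfold hsFun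
  rw [hsCode_dec _ (List.mem_range.mpr (h1 _ (hsCode_lt w))), h2 _ (hsCode_lt w), hsDec_code]

/-- the table preserves adjacency. -/
def hsAutOk (t : List ℕ) : Bool :=
  decide (∀ x y : HSV, hsAdjB (hsFun t x) (hsFun t y) = hsAdjB x y)

/-- the automorphism with table `t` and inverse table `tinv` (the identity if the tables are not
valid). -/
def hsAut (t tinv : List ℕ) : hsGraph ≃g hsGraph :=
  if h : hsTabOk t tinv = true ∧ hsAutOk t = true then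
    { toFun := hsFun t
      invFun := hsFun tinv
      left_inv := hsFun_hsFun (fun _ hi => (hsTabOk_spec h.1 hi).1)
        (fun _ hi => (hsTabOk_spec h.1 hi).2.2.1)
      right_inv := hsFun_hsFun (fun _ hi => (hsTabOk_spec h.1 hi).2.1)
        (fun _ hi => (hsTabOk_spec h.1 hi).2.2.2)
      map_rel_iff' := by
        intro x y
        have h2 := h.2
        simp only [hsAutOk, decide_eq_true_eq] at h2
        rw [hsGraph_adj, hsGraph_adj]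
        exact Eq.to_iff (congrArg (· = true) (h2 x y)) }
  else 1

theorem hsAut_apply {t tinv : List ℕ} (h : hsTabOk t tinv = true ∧ hsAutOk t = true) (w : HSV) :
    hsAut t tinv w = hsFun t w := by
  unfold hsAut
  rw [dif_pos h]
  rfl

theorem hsGens_ok : hsGens.all (fun g => hsTabOk g.1 g.2 && hsAutOk g.1) = true := by
  decide +kernel

/-- generator number `k`. -/
def hsGen (k : ℕ) : hsGraph ≃g hsGraph := hsAut (hsGens.getD k ([], [])).1 (hsGens.getD k ([], [])).2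

theorem hsGens_length : hsGens.length = 3 := by decide

theorem hsGen_ok {k : ℕ} (hk : k < 3) :
    hsTabOk (hsGens.getD k ([], [])).1 (hsGens.getD k ([], [])).2 = true ∧
      hsAutOk (hsGens.getD k ([], [])).1 = true := by
  have hk' : k < hsGens.length := by rw [hsGens_length]; exact hk
  have hm : hsGens.getD k ([], []) ∈ hsGens := by
    rw [List.getD_eq_getElem _ _ hk']
    exact List.getElem_mem _
  have := (List.all_eq_true.mp hsGens_ok) _ hm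
  simpa using this

/-- the action of a word on the numbers of the vertices (the first letter acts last). -/
def hsApplyW : List ℕ → ℕ → ℕ
  | [], c => c
  | k :: L, c => (hsGens.getD k ([], [])).1.getD (hsApplyW L c) 0

theorem hsCode_prod (L : List ℕ) (hL : ∀ k ∈ L, k < 3) (x : HSV) :
    hsCode ((L.map hsGen).prod x) = hsApplyW L (hsCode x) := by
  induction L with
  | nil => simp [hsApplyW]
  | cons k L ih =>
    have hk : k < 3 := hL k (by simp)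
    have ih' := ih (fun j hj => hL j (by simp [hj]))
    simp only [List.map_cons, List.prod_cons, RelIso.mul_apply, hsApplyW]
    have hok := hsGen_ok hk
    unfold hsGen
    rw [hsAut_apply hok, hsCode_fun (fun _ hi => (hsTabOk_spec hok.1 hi).1)]
    unfold hsGen at ih'
    rw [ih']

theorem hsWords_ok : ∀ w : HSV, (∀ k ∈ hsWords.getD (hsCode w) [], k < 3) ∧
    hsApplyW (hsWords.getD (hsCode w) []) 0 = hsCode w := by
  decide +kernel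

/-- the automorphisms of the standard graph are transitive on the vertices. -/
theorem hs_transitive (w : HSV) : ∃ φ : hsGraph ≃g hsGraph, φ none = w := by
  refine ⟨((hsWords.getD (hsCode w) []).map hsGen).prod, ?_⟩
  apply hsCode_injective
  rw [hsCode_prod _ (hsWords_ok w).1]
  exact (hsWords_ok w).2

end Cfsg.Agent.Lib.Helper93
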