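import Mathlib
import Cfsg.Agent.Lib.Helper93.AffMat

/-!
The split extension of an elementary abelian `2`-group `U` of order `2^(n+1)` by its full
automorphism group: the centraliser of a non-identity element of `U` is isomorphic to the centraliser
of a transvection in `SL(n+2, 2)`.
-/

set_option autoImplicit false

namespace Cfsg.Agent.Lib.Helper93

open Matrix

/-- a linear automorphism moving a non-zero vector to a non-zero vector. -/
theorem exists_linearEquiv_apply_eq {K V : Type*} [Field K] [AddCommGroup V] [Module K V]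
    [FiniteDimensional K V] (x y : V) (hx : x ≠ 0) (hy : y ≠ 0) :
    ∃ g : V ≃ₗ[K] V, g x = y := by
  let f : (Submodule.span K {x}) ≃ₗ[K] (Submodule.span K {y}) :=
    (LinearEquiv.toSpanNonzeroSingleton K V x hx).symm ≪≫ₗ
      (LinearEquiv.toSpanNonzeroSingleton K V y hy)
  obtain ⟨g, hg⟩ := Submodule.exists_linearEquiv_restrict_eq f
  refine ⟨g, ?_⟩
  have h1 := hg ⟨x, Submodule.mem_span_singleton_self x⟩
  have h2 : f ⟨x, Submodule.mem_span_singleton_self x⟩ =
      ⟨y, Submodule.mem_span_singleton_self y⟩ := by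
    show (LinearEquiv.toSpanNonzeroSingleton K V y hy)
      ((LinearEquiv.toSpanNonzeroSingleton K V x hx).symm _) = _
    rw [← LinearEquiv.toSpanNonzeroSingleton_one K V x hx, LinearEquiv.symm_apply_apply,
      LinearEquiv.toSpanNonzeroSingleton_one]
  rw [h2] at h1
  exact h1.symm

/-- coordinates on an elementary abelian `2`-group in which a given non-identity element is the
first basis vector. -/
theorem exists_coord {A : Type*} [Group A] [Finite A] (hc : ∀ a b : A, a * b = b * a)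
    (he : ∀ a : A, a ^ 2 = 1) (n : ℕ) (hcard : Nat.card A = 2 ^ (n + 1)) (z : A) (hz : z ≠ 1) :
    ∃ β : A ≃ (Fin (n + 1) → ZMod 2), (∀ a b, β (a * b) = β a + β b) ∧ β z = Pi.single 0 1 := by
  let _ : CommGroup A := { (inferInstance : Group A) with mul_comm := hc }
  let _ : Module (ZMod 2) (Additive A) := AddCommGroup.zmodModule (n := 2) (by
    intro x
    show Additive.ofMul (x.toMul ^ 2) = 0
    rw [he]; rfl)
  have hfin : Module.finrank (ZMod 2) (Additive A) = n + 1 := by
    have h := Module.natCard_eq_pow_finrank (K := ZMod 2) (V := Additive A)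
    rw [Nat.card_zmod] at h
    have h' : Nat.card (Additive A) = 2 ^ (n + 1) := hcard
    rw [h'] at h
    exact (Nat.pow_right_injective (le_refl 2) h).symm
  have e₁ : Additive A ≃ₗ[ZMod 2] (Fin (n + 1) → ZMod 2) :=
    LinearEquiv.ofFinrankEq _ _ (by rw [hfin, Module.finrank_fin_fun])
  have hx : e₁ (Additive.ofMul z) ≠ 0 := by
    intro h
    apply hz
    have := e₁.injective (h.trans (map_zero e₁).symm)
    exact this
  have hy : (Pi.single 0 1 : Fin (n + 1) → ZMod 2) ≠ 0 := by
    intro h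
    have := congrFun h 0
    simp at this
  obtain ⟨g, hg⟩ := exists_linearEquiv_apply_eq (K := ZMod 2) _ _ hx hy
  refine ⟨(Additive.ofMul.trans e₁.toEquiv).trans g.toEquiv, ?_, ?_⟩
  · intro a b
    show g (e₁ (Additive.ofMul (a * b))) = g (e₁ (Additive.ofMul a)) + g (e₁ (Additive.ofMul b))
    rw [ofMul_mul, map_add, map_add]
  · exact hg

/-- the matrix of an additive map of row vectors. -/
def matOf {k : ℕ} (f : (Fin k → ZMod 2) → (Fin k → ZMod 2)) : Matrix (Fin k) (Fin k) (ZMod 2) :=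
  fun i j => f (Pi.single i 1) j

theorem matOf_spec {k : ℕ} (f : (Fin k → ZMod 2) → (Fin k → ZMod 2))
    (hf : ∀ v w, f (v + w) = f v + f w) (v : Fin k → ZMod 2) : v ᵥ* matOf f = f v := by
  let fa : (Fin k → ZMod 2) →+ (Fin k → ZMod 2) := AddMonoidHom.mk' f hf
  let L : (Fin k → ZMod 2) →ₗ[ZMod 2] (Fin k → ZMod 2) := fa.toZModLinearMap 2
  have h1 : matOf f = LinearMap.toMatrixRight' L := rfl
  rw [h1, ← Matrix.toLinearMapRight'_apply]
  show (LinearMap.toMatrixRight'.symm (LinearMap.toMatrixRight' L)) v = f v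
  rw [LinearEquiv.symm_apply_apply]
  rfl

theorem eq_of_vecMul_eq {k : ℕ} {P P' : Matrix (Fin k) (Fin k) (ZMod 2)}
    (h : ∀ v : Fin k → ZMod 2, v ᵥ* P = v ᵥ* P') : P = P' :=
  Matrix.ext_of_single_vecMul (fun _ => h _)

/-- general facts on the affine decomposition of products. -/
theorem aff_mul {n : ℕ} {M M' : Matrix (Fin (n + 2)) (Fin (n + 2)) (ZMod 2)} (h0 : M 0 0 = 1)
    (hc : ∀ i : Fin (n + 1), M i.succ 0 = 0) (h0' : M' 0 0 = 1)
    (hc' : ∀ i : Fin (n + 1), M' i.succ 0 = 0) :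
    affSub (M * M') = affSub M * affSub M' ∧
      affRow (M * M') = affRow M' + affRow M ᵥ* affSub M' := by
  have e := affMk_eta h0 hc
  have e' := affMk_eta h0' hc'
  have h : M * M' = affMk (affRow M' + affRow M ᵥ* affSub M') (affSub M * affSub M') := by
    rw [← affMk_mul, ← e, ← e']
  rw [h, affSub_mk, affRow_mk]
  exact ⟨rfl, rfl⟩

theorem affSub_one {n : ℕ} : affSub (1 : Matrix (Fin (n + 2)) (Fin (n + 2)) (ZMod 2)) = 1 := by
  rw [← affMk_one, affSub_mk]

theorem affRow_one {n : ℕ} : affRow (1 : Matrix (Fin (n + 2)) (Fin (n + 2)) (ZMod 2)) = 0 := by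
  rw [← affMk_one, affRow_mk]

/-- the data of a split extension of an elementary abelian `2`-group by its automorphism group,
with coordinates. -/
structure HolData (G : Type*) [Group G] (n : ℕ) where
  /-- the normal subgroup -/
  U : Subgroup G
  /-- the complement -/
  M : Subgroup G
  hUn : U.Normal
  /-- the coordinates -/
  β : ↥U ≃ (Fin (n + 1) → ZMod 2)
  β_mul : ∀ a b, β (a * b) = β a + β b
  hUM : U ⊓ M = ⊥
  hUM' : U ⊔ M = ⊤
  hfaith : ∀ m ∈ M, (∀ u ∈ U, m * u * m⁻¹ = u) → m = 1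
  hfull : ∀ φ : ↥U ≃* ↥U, ∃ m ∈ M, ∀ u : ↥U, ((φ u : ↥U) : G) = m * u * m⁻¹

namespace HolData

variable {G : Type*} [Group G] {n : ℕ} (H : HolData G n)

instance instNormalU : H.U.Normal := H.hUn

theorem β_one : H.β 1 = 0 := by
  have := H.β_mul 1 1
  rw [mul_one] at this
  simpa using this

theorem β_symm_add (v w : Fin (n + 1) → ZMod 2) :
    H.β.symm (v + w) = H.β.symm v * H.β.symm w := by
  apply H.β.injective
  rw [H.β_mul]
  simp

theorem β_symm_zero : H.β.symm 0 = 1 := by
  apply H.β.injective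
  rw [H.β_one]
  simp

/-- conjugation, in coordinates. -/
def cjV (x : G) (v : Fin (n + 1) → ZMod 2) : Fin (n + 1) → ZMod 2 :=
  H.β (MulAut.conjNormal x (H.β.symm v))

theorem cjV_add (x : G) (v w : Fin (n + 1) → ZMod 2) :
    H.cjV x (v + w) = H.cjV x v + H.cjV x w := by
  unfold cjV
  rw [β_symm_add, map_mul, β_mul]

/-- the matrix of the conjugation. -/
def P (x : G) : Matrix (Fin (n + 1)) (Fin (n + 1)) (ZMod 2) := matOf (H.cjV x)

theorem P_spec (x : G) (u : ↥H.U) : H.β (MulAut.conjNormal x u) = H.β u ᵥ* H.P x := by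
  have := matOf_spec (H.cjV x) (H.cjV_add x) (H.β u)
  rw [P, this]
  unfold cjV
  rw [Equiv.symm_apply_apply]

theorem P_mul (x y : G) : H.P (x * y) = H.P y * H.P x := by
  apply eq_of_vecMul_eq
  intro v
  obtain ⟨u, rfl⟩ := H.β.surjective v
  rw [← H.P_spec, ← Matrix.vecMul_vecMul, ← H.P_spec, ← H.P_spec, map_mul]
  rfl

theorem P_one : H.P 1 = 1 := by
  apply eq_of_vecMul_eq
  intro v
  obtain ⟨u, rfl⟩ := H.β.surjective v
  rw [← H.P_spec, Matrix.vecMul_one, map_one]
  rfl

/-- the action, as a homomorphism to the units of the matrix ring. -/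
def rho : G →* (Matrix (Fin (n + 1)) (Fin (n + 1)) (ZMod 2))ˣ where
  toFun x := ⟨H.P x⁻¹, H.P x, by rw [← P_mul, mul_inv_cancel, P_one],
    by rw [← P_mul, inv_mul_cancel, P_one]⟩
  map_one' := by
    apply Units.ext
    show H.P 1⁻¹ = 1
    rw [inv_one, P_one]
  map_mul' x y := by
    apply Units.ext
    show H.P (x * y)⁻¹ = H.P x⁻¹ * H.P y⁻¹
    rw [_root_.mul_inv_rev, P_mul]

theorem rho_inv_val (x : G) : ((H.rho x)⁻¹ : (Matrix (Fin (n + 1)) (Fin (n + 1)) (ZMod 2))ˣ).val =
    H.P x := rfl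

/-- the action of the complement. -/
def rhoM : ↥H.M →* (Matrix (Fin (n + 1)) (Fin (n + 1)) (ZMod 2))ˣ := H.rho.comp H.M.subtype

theorem rhoM_injective : Function.Injective H.rhoM := by
  rw [injective_iff_map_eq_one]
  intro m hm
  have h1 : H.P (m : G) = 1 := by
    rw [← H.rho_inv_val]
    have : H.rho (m : G) = 1 := hm
    rw [this]
    rfl
  apply Subtype.ext
  apply H.hfaith _ m.2
  intro u hu
  have h2 := H.P_spec (m : G) ⟨u, hu⟩
  rw [h1, Matrix.vecMul_one] at h2
  have h3 := congrArg Subtype.val (H.β.injective h2)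
  exact h3

theorem rhoM_surjective : Function.Surjective H.rhoM := by
  intro A
  let φ : ↥H.U ≃* ↥H.U :=
    { toFun := fun u => H.β.symm (H.β u ᵥ* (↑A⁻¹ : Matrix (Fin (n + 1)) (Fin (n + 1)) (ZMod 2)))
      invFun := fun u => H.β.symm (H.β u ᵥ* (↑A : Matrix (Fin (n + 1)) (Fin (n + 1)) (ZMod 2)))
      left_inv := by
        intro u
        simp only [Equiv.apply_symm_apply, Matrix.vecMul_vecMul, Units.inv_mul, Matrix.vecMul_one,
          Equiv.symm_apply_apply]
      right_inv := by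
        intro u
        simp only [Equiv.apply_symm_apply, Matrix.vecMul_vecMul, Units.mul_inv, Matrix.vecMul_one,
          Equiv.symm_apply_apply]
      map_mul' := by
        intro u u'
        rw [H.β_mul, Matrix.add_vecMul, H.β_symm_add] }
  obtain ⟨m, hm, hφ⟩ := H.hfull φ
  refine ⟨⟨m, hm⟩, ?_⟩
  apply inv_injective
  apply Units.ext
  show H.P m = _
  apply eq_of_vecMul_eq
  intro v
  obtain ⟨u, rfl⟩ := H.β.surjective v
  rw [← H.P_spec]
  have : MulAut.conjNormal m u = φ u := by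
    apply Subtype.ext
    rw [hφ u]
    rfl
  rw [this]
  show H.β (H.β.symm _) = _
  rw [Equiv.apply_symm_apply]

/-- the complement is the group of units of the matrix ring. -/
noncomputable def rhoE : ↥H.M ≃* (Matrix (Fin (n + 1)) (Fin (n + 1)) (ZMod 2))ˣ :=
  MulEquiv.ofBijective H.rhoM ⟨H.rhoM_injective, H.rhoM_surjective⟩

theorem conj_coord (m : ↥H.M) (u : ↥H.U) :
    H.β (MulAut.conjNormal (m : G) u) =
      H.β u ᵥ* ((H.rhoE m)⁻¹ : (Matrix (Fin (n + 1)) (Fin (n + 1)) (ZMod 2))ˣ).val :=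
  H.P_spec m u

theorem conj_symm (A : (Matrix (Fin (n + 1)) (Fin (n + 1)) (ZMod 2))ˣ) (u : ↥H.U) :
    H.β (MulAut.conjNormal ((H.rhoE.symm A : ↥H.M) : G) u) =
      H.β u ᵥ* (↑A⁻¹ : Matrix (Fin (n + 1)) (Fin (n + 1)) (ZMod 2)) := by
  rw [H.conj_coord, MulEquiv.apply_symm_apply]

theorem conj_symm_inv (A : (Matrix (Fin (n + 1)) (Fin (n + 1)) (ZMod 2))ˣ) (u : ↥H.U) :
    H.β (MulAut.conjNormal ((H.rhoE.symm A : ↥H.M) : G)⁻¹ u) =
      H.β u ᵥ* (↑A : Matrix (Fin (n + 1)) (Fin (n + 1)) (ZMod 2)) := by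
  have := H.conj_symm A⁻¹ u
  rw [map_inv, inv_inv] at this
  exact this

theorem U_comm (a b : ↥H.U) : a * b = b * a := by
  apply H.β.injective
  rw [H.β_mul, H.β_mul]
  exact add_comm _ _

section iso

variable (t : Matrix.SpecialLinearGroup (Fin (n + 2)) (ZMod 2))
  (ht : (t : Matrix (Fin (n + 2)) (Fin (n + 2)) (ZMod 2)) = Matrix.transvection 0 1 1)

include ht in
omit H in
theorem cent_affSub_mul
    (g g' : ↥(Subgroup.centralizer ({t} : Set (Matrix.SpecialLinearGroup (Fin (n + 2)) (ZMod 2))))) :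
    affSub (cmat t (g * g')) = affSub (cmat t g) * affSub (cmat t g') :=
  (aff_mul (tshape_coe t ht g).d0 (tshape_coe t ht g).c0 (tshape_coe t ht g').d0
    (tshape_coe t ht g').c0).1

include ht in
omit H in
theorem cent_affRow_mul
    (g g' : ↥(Subgroup.centralizer ({t} : Set (Matrix.SpecialLinearGroup (Fin (n + 2)) (ZMod 2))))) :
    affRow (cmat t (g * g')) = affRow (cmat t g') + affRow (cmat t g) ᵥ* affSub (cmat t g') :=
  (aff_mul (tshape_coe t ht g).d0 (tshape_coe t ht g).c0 (tshape_coe t ht g').d0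
    (tshape_coe t ht g').c0).2

omit H in
theorem cent_affSub_one :
    affSub (cmat t (1 : ↥(Subgroup.centralizer
      ({t} : Set (Matrix.SpecialLinearGroup (Fin (n + 2)) (ZMod 2)))))) = 1 := affSub_one

omit H in
theorem cent_affRow_one :
    affRow (cmat t (1 : ↥(Subgroup.centralizer
      ({t} : Set (Matrix.SpecialLinearGroup (Fin (n + 2)) (ZMod 2)))))) = 0 := affRow_one

/-- the linear part of an element of the centraliser. -/
def affUnit :
    ↥(Subgroup.centralizer ({t} : Set (Matrix.SpecialLinearGroup (Fin (n + 2)) (ZMod 2)))) →*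
      (Matrix (Fin (n + 1)) (Fin (n + 1)) (ZMod 2))ˣ where
  toFun g := ⟨affSub (cmat t g), affSub (cmat t g⁻¹),
    by rw [← cent_affSub_mul t ht, mul_inv_cancel, cent_affSub_one],
    by rw [← cent_affSub_mul t ht, inv_mul_cancel, cent_affSub_one]⟩
  map_one' := Units.ext (cent_affSub_one t)
  map_mul' g g' := Units.ext (cent_affSub_mul t ht g g')

omit H in
theorem affUnit_val
    (g : ↥(Subgroup.centralizer ({t} : Set (Matrix.SpecialLinearGroup (Fin (n + 2)) (ZMod 2))))) :
    (affUnit t ht g).val = affSub (cmat t g) := rfl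

/-- the homomorphism from the centraliser of the transvection. -/
noncomputable def centHom :
    ↥(Subgroup.centralizer ({t} : Set (Matrix.SpecialLinearGroup (Fin (n + 2)) (ZMod 2)))) →* G where
  toFun g := ((H.rhoE.symm (affUnit t ht g) : ↥H.M) : G) *
    ((H.β.symm (affRow (cmat t g)) : ↥H.U) : G)
  map_one' := by
    rw [map_one, map_one, cent_affRow_one, β_symm_zero]
    simp
  map_mul' g g' := by
    rw [map_mul, map_mul, cent_affRow_mul t ht, add_comm (affRow (cmat t g')) _, β_symm_add]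
    have hw : ((H.β.symm (affRow (cmat t g) ᵥ* affSub (cmat t g')) : ↥H.U) : G) =
        ((H.rhoE.symm (affUnit t ht g') : ↥H.M) : G)⁻¹ *
          ((H.β.symm (affRow (cmat t g)) : ↥H.U) : G) *
          ((H.rhoE.symm (affUnit t ht g') : ↥H.M) : G) := by
      have h1 := H.conj_symm_inv (affUnit t ht g') (H.β.symm (affRow (cmat t g)))
      rw [Equiv.apply_symm_apply, affUnit_val] at h1
      have h2 := congrArg H.β.symm h1
      rw [Equiv.symm_apply_apply] at h2
      rw [← h2, MulAut.conjNormal_apply, inv_inv]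
    rw [Subgroup.coe_mul, Subgroup.coe_mul, hw]
    group

theorem centHom_apply
    (g : ↥(Subgroup.centralizer ({t} : Set (Matrix.SpecialLinearGroup (Fin (n + 2)) (ZMod 2))))) :
    H.centHom t ht g = ((H.rhoE.symm (affUnit t ht g) : ↥H.M) : G) *
      ((H.β.symm (affRow (cmat t g)) : ↥H.U) : G) := rfl

theorem centHom_injective : Function.Injective (H.centHom t ht) := by
  rw [injective_iff_map_eq_one]
  intro g hg
  rw [centHom_apply] at hg
  set m := H.rhoE.symm (affUnit t ht g) with hm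
  set u := H.β.symm (affRow (cmat t g)) with hu
  have hmU : (m : G) ∈ H.U ⊓ H.M := by
    refine ⟨?_, m.2⟩
    have : (m : G) = ((u⁻¹ : ↥H.U) : G) := by
      rw [Subgroup.coe_inv]
      exact eq_inv_of_mul_eq_one_left hg
    rw [this]
    exact (u⁻¹).2
  rw [H.hUM, Subgroup.mem_bot] at hmU
  have hm1 : m = 1 := Subtype.ext hmU
  have hu1 : u = 1 := by
    apply Subtype.ext
    rw [hmU, one_mul] at hg
    exact hg
  have hA : affUnit t ht g = 1 := by
    have := congrArg H.rhoE hm1
    rw [hm, MulEquiv.apply_symm_apply, map_one] at this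
    exact this
  have hr : affRow (cmat t g) = 0 := by
    have := congrArg H.β hu1
    rw [hu, Equiv.apply_symm_apply, β_one] at this
    exact this
  have hA' : affSub (cmat t g) = 1 := by
    rw [← affUnit_val t ht, hA]
    rfl
  have hM : cmat t g = 1 := by
    have := affMk_eta (tshape_coe t ht g).d0 (tshape_coe t ht g).c0
    rw [hr, hA', affMk_one] at this
    exact this
  apply Subtype.ext
  apply Subtype.ext
  exact hM

theorem centHom_range (z : G) (hz : z ∈ H.U) (hβz : H.β ⟨z, hz⟩ = Pi.single 0 1) (C : Subgroup G)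
    (memC : ∀ x, x ∈ C ↔ z * x = x * z) : (H.centHom t ht).range = C := by
  ext x
  constructor
  · rintro ⟨g, rfl⟩
    rw [memC, centHom_apply]
    set m := H.rhoE.symm (affUnit t ht g) with hm
    set u := H.β.symm (affRow (cmat t g)) with hu
    have hA0 : affSub (cmat t g) 0 = Pi.single 0 1 :=
      (tshape_iff_aff.mp (tshape_coe t ht g)).2.2
    have h1 := H.conj_symm_inv (affUnit t ht g) ⟨z, hz⟩
    rw [hβz, affUnit_val, Matrix.single_one_vecMul] at h1
    have h1' : H.β (MulAut.conjNormal ((m : ↥H.M) : G)⁻¹ ⟨z, hz⟩) = H.β ⟨z, hz⟩ := by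
      rw [h1, hβz]
      exact hA0
    have h2 := congrArg Subtype.val (H.β.injective h1')
    rw [MulAut.conjNormal_apply, inv_inv] at h2
    have h3 : z * (m : G) = (m : G) * z := by
      have := congrArg (fun y => (m : G) * y) h2
      simpa [mul_assoc] using this
    have h4 : z * (u : G) = (u : G) * z := congrArg Subtype.val (H.U_comm ⟨z, hz⟩ u)
    rw [← mul_assoc, h3, mul_assoc, h4, mul_assoc]
  · intro hx
    have hx' := (memC x).mp hx
    have hxs : x ∈ ((H.M ⊔ H.U : Subgroup G) : Set G) := by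
      rw [sup_comm, H.hUM']
      trivial
    rw [Subgroup.mul_normal, Set.mem_mul] at hxs
    obtain ⟨m, hm, u, hu, rfl⟩ := hxs
    set A := H.rhoE ⟨m, hm⟩ with hA
    set r := H.β ⟨u, hu⟩ with hr
    have h4 : z * u = u * z := congrArg Subtype.val (H.U_comm ⟨z, hz⟩ ⟨u, hu⟩)
    have h3 : m⁻¹ * z * m = z := by
      have e1 : z * m * u = m * z * u := by
        rw [mul_assoc, hx', mul_assoc, ← h4, mul_assoc]
      have e2 : z * m = m * z := mul_right_cancel e1
      rw [mul_assoc, e2, inv_mul_cancel_left]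
    have h5 := H.conj_coord (⟨m, hm⟩⁻¹ : ↥H.M) ⟨z, hz⟩
    rw [map_inv, inv_inv, hβz, Matrix.single_one_vecMul] at h5
    have h6 : MulAut.conjNormal (((⟨m, hm⟩⁻¹ : ↥H.M) : ↥H.M) : G) (⟨z, hz⟩ : ↥H.U) = ⟨z, hz⟩ := by
      apply Subtype.ext
      rw [MulAut.conjNormal_apply]
      show m⁻¹ * z * m⁻¹⁻¹ = z
      rw [inv_inv, h3]
    rw [h6, hβz] at h5
    have hA0 : (A : Matrix (Fin (n + 1)) (Fin (n + 1)) (ZMod 2)) 0 = Pi.single 0 1 := h5.symm
    -- the matrix
    have hinv : affMk r (A : Matrix (Fin (n + 1)) (Fin (n + 1)) (ZMod 2)) *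
        affMk (r ᵥ* (↑A⁻¹ : Matrix (Fin (n + 1)) (Fin (n + 1)) (ZMod 2)))
          (↑A⁻¹ : Matrix (Fin (n + 1)) (Fin (n + 1)) (ZMod 2)) = 1 := by
      rw [affMk_mul, CharTwo.add_self_eq_zero, Units.mul_inv, affMk_one]
    have hdet := det_eq_one_of_mul_eq_one hinv
    let gSL : Matrix.SpecialLinearGroup (Fin (n + 2)) (ZMod 2) :=
      ⟨affMk r (A : Matrix (Fin (n + 1)) (Fin (n + 1)) (ZMod 2)), hdet⟩
    have hmem : gSL ∈ Subgroup.centralizer
        ({t} : Set (Matrix.SpecialLinearGroup (Fin (n + 2)) (ZMod 2))) := by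
      rw [mem_centralizer_transvection_iff t ht]
      apply tshape_iff_aff.mpr
      refine ⟨rfl, fun i => rfl, ?_⟩
      show affSub (affMk r (A : Matrix (Fin (n + 1)) (Fin (n + 1)) (ZMod 2))) 0 = _
      rw [affSub_mk]
      exact hA0
    refine ⟨⟨gSL, hmem⟩, ?_⟩
    rw [centHom_apply]
    have hAu : affUnit t ht ⟨gSL, hmem⟩ = A := by
      apply Units.ext
      rw [affUnit_val]
      show affSub (affMk r (A : Matrix (Fin (n + 1)) (Fin (n + 1)) (ZMod 2))) = _
      rw [affSub_mk]
    have hru : affRow (cmat t ⟨gSL, hmem⟩) = r := by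
      show affRow (affMk r (A : Matrix (Fin (n + 1)) (Fin (n + 1)) (ZMod 2))) = _
      rw [affRow_mk]
    rw [hAu, hru, hA, hr, MulEquiv.symm_apply_apply, Equiv.symm_apply_apply]

/-- the centraliser of the first basis vector is the centraliser of the transvection. -/
noncomputable def centEquiv (z : G) (hz : z ∈ H.U) (hβz : H.β ⟨z, hz⟩ = Pi.single 0 1)
    (C : Subgroup G) (memC : ∀ x, x ∈ C ↔ z * x = x * z) :
    ↥(Subgroup.centralizer ({t} : Set (Matrix.SpecialLinearGroup (Fin (n + 2)) (ZMod 2)))) ≃* ↥C :=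
  (MonoidHom.ofInjective (H.centHom_injective t ht)).trans
    (MulEquiv.subgroupCongr (H.centHom_range t ht z hz hβz C memC))

end iso

end HolData

end Cfsg.Agent.Lib.Helper93
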