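import Mathlib

set_option autoImplicit false

namespace Cfsg.Agent.Lib.Helper93.IPA

universe u

theorem exists_between_index {G : Type u} [Group G] [Finite G] (K N : Subgroup G) [K.Normal] (hKN : K ≤ N)
    {r : ℕ} (hr : r.Prime) (hidx : ∃ a : ℕ, 0 < a ∧ K.relIndex N = r ^ a) :
    ∃ H : Subgroup G, K ≤ H ∧ H ≤ N ∧ H.relIndex N = r := by
  obtain ⟨a, ha, hidx⟩ := hidx
  have : Fact r.Prime := ⟨hr⟩
  set K' : Subgroup ↥N := K.subgroupOf N with hK'
  have hK'n : K'.Normal := by rw [hK']; infer_instance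
  have hQ : Nat.card (↥N ⧸ K') = r ^ a := by
    rw [← Subgroup.index_eq_card, hK']
    exact hidx
  obtain ⟨a', rfl⟩ : ∃ a', a = a' + 1 := ⟨a - 1, by omega⟩
  obtain ⟨M, hM⟩ := Sylow.exists_subgroup_card_pow_prime r (n := a') (G := ↥N ⧸ K')
    (by rw [hQ]; exact ⟨r, by ring⟩)
  have hMi : M.index = r := by
    have h1 := Subgroup.card_mul_index M
    rw [hM, hQ, pow_succ] at h1
    exact Nat.eq_of_mul_eq_mul_left (pow_pos hr.pos a') h1
  set H' : Subgroup ↥N := M.comap (QuotientGroup.mk' K') with hH'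
  have hH'i : H'.index = r := by
    rw [hH', Subgroup.index_comap_of_surjective M (QuotientGroup.mk'_surjective K'), hMi]
  have hKH' : K' ≤ H' := by
    intro x hx
    rw [hH', Subgroup.mem_comap]
    have : QuotientGroup.mk' K' x = 1 := by
      rw [QuotientGroup.mk'_apply, QuotientGroup.eq_one_iff]
      exact hx
    rw [this]
    exact M.one_mem
  refine ⟨H'.map N.subtype, ?_, Subgroup.map_subtype_le H', ?_⟩
  · intro k hk
    refine ⟨⟨k, hKN hk⟩, hKH' ?_, rfl⟩
    rw [hK', Subgroup.mem_subgroupOf]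
    exact hk
  · rw [Subgroup.relIndex, Subgroup.subgroupOf,
      Subgroup.comap_map_eq_self_of_injective (Subgroup.subtype_injective N) H', hH'i]

end Cfsg.Agent.Lib.Helper93.IPA
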