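import Cfsg.Agent.S1524
import Cfsg.Agent.Lib.Helper31.FittingHall
import Cfsg.Agent.Lib.Helper33.CNFrob

/-!
# K-1542 pack (S1542), leaf F1 (154203): the TI case via Sibley's theorem (`S1524`)
-/

set_option autoImplicit false

namespace Cfsg.Agent.Lib.Helper93.K1542

open Cfsg

/-- **Leaf F1**: the TI case, via Sibley (`S1524`), for induction. -/
theorem coherent_ind_of_TI {G : Type*} [Group G] [Fintype G] (hG : Cfsg.IsMinSimpleOddOrder G)
    (L : Subgroup G) [Fintype L] (hL : IsCoatom L) (hF : Cfsg.IsOfTypeF ↥L)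
    (hfrob : ∀ x ∈ Cfsg.fittingHallOf L, x ≠ 1 →
      L ⊓ Subgroup.centralizer ({x} : Set G) ≤ Cfsg.fittingHallOf L)
    (hTI : Cfsg.IsTISubset (Cfsg.fittingHallOf L : Set G)) :
    Cfsg.IsCoherent (Cfsg.inducedIrrAbove (Cfsg.fittingHall L) ⊥) {1}ᶜ
      (fun α : L → ℂ => Cfsg.indFun L α) := by
  obtain ⟨-, hodd, hK1, hK2, U, hU1, hcompl, -, -⟩ := hF
  have hinj : Function.Injective L.subtype := L.subtype_injective
  have hsub : (Cfsg.fittingHallOf L).subgroupOf L = Cfsg.fittingHall ↥L := by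
    unfold Cfsg.fittingHallOf Subgroup.subgroupOf
    exact Subgroup.comap_map_eq_self_of_injective hinj _
  have hsimple : IsSimpleGroup G := hG.2.1
  have hHL : Cfsg.fittingHallOf L ≤ L := Subgroup.map_subtype_le _
  have hWL : U.map L.subtype ≤ L := Subgroup.map_subtype_le _
  have hH1 : Cfsg.fittingHallOf L ≠ ⊥ := by
    intro h
    apply hK1
    exact (Subgroup.map_eq_bot_iff_of_injective _ hinj).1 h
  have hW1 : U.map L.subtype ≠ ⊥ := by
    intro h
    apply hU1
    exact (Subgroup.map_eq_bot_iff_of_injective _ hinj).1 h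
  have hAM := Cfsg.Agent.Lib.Helper31.le_normalizer_fittingHallOf L
  have hN : Subgroup.normalizer (Cfsg.fittingHallOf L : Set G) = L := by
    rcases eq_or_lt_of_le hAM with h | h
    · exact h.symm
    · exfalso
      have htop : Subgroup.normalizer (Cfsg.fittingHallOf L : Set G) = ⊤ := hL.2 _ h
      have hn : (Cfsg.fittingHallOf L).Normal := Subgroup.normalizer_eq_top_iff.1 htop
      rcases IsSimpleGroup.eq_bot_or_eq_top_of_normal _ hn with h1 | h1
      · exact hH1 h1
      · exact hL.1 (top_le_iff.1 (h1 ▸ hHL))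
  have hnil : Group.IsNilpotent ↥(Cfsg.fittingHallOf L) := by
    have := Cfsg.Agent.Lib.Helper33.fittingHall_isNilpotent ↥L
    exact Group.nilpotent_of_mulEquiv
      (Subgroup.equivMapOfInjective (fittingHall ↥L) L.subtype hinj)
  have hinf : Cfsg.fittingHallOf L ⊓ U.map L.subtype = ⊥ := by
    unfold Cfsg.fittingHallOf
    rw [← Subgroup.map_inf _ _ L.subtype hinj, hcompl.disjoint.eq_bot, Subgroup.map_bot]
  have hsup : Cfsg.fittingHallOf L ⊔ U.map L.subtype = L := by
    unfold Cfsg.fittingHallOf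
    rw [← Subgroup.map_sup, hcompl.sup_eq_top, ← MonoidHom.range_eq_map, Subgroup.range_subtype]
  have hHn : ∀ x ∈ L, ∀ h ∈ Cfsg.fittingHallOf L, x * h * x⁻¹ ∈ Cfsg.fittingHallOf L := by
    intro x hx h hh
    exact (Subgroup.mem_normalizer_iff.1 (hAM hx) h).1 hh
  have hfpf : ∀ w ∈ U.map L.subtype, w ≠ 1 → ∀ h ∈ Cfsg.fittingHallOf L,
      w * h = h * w → h = 1 := by
    intro w hw hw1 h hh hcomm
    by_contra hne
    have hle := hfrob h hh hne
    have hwC : w ∈ Subgroup.centralizer ({h} : Set G) := by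
      rw [Subgroup.mem_centralizer_iff]
      intro y hy
      rw [Set.mem_singleton_iff] at hy
      rw [hy]
      exact hcomm.symm
    have hwH : w ∈ Cfsg.fittingHallOf L := hle ⟨hWL hw, hwC⟩
    have : w ∈ Cfsg.fittingHallOf L ⊓ U.map L.subtype := ⟨hwH, hw⟩
    rw [hinf, Subgroup.mem_bot] at this
    exact hw1 this
  have key := Cfsg.Agent.S1524.result (Cfsg.fittingHallOf L) L (U.map L.subtype) hodd hHL hWL
    hH1 hW1 hnil hHn hinf hsup hfpf hTI hN
  rw [hsub] at key
  exact key

end Cfsg.Agent.Lib.Helper93.K1542
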