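import Cfsg.Agent.Lib.Helper93.L211Data
import Cfsg.Agent.Lib.Helper93.DodConj
import Mathlib.LinearAlgebra.Matrix.ProjectiveSpecialLinearGroup

/-!
The stabiliser of the point at infinity in `Cfsg.Spor.M11` is isomorphic to `PSL(2, 11)`: an explicit
homomorphism from `SL(2, ZMod 11)` given on the Bruhat normal form, checked on the two transvections
`[1 1; 0 1]` and `[1 0; 1 1]` against all matrices.
-/

set_option autoImplicit false

namespace Cfsg.Agent.Lib.Helper93

open Cfsg Cfsg.Agent.Lib.Helper10 MulAction Matrix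
open scoped MatrixGroups Pointwise

theorem fact_prime_eleven : Fact (Nat.Prime 11) := ⟨by norm_num⟩

attribute [local instance] fact_prime_eleven

/-- the image of a matrix. -/
def slF (M : SL(2, ZMod 11)) : Equiv.Perm GolayPt :=
  m11W (slWord (M.1 0 0) (M.1 0 1) (M.1 1 0) (M.1 1 1))

theorem sl_det (M : SL(2, ZMod 11)) : M.1 0 0 * M.1 1 1 - M.1 0 1 * M.1 1 0 = 1 := by
  rw [← Matrix.det_fin_two]; exact M.2

theorem m11W_cons (e : ℕ) (w : List ℕ) : m11W (e :: w) = m11el e * m11W w := by
  simp [m11W]

theorem m11W_append (w w' : List ℕ) : m11W (w ++ w') = m11W w * m11W w' := by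
  simp [m11W, List.map_append, List.prod_append]

theorem m11W_nil : m11W [] = 1 := by simp [m11W]

theorem slWord_lt' (a b c d : ZMod 11) : ∀ e ∈ slWord a b c d, e < 7920 := by
  intro e he
  have h := slWord_lt a b c d
  rw [List.all_eq_true] at h
  exact of_decide_eq_true (h e he)

theorem slF_mem (M : SL(2, ZMod 11)) : slF M ∈ Spor.M11 :=
  m11W_mem _ (slWord_lt' _ _ _ _)

theorem none_eq_pt : (none : GolayPt) = pt 23 := by decide

theorem slF_fix (M : SL(2, ZMod 11)) : slF M (none : GolayPt) = none := by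
  apply idx_injective
  unfold slF
  rw [none_eq_pt, idx_m11W _ (slWord_lt' _ _ _ _), idx_pt (by norm_num)]
  exact slWord_fix _ _ _ _

/-- the multiplicativity property in the first argument. -/
def slP (A : SL(2, ZMod 11)) : Prop := ∀ g, slF (A * g) = slF A * slF g

theorem slP_mul (A B : SL(2, ZMod 11)) (hA : slP A) (hB : slP B) : slP (A * B) := by
  intro g
  rw [mul_assoc, hA, hB, hA B, mul_assoc]

theorem slF_one : slF 1 = 1 := by
  unfold slF
  have : m11W (slWord 1 0 0 1) = m11W [] := m11W_eq_of_same slWord_one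
  simpa [m11W_nil] using this

theorem slP_one : slP 1 := by
  intro g
  rw [one_mul, slF_one, one_mul]

theorem slP_t01 (h : (0 : Fin 2) ≠ 1) : slP (SpecialLinearGroup.transvection h (1 : ZMod 11)) := by
  intro g
  have e1 : slF (SpecialLinearGroup.transvection h (1 : ZMod 11)) = m11el 720 := by
    unfold slF
    have : m11W (slWord 1 1 0 1) = m11W [720] := m11W_eq_of_same slWord_u
    rw [m11W_singleton] at this
    rw [← this]
    simp [SpecialLinearGroup.transvection_coe]
  have e2 : slF (SpecialLinearGroup.transvection h (1 : ZMod 11) * g) =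
      m11W (slWord (g.1 0 0 + g.1 1 0) (g.1 0 1 + g.1 1 1) (g.1 1 0) (g.1 1 1)) := by
    unfold slF
    simp [SpecialLinearGroup.transvection_coe, Matrix.single_apply,
      Matrix.mul_apply, Fin.sum_univ_two]
  rw [e1, e2, m11W_eq_of_same (slWord_t01 _ _ _ _ (sl_det g)), m11W_cons]
  rfl

theorem slP_t10 (h : (1 : Fin 2) ≠ 0) : slP (SpecialLinearGroup.transvection h (1 : ZMod 11)) := by
  intro g
  have e1 : slF (SpecialLinearGroup.transvection h (1 : ZMod 11)) = m11W (slWord 1 0 1 1) := by
    unfold slF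
    simp [SpecialLinearGroup.transvection_coe]
  have e2 : slF (SpecialLinearGroup.transvection h (1 : ZMod 11) * g) =
      m11W (slWord (g.1 0 0) (g.1 0 1) (g.1 0 0 + g.1 1 0) (g.1 0 1 + g.1 1 1)) := by
    unfold slF
    simp [SpecialLinearGroup.transvection_coe, Matrix.single_apply,
      Matrix.mul_apply, Fin.sum_univ_two]
  rw [e1, e2, add_comm (g.1 0 0) (g.1 1 0), add_comm (g.1 0 1) (g.1 1 1),
    m11W_eq_of_same (slWord_t10 _ _ _ _ (sl_det g)), m11W_append]
  rfl

theorem slP_transvection {i j : Fin 2} (h : i ≠ j) (hone : slP (SpecialLinearGroup.transvection h 1))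
    (c : ZMod 11) : slP (SpecialLinearGroup.transvection h c) := by
  have key : ∀ n : ℕ, slP (SpecialLinearGroup.transvection h ((n : ℕ) : ZMod 11)) := by
    intro n
    induction n with
    | zero =>
      rw [Nat.cast_zero, SpecialLinearGroup.transvection_coeff_zero]
      exact slP_one
    | succ n ih =>
      rw [Nat.cast_succ, SpecialLinearGroup.transvection_add]
      exact slP_mul _ _ ih hone
  have := key c.val
  rwa [ZMod.natCast_zmod_val] at this

theorem slF_mul (A g : SL(2, ZMod 11)) : slF (A * g) = slF A * slF g := by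
  have hA : slP A := by
    refine SL2.transvection_induction slP ?_ slP_mul A
    intro i j h c
    fin_cases i <;> fin_cases j
    · exact absurd rfl h
    · exact slP_transvection h (slP_t01 h) c
    · exact slP_transvection h (slP_t10 h) c
    · exact absurd rfl h
  exact hA g

/-- the homomorphism. -/
def slHom : SL(2, ZMod 11) →* Equiv.Perm GolayPt := MonoidHom.mk' slF slF_mul

theorem slHom_apply (M : SL(2, ZMod 11)) : slHom M = slF M := rfl

/-- the matrix with given entries. -/
def slMk (a b c d : ZMod 11) (h : a * d - b * c = 1) : SL(2, ZMod 11) :=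
  ⟨!![a, b; c, d], by rw [Matrix.det_fin_two_of]; exact h⟩

theorem slF_slMk (a b c d : ZMod 11) (h : a * d - b * c = 1) :
    slF (slMk a b c d h) = m11W (slWord a b c d) := rfl

/-- the stabiliser of the point at infinity in `M11`. -/
def l211 : Subgroup (Equiv.Perm GolayPt) :=
  Spor.M11 ⊓ stabilizer (Equiv.Perm GolayPt) (none : GolayPt)

theorem slF_base {M : SL(2, ZMod 11)} (h : slF M = 1) :
    ∀ i ∈ [1, 2, 3, 4], m11Wact (slWord (M.1 0 0) (M.1 0 1) (M.1 1 0) (M.1 1 1)) i = i := by
  intro i hi
  have hi24 : i < 24 := by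
    simp only [List.mem_cons, List.not_mem_nil, or_false] at hi
    omega
  have := idx_m11W _ (slWord_lt' (M.1 0 0) (M.1 0 1) (M.1 1 0) (M.1 1 1)) (pt i)
  unfold slF at h
  rw [h, idx_pt hi24] at this
  simpa [idx_pt hi24] using this.symm

theorem slHom_ker : slHom.ker = Subgroup.center SL(2, ZMod 11) := by
  ext M
  rw [MonoidHom.mem_ker, slHom_apply, Matrix.SpecialLinearGroup.mem_center_iff]
  constructor
  · intro h
    have hb := slF_base h
    have hk := slWord_ker _ _ _ _ (sl_det M)
    rw [Bool.or_eq_true] at hk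
    rcases hk with hk | hk
    · obtain ⟨h01, h10, h00⟩ := of_decide_eq_true hk
      refine ⟨M.1 0 0, ?_, ?_⟩
      · have hd := sl_det M
        rw [h01, zero_mul, sub_zero, ← h00] at hd
        simpa [pow_two] using hd
      · ext i j
        fin_cases i <;> fin_cases j <;> simp [h01, h10, h00]
    · exfalso
      rw [Bool.not_eq_true', ← Bool.not_eq_true, List.all_eq_true] at hk
      apply hk
      intro i hi
      rw [beq_iff_eq]
      exact hb i hi
  · rintro ⟨r, hr, hM⟩
    have h00 : M.1 0 0 = r := by rw [← hM]; simp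
    have h01 : M.1 0 1 = 0 := by rw [← hM]; simp
    have h10 : M.1 1 0 = 0 := by rw [← hM]; simp
    have h11 : M.1 1 1 = r := by rw [← hM]; simp
    unfold slF
    rw [h00, h01, h10, h11]
    have hr2 : r * r = 1 := by simpa [pow_two] using hr
    rw [m11W_eq_of_same (slWord_scalar r hr2), m11W_nil]

theorem slHom_range : slHom.range = l211 := by
  ext g
  constructor
  · rintro ⟨M, rfl⟩
    exact Subgroup.mem_inf.mpr ⟨slF_mem M, mem_stabilizer_iff.mpr (slF_fix M)⟩
  · intro hg
    obtain ⟨hg1, hg2⟩ := Subgroup.mem_inf.mp hg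
    obtain ⟨e, he, rfl⟩ := m11_surj hg1
    have hfix : m11act e 23 = 23 := by
      have h1 : m11el e (pt 23) = pt 23 := by
        rw [← none_eq_pt]; exact mem_stabilizer_iff.mp hg2
      have := idx_m11el he (pt 23)
      rw [h1, idx_pt (by norm_num)] at this
      exact this.symm
    have hall := slPreL_all
    rw [List.all_eq_true] at hall
    have h2 := hall e (List.mem_range.mpr he)
    rw [Bool.or_eq_true] at h2
    rcases h2 with h2 | h2
    · rw [bne_iff_ne] at h2
      exact absurd hfix h2
    · rw [List.any_eq_true] at h2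
      obtain ⟨p, hp, hpe⟩ := h2
      rw [beq_iff_eq] at hpe
      have hok := slPreL_ok
      rw [List.all_eq_true] at hok
      have h3 := hok p hp
      unfold slPreOk at h3
      rw [Bool.and_eq_true] at h3
      obtain ⟨hdet, hsame⟩ := h3
      have hdet' := of_decide_eq_true hdet
      refine ⟨slMk _ _ _ _ hdet', ?_⟩
      rw [slHom_apply, slF_slMk]
      have := m11W_eq_of_same hsame
      rw [m11W_singleton, hpe] at this
      exact this.symm

/-- the stabiliser of the point at infinity in `M11` is isomorphic to `PSL(2, 11)`. -/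
theorem l211_equiv : Nonempty (↥l211 ≃* PSL(2, ZMod 11)) :=
  ⟨((MulEquiv.subgroupCongr slHom_range).symm.trans
    (QuotientGroup.quotientKerEquivRange slHom).symm).trans
      (QuotientGroup.quotientMulEquivOfEq slHom_ker)⟩

/-! ### An arbitrary dodecad, a point on it and a point off it -/

theorem mem_map_subtype_stab3 (d : Finset GolayPt) (p q : GolayPt) (x : Equiv.Perm GolayPt) :
    x ∈ (stabilizer ↥M24 d ⊓ stabilizer ↥M24 p ⊓ stabilizer ↥M24 q).map M24.subtype ↔
      x ∈ M24 ∧ x • d = d ∧ x p = p ∧ x q = q := by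
  constructor
  · rintro ⟨k, hk, rfl⟩
    exact ⟨k.2, mem_stabilizer_iff.mp hk.1.1, mem_stabilizer_iff.mp hk.1.2,
      mem_stabilizer_iff.mp hk.2⟩
  · rintro ⟨h1, h2, h3, h4⟩
    exact ⟨⟨x, h1⟩, ⟨⟨mem_stabilizer_iff.mpr h2, mem_stabilizer_iff.mpr h3⟩,
      mem_stabilizer_iff.mpr h4⟩, rfl⟩

theorem mem_map_conj_l211 {c : Equiv.Perm GolayPt} (hc : c ∈ M24) (x : Equiv.Perm GolayPt) :
    x ∈ l211.map (MulAut.conj c).toMonoidHom ↔
      x ∈ M24 ∧ x • (c • Spor.squareDodecad) = c • Spor.squareDodecad ∧
        x (c (some 0)) = c (some 0) ∧ x (c none) = c none := by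
  unfold l211
  rw [Subgroup.map_inf _ _ _ (MulAut.conj c).injective, Subgroup.mem_inf, mem_map_conj_M11 hc,
    Subgroup.mem_map_equiv, MulAut.conj_symm_apply, mem_stabilizer_iff (a := (none : GolayPt))]
  have h0 : (c⁻¹ * x * c) • (none : GolayPt) = none ↔ x (c none) = c none := by
    rw [mul_smul, mul_smul, inv_smul_eq_iff]
    rfl
  rw [h0, and_assoc, and_assoc]

theorem exists_m11_off (q : GolayPt) (hq : q ∉ Spor.squareDodecad) :
    ∃ t ∈ Spor.M11, t none = q := by
  have hbit : sqMask.testBit (idx q) = false := by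
    rw [mem_sq_iff] at hq
    simpa using hq
  have h := m11offTr_ok
  rw [List.all_eq_true] at h
  have h1 := h (idx q) (List.mem_range.mpr (idx_lt q))
  rw [hbit, Bool.false_or, List.any_eq_true] at h1
  obtain ⟨pr, _, hpr⟩ := h1
  rw [Bool.and_eq_true, Bool.and_eq_true, beq_iff_eq, beq_iff_eq] at hpr
  obtain ⟨⟨_, hlt⟩, hact⟩ := hpr
  have hlt' : pr.2 < 7920 := of_decide_eq_true hlt
  refine ⟨m11el pr.2, m11el_mem hlt', ?_⟩
  apply idx_injective
  rw [none_eq_pt, idx_m11el hlt', idx_pt (by norm_num)]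
  exact hact

/-- the stabiliser of a dodecad, a point on it and a point off it is isomorphic to the stabiliser
of the point at infinity in `M11`. -/
theorem nonempty_equiv_l211 {d : Finset GolayPt} (hd : d ∈ dodecads) {p q : GolayPt} (hp : p ∈ d)
    (hq : q ∉ d) :
    Nonempty (↥(stabilizer ↥M24 d ⊓ stabilizer ↥M24 p ⊓ stabilizer ↥M24 q) ≃* ↥l211) := by
  obtain ⟨c, hc, hcd, hcp⟩ := exists_conj_sq hd hp
  have hq' : c⁻¹ q ∉ Spor.squareDodecad := by
    intro h
    apply hq
    rw [← hcd]
    have := Finset.smul_mem_smul_finset (a := c) h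
    rwa [show c • (c⁻¹ q) = q from perm_apply_inv c q] at this
  obtain ⟨t, ht, htq⟩ := exists_m11_off _ hq'
  have htM : t ∈ M24 := by
    unfold Spor.M11 Spor.M12 at ht
    exact (Subgroup.mem_inf.mp (Subgroup.mem_inf.mp ht).1).1
  have htD : t • Spor.squareDodecad = Spor.squareDodecad := by
    unfold Spor.M11 Spor.M12 at ht
    exact mem_stabilizer_iff.mp (Subgroup.mem_inf.mp (Subgroup.mem_inf.mp ht).1).2
  have ht0 : t (some 0) = some 0 := by
    unfold Spor.M11 at ht
    exact mem_stabilizer_iff.mp (Subgroup.mem_inf.mp ht).2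
  have hc' : c * t ∈ M24 := M24.mul_mem hc htM
  have hcd' : (c * t) • Spor.squareDodecad = d := by rw [mul_smul, htD, hcd]
  have hcp' : (c * t) (some 0) = p := by rw [Equiv.Perm.mul_apply, ht0, hcp]
  have hcq' : (c * t) none = q := by rw [Equiv.Perm.mul_apply, htq, perm_apply_inv]
  have heq : (stabilizer ↥M24 d ⊓ stabilizer ↥M24 p ⊓ stabilizer ↥M24 q).map M24.subtype
      = l211.map (MulAut.conj (c * t)).toMonoidHom := by
    ext x
    rw [mem_map_subtype_stab3, mem_map_conj_l211 hc', hcd', hcp', hcq']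
  exact ⟨((stabilizer ↥M24 d ⊓ stabilizer ↥M24 p ⊓ stabilizer ↥M24 q).equivMapOfInjective
    M24.subtype (Subgroup.subtype_injective _)).trans ((MulEquiv.subgroupCongr heq).trans
      (l211.equivMapOfInjective (MulAut.conj (c * t)).toMonoidHom
        (MulAut.conj (c * t)).injective).symm)⟩

end Cfsg.Agent.Lib.Helper93
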