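import Cfsg.Agent.Lib.Helper93.M21Data

/-!
The 20160 elements of the stabiliser of `0, 1, 2` in `Cfsg.M24`, numbered as products of four
tables; their action on indices, also by bit-packed tables for fast evaluation in the kernel; words
in the elements and the comparison of two words on the base points `3, 4, 5, 7`.
-/

set_option autoImplicit false

namespace Cfsg.Agent.Lib.Helper93

open Cfsg Cfsg.Agent.Lib.Helper10
open scoped Pointwise

/-! ### Numbering the elements -/

def m21x1 (e : ℕ) : List ℕ × List ℕ × List ℕ := m21lev1.getD (e / 960) ([], [], [])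
def m21x2 (e : ℕ) : List ℕ × List ℕ × List ℕ := m21lev2.getD (e / 48 % 20) ([], [], [])
def m21x3 (e : ℕ) : List ℕ × List ℕ × List ℕ := m21lev3.getD (e / 3 % 16) ([], [], [])
def m21x4 (e : ℕ) : List ℕ × List ℕ × List ℕ := m21lev4.getD (e % 3) ([], [], [])

/-- element number `e` of the group. -/
def m21el (e : ℕ) : Equiv.Perm GolayPt :=
  tabPerm (m21x1 e).1 (m21x1 e).2.1 * tabPerm (m21x2 e).1 (m21x2 e).2.1 *
    tabPerm (m21x3 e).1 (m21x3 e).2.1 * tabPerm (m21x4 e).1 (m21x4 e).2.1

/-- its action on indices. -/
def m21act (e i : ℕ) : ℕ :=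
  (m21x1 e).1.getD ((m21x2 e).1.getD ((m21x3 e).1.getD ((m21x4 e).1.getD i 0) 0) 0) 0

theorem m21lev1_length : m21lev1.length = 21 := by decide
theorem m21lev2_length : m21lev2.length = 20 := by decide
theorem m21lev3_length : m21lev3.length = 16 := by decide
theorem m21lev4_length : m21lev4.length = 3 := by decide

theorem m21_getD_mem {α : Type*} (l : List α) (d : α) {j : ℕ} (hj : j < l.length) : l.getD j d ∈ l := by
  rw [List.getD_eq_getElem _ _ hj]
  exact List.getElem_mem _

theorem m21x1_mem {e : ℕ} (he : e < 20160) : m21x1 e ∈ m21lev1 :=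
  m21_getD_mem _ _ (by rw [m21lev1_length]; omega)
theorem m21x2_mem (e : ℕ) : m21x2 e ∈ m21lev2 :=
  m21_getD_mem _ _ (by rw [m21lev2_length]; omega)
theorem m21x3_mem (e : ℕ) : m21x3 e ∈ m21lev3 :=
  m21_getD_mem _ _ (by rw [m21lev3_length]; omega)
theorem m21x4_mem (e : ℕ) : m21x4 e ∈ m21lev4 :=
  m21_getD_mem _ _ (by rw [m21lev4_length]; omega)

theorem m21el_mem {e : ℕ} (he : e < 20160) : m21el e ∈ fixG [2, 1, 0] := by
  have h1 : tabPerm (m21x1 e).1 (m21x1 e).2.1 ∈ fixG [2, 1, 0] :=
    fixG_of_stabG (fun i hi => hi) (sift_mem m21_sift1 (m21x1_mem he)).2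
  have h2 : tabPerm (m21x2 e).1 (m21x2 e).2.1 ∈ fixG [2, 1, 0] :=
    fixG_of_stabG (by simp) (sift_mem m21_sift2 (m21x2_mem e)).2
  have h3 : tabPerm (m21x3 e).1 (m21x3 e).2.1 ∈ fixG [2, 1, 0] :=
    fixG_of_stabG (by simp) (sift_mem m21_sift3 (m21x3_mem e)).2
  have h4 : tabPerm (m21x4 e).1 (m21x4 e).2.1 ∈ fixG [2, 1, 0] :=
    fixG_of_stabG (by simp) (sift_mem m21_sift4 (m21x4_mem e)).2
  exact (fixG [2, 1, 0]).mul_mem ((fixG [2, 1, 0]).mul_mem ((fixG [2, 1, 0]).mul_mem h1 h2) h3) h4

theorem idx_m21el {e : ℕ} (he : e < 20160) (p : GolayPt) : idx (m21el e p) = m21act e (idx p) := by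
  unfold m21el m21act
  simp only [Equiv.Perm.mul_apply]
  rw [idx_tabPerm (sift_mem m21_sift1 (m21x1_mem he)).1,
    idx_tabPerm (sift_mem m21_sift2 (m21x2_mem e)).1,
    idx_tabPerm (sift_mem m21_sift3 (m21x3_mem e)).1,
    idx_tabPerm (sift_mem m21_sift4 (m21x4_mem e)).1]

theorem m21_exists_getD {α : Type*} {l : List α} {x : α} (d : α) (hx : x ∈ l) :
    ∃ i < l.length, l.getD i d = x := by
  obtain ⟨i, hi, rfl⟩ := List.getElem_of_mem hx
  exact ⟨i, hi, List.getD_eq_getElem _ _ hi⟩

theorem m21_surj {g : Equiv.Perm GolayPt} (hg : g ∈ fixG [2, 1, 0]) : ∃ e < 20160, g = m21el e := by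
  obtain ⟨x1, hx1, x2, hx2, x3, hx3, x4, hx4, rfl⟩ := m21_factor hg
  obtain ⟨i1, hi1, rfl⟩ := m21_exists_getD ([], [], []) hx1
  obtain ⟨i2, hi2, rfl⟩ := m21_exists_getD ([], [], []) hx2
  obtain ⟨i3, hi3, rfl⟩ := m21_exists_getD ([], [], []) hx3
  obtain ⟨i4, hi4, rfl⟩ := m21_exists_getD ([], [], []) hx4
  rw [m21lev1_length] at hi1
  rw [m21lev2_length] at hi2
  rw [m21lev3_length] at hi3
  rw [m21lev4_length] at hi4
  refine ⟨i1 * 960 + i2 * 48 + i3 * 3 + i4, by omega, ?_⟩
  unfold m21el m21x1 m21x2 m21x3 m21x4
  have e1 : (i1 * 960 + i2 * 48 + i3 * 3 + i4) / 960 = i1 := by omega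
  have e2 : (i1 * 960 + i2 * 48 + i3 * 3 + i4) / 48 % 20 = i2 := by omega
  have e3 : (i1 * 960 + i2 * 48 + i3 * 3 + i4) / 3 % 16 = i3 := by omega
  have e4 : (i1 * 960 + i2 * 48 + i3 * 3 + i4) % 3 = i4 := by omega
  rw [e1, e2, e3, e4]

/-- two elements of the group with the same images of `3, 4, 5, 7` are equal. -/
theorem m21_eq_of_base {a b : Equiv.Perm GolayPt} (ha : a ∈ fixG [2, 1, 0]) (hb : b ∈ fixG [2, 1, 0])
    (h : ∀ i ∈ [3, 4, 5, 7], a (pt i) = b (pt i)) : a = b := by
  have hmul := (fixG [2, 1, 0]).mul_mem ((fixG [2, 1, 0]).inv_mem hb) ha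
  obtain ⟨h1, h3⟩ := mem_fixG.mp hmul
  have h5 : b⁻¹ * a ∈ fixG [7, 5, 4, 3, 2, 1, 0] := by
    rw [mem_fixG]
    refine ⟨h1, ?_⟩
    intro i hi
    simp only [List.mem_cons, List.not_mem_nil, or_false] at hi
    rcases hi with rfl | rfl | rfl | rfl | rfl | rfl | rfl
    · rw [Equiv.Perm.mul_apply, Equiv.Perm.inv_eq_iff_eq]; exact h 7 (by simp)
    · rw [Equiv.Perm.mul_apply, Equiv.Perm.inv_eq_iff_eq]; exact h 5 (by simp)
    · rw [Equiv.Perm.mul_apply, Equiv.Perm.inv_eq_iff_eq]; exact h 4 (by simp)
    · rw [Equiv.Perm.mul_apply, Equiv.Perm.inv_eq_iff_eq]; exact h 3 (by simp)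
    · exact h3 2 (by simp)
    · exact h3 1 (by simp)
    · exact h3 0 (by simp)
  have := m21_rigid h5
  rw [inv_mul_eq_one] at this
  exact this.symm

/-! ### Packed tables -/

/-- entry `i` of table number `j` of a packed level. -/
def lookP (T j i : ℕ) : ℕ := (T >>> (120 * j + 5 * i)) &&& 31

/-- the tables of level 1, packed: 5 bits per entry, 120 bits per table. -/
def m21P1 : ℕ := 138995678837486881565521043524190806333094867711974571112945481745776337045715698712518777914986280872985052666674004600027706244750450235781461872026786719752571350904618514922273578295241433511350302471855931191827617813915013110080480599756511249624136721865919526397328215944675709261043657567294083861904047370653059171988223183461935176283883231486310670176558251382998725371991137369974242112101640267874427535081806668380827673150054692600059372101446126741900943599998092082424341152154944428276333565259932230554196298191260529119306381480039416460281994133738471075714622278974099751560149041065989813287761628352971854068005393613599975727496043512733576669580494445498277761361137832811434959770189993385962410093028184742200956877517301460600864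

/-- the tables of level 2, packed: 5 bits per entry, 120 bits per table. -/
def m21P2 : ℕ := 61816449767057271733988344274004228545335180744980196859076647446584722832169671713498390773730116100612485135474259528018785805078591214201714790690734525842610181492610986989327423892944535613522122889522985111120674003487871756251531042746803245564113273887917364912236480635056634367403338360387743767306691942954034989217164329692527566281625074594138408997315181537604333943145455564973552765691185383289974834711327854532575425835523858155090751690752615676850360464539029074216532241952823722061072798094168621013212871402560066777573389140471346420547091257963954866138439245123600324875682201994671635991183753167683886483158533809183926449122617633746314410056595798105524576584618346122955904566473674115352608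

/-- the tables of level 3, packed: 5 bits per entry, 120 bits per table. -/
def m21P3 : ℕ := 42324573204302161576109233763303092031863789257233466278392619821644666988979436220096352065584070975629791349592199397055841348373625304762675005446144685519387889142795085759270327931992518629630526424278626736677848037673282113508435988757711341967756291551172819334750423983053436946209889343232970312533533202902288890197670729834659433554815672467875428681532787978423456083085830215285668134069887531098628498749492428422946657112806737413980179312583766966299535661059579169443360650574507759736646987573159100415470982865480118147602596385223601857721004079435149838368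

/-- the tables of level 4, packed: 5 bits per entry, 120 bits per table. -/
def m21P4 : ℕ := 1074538370834860553794457407257096659234264428761403300271309231264737864400437084620555782436623735079405600


/-- a packed level agrees with the list of tables. -/
def packOk (T : ℕ) (lev : List (List ℕ × List ℕ × List ℕ)) : Bool :=
  (List.range lev.length).all (fun j => (List.range 24).all (fun i =>
    lookP T j i == (lev.getD j ([], [], [])).1.getD i 0))

theorem packOk_spec {T : ℕ} {lev : List (List ℕ × List ℕ × List ℕ)} (h : packOk T lev = true)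
    {j i : ℕ} (hj : j < lev.length) (hi : i < 24) :
    lookP T j i = (lev.getD j ([], [], [])).1.getD i 0 := by
  have := (List.all_eq_true.mp ((List.all_eq_true.mp h) j (List.mem_range.mpr hj))) i
    (List.mem_range.mpr hi)
  rwa [beq_iff_eq] at this

theorem m21P1_ok : packOk m21P1 m21lev1 = true := by decide +kernel
theorem m21P2_ok : packOk m21P2 m21lev2 = true := by decide +kernel
theorem m21P3_ok : packOk m21P3 m21lev3 = true := by decide +kernel
theorem m21P4_ok : packOk m21P4 m21lev4 = true := by decide +kernel

/-- the action on indices of element number `e`, by the packed tables. -/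
def m21actP (e i : ℕ) : ℕ :=
  lookP m21P1 (e / 960) (lookP m21P2 (e / 48 % 20) (lookP m21P3 (e / 3 % 16)
    (lookP m21P4 (e % 3) i)))

theorem m21act_lt {e : ℕ} (he : e < 20160) {i : ℕ} (hi : i < 24) : m21act e i < 24 := by
  have h := idx_m21el he (pt i)
  rw [idx_pt hi] at h
  rw [← h]
  exact idx_lt _

theorem getD_lt_of_tabOk {t tinv : List ℕ} (h : tabOk t tinv = true) {i : ℕ} (hi : i < 24) :
    t.getD i 0 < 24 := (tabOk_spec h hi).1

theorem m21actP_eq {e : ℕ} (he : e < 20160) {i : ℕ} (hi : i < 24) : m21actP e i = m21act e i := by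
  unfold m21actP m21act m21x1 m21x2 m21x3 m21x4
  have l4 : e % 3 < m21lev4.length := by rw [m21lev4_length]; omega
  have l3 : e / 3 % 16 < m21lev3.length := by rw [m21lev3_length]; omega
  have l2 : e / 48 % 20 < m21lev2.length := by rw [m21lev2_length]; omega
  have l1 : e / 960 < m21lev1.length := by rw [m21lev1_length]; omega
  have b4 := getD_lt_of_tabOk (sift_mem m21_sift4 (m21x4_mem e)).1 hi
  rw [packOk_spec m21P4_ok l4 hi]
  have b3 := getD_lt_of_tabOk (sift_mem m21_sift3 (m21x3_mem e)).1 b4
  unfold m21x4 at b4 b3
  rw [packOk_spec m21P3_ok l3 b4]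
  have b2 := getD_lt_of_tabOk (sift_mem m21_sift2 (m21x2_mem e)).1 b3
  unfold m21x3 at b3 b2
  rw [packOk_spec m21P2_ok l2 b3]
  unfold m21x2 at b2
  rw [packOk_spec m21P1_ok l1 b2]

/-! ### Words -/

/-- the product of the elements with the numbers in `w`. -/
def m21W (w : List ℕ) : Equiv.Perm GolayPt := (w.map m21el).prod

/-- its action on indices. -/
def m21Wact : List ℕ → ℕ → ℕ
  | [], i => i
  | e :: w, i => m21act e (m21Wact w i)

theorem idx_m21W (w : List ℕ) (hw : ∀ e ∈ w, e < 20160) (p : GolayPt) :
    idx (m21W w p) = m21Wact w (idx p) := by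
  induction w with
  | nil => simp [m21W, m21Wact]
  | cons e w ih =>
    have he : e < 20160 := hw e (by simp)
    have ih' := ih (fun k hk => hw k (by simp [hk]))
    unfold m21W at ih' ⊢
    simp only [List.map_cons, List.prod_cons, Equiv.Perm.mul_apply, m21Wact]
    rw [idx_m21el he, ih']

theorem m21W_mem (w : List ℕ) (hw : ∀ e ∈ w, e < 20160) : m21W w ∈ fixG [2, 1, 0] := by
  unfold m21W
  apply Subgroup.list_prod_mem
  intro x hx
  rw [List.mem_map] at hx
  obtain ⟨e, he, rfl⟩ := hx
  exact m21el_mem (hw e he)

/-- the action of a word on indices, by the packed tables. -/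
def m21WactP : List ℕ → ℕ → ℕ
  | [], i => i
  | e :: w, i => m21actP e (m21WactP w i)

theorem m21WactP_eq (w : List ℕ) (hw : ∀ e ∈ w, e < 20160) {i : ℕ} (hi : i < 24) :
    m21WactP w i = m21Wact w i ∧ m21Wact w i < 24 := by
  induction w with
  | nil => exact ⟨rfl, hi⟩
  | cons e w ih =>
    have he : e < 20160 := hw e (by simp)
    obtain ⟨h1, h2⟩ := ih (fun k hk => hw k (by simp [hk]))
    unfold m21WactP m21Wact
    rw [h1, m21actP_eq he h2]
    exact ⟨rfl, m21act_lt he h2⟩

/-- the two words have entries below 20160 and the same action on `3, 4, 5, 7`. -/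
def m21same (w w' : List ℕ) : Bool :=
  w.all (fun e => decide (e < 20160)) && w'.all (fun e => decide (e < 20160)) &&
    [3, 4, 5, 7].all (fun i => m21WactP w i == m21WactP w' i)

theorem m21W_eq_of_same {w w' : List ℕ} (h : m21same w w' = true) : m21W w = m21W w' := by
  simp only [m21same, Bool.and_eq_true, List.all_eq_true, decide_eq_true_eq, beq_iff_eq] at h
  obtain ⟨⟨hw, hw'⟩, hb⟩ := h
  apply m21_eq_of_base (m21W_mem w hw) (m21W_mem w' hw')
  intro i hi
  apply idx_injective
  have hi24 : i < 24 := by
    simp only [List.mem_cons, List.not_mem_nil, or_false] at hi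
    omega
  rw [idx_m21W w hw, idx_m21W w' hw', idx_pt hi24, ← (m21WactP_eq w hw hi24).1,
    ← (m21WactP_eq w' hw' hi24).1]
  exact hb i hi

theorem m21W_singleton (e : ℕ) : m21W [e] = m21el e := by simp [m21W]
theorem m21W_pair (a b : ℕ) : m21W [a, b] = m21el a * m21el b := by simp [m21W]

end Cfsg.Agent.Lib.Helper93
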