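import Cfsg.Agent.Lib.Helper93.L34Data
import Cfsg.Agent.Lib.Helper93.M21Elt
import Cfsg.Agent.Lib.Helper93.M21Base
import Cfsg.Agent.Lib.Helper07.PSL27
import Cfsg.Agent.Lib.Helper07.SLGen
import Cfsg.Agent.Lib.Helper07.SLCard
import Mathlib.LinearAlgebra.Projectivization.Action

/-!
The pointwise stabiliser of three points in `Cfsg.M24` is isomorphic to `PSL(3, 4)`: the action of
`PSL(3, F4)` on the projective plane, carried to the 21 remaining points by the labelling of
`L34Data`, lands in `M24` (checked on the transvections) and has the right order.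
-/

set_option autoImplicit false

namespace Cfsg.Agent.Lib.Helper93

open Cfsg Cfsg.Agent.Lib.Helper10 MulAction Matrix
open Cfsg.Agent.Lib.Helper36 (F4)
open scoped LinearAlgebra.Projectivization MatrixGroups

/-- the projective plane over `F4`. -/
abbrev X34 : Type := ℙ F4 (Fin 3 → F4)

theorem vec3_ne_zero_iff (v : Fin 3 → F4) : v ≠ 0 ↔ (v 0 ≠ 0 ∨ v 1 ≠ 0 ∨ v 2 ≠ 0) := by
  constructor
  · intro h
    by_contra hc
    push Not at hc
    apply h
    funext i
    fin_cases i
    · exact hc.1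
    · exact hc.2.1
    · exact hc.2.2
  · rintro h rfl
    simp at h

theorem l34labF_smul (s : F4) (hs : s ≠ 0) (v : Fin 3 → F4) : l34labF (s • v) = l34labF v := by
  unfold l34labF
  simp only [Pi.smul_apply, smul_eq_mul]
  exact l34_scal s _ _ _ hs

theorem l34labF_range {v : Fin 3 → F4} (hv : v ≠ 0) : 3 ≤ l34labF v ∧ l34labF v < 24 :=
  l34_range _ _ _ ((vec3_ne_zero_iff v).mp hv)

/-- the point of the projective plane to the point of the code. -/
def l34β₀ : X34 → GolayPt :=
  Projectivization.lift (fun v : {v : Fin 3 → F4 // v ≠ 0} => pt (l34labF v.1)) (by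
    intro a b t h
    have ht : t ≠ 0 := by
      rintro rfl
      rw [zero_smul] at h
      exact a.2 h
    show pt (l34labF a.1) = pt (l34labF b.1)
    rw [h, l34labF_smul t ht])

theorem l34β₀_mk (v : Fin 3 → F4) (hv : v ≠ 0) :
    l34β₀ (Projectivization.mk F4 v hv) = pt (l34labF v) := rfl

theorem l34β₀_range (x : X34) : 3 ≤ idx (l34β₀ x) := by
  induction x using Projectivization.ind with
  | _ v hv =>
    rw [l34β₀_mk, idx_pt (l34labF_range hv).2]
    exact (l34labF_range hv).1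

/-- the same, into the subtype. -/
def l34β₁ (x : X34) : {p : GolayPt // 3 ≤ idx p} := ⟨l34β₀ x, l34β₀_range x⟩

theorem l34β₁_bij : Function.Bijective l34β₁ := by
  constructor
  · intro x y hxy
    have h : l34β₀ x = l34β₀ y := congrArg Subtype.val hxy
    induction x using Projectivization.ind with
    | _ v hv =>
    induction y using Projectivization.ind with
    | _ w hw =>
    rw [l34β₀_mk, l34β₀_mk] at h
    have h' : l34labF v = l34labF w := by
      have := congrArg idx h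
      rwa [idx_pt (l34labF_range hv).2, idx_pt (l34labF_range hw).2] at this
    obtain ⟨s, h0, h1, h2⟩ := l34_inj _ _ _ _ _ _ ((vec3_ne_zero_iff v).mp hv)
      ((vec3_ne_zero_iff w).mp hw) h'
    rw [Projectivization.mk_eq_mk_iff']
    refine ⟨s, ?_⟩
    funext i
    fin_cases i
    · exact h0.symm
    · exact h1.symm
    · exact h2.symm
  · rintro ⟨p, hp⟩
    have hs := l34_surj (idx p) (List.mem_range.mpr (idx_lt p)) hp
    have hv : l34vecF (idx p) ≠ 0 := (vec3_ne_zero_iff _).mpr hs.2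
    refine ⟨Projectivization.mk F4 (l34vecF (idx p)) hv, ?_⟩
    refine Subtype.ext ?_
    simp only [l34β₁]
    rw [l34β₀_mk, hs.1, pt_idx]

/-- the bijection of the projective plane with the 21 points. -/
noncomputable def l34f : X34 ≃ {p : GolayPt // 3 ≤ idx p} := Equiv.ofBijective l34β₁ l34β₁_bij

theorem l34f_mk (v : Fin 3 → F4) (hv : v ≠ 0) :
    ((l34f (Projectivization.mk F4 v hv) : {p : GolayPt // 3 ≤ idx p}) : GolayPt) =
      pt (l34labF v) := rfl

/-- the action of `SL(3, F4)` on the 24 points. -/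
noncomputable def l34Θ₀ : SL(3, F4) →* Equiv.Perm GolayPt :=
  (Equiv.Perm.extendDomainHom l34f).comp (MulAction.toPermHom SL(3, F4) X34)

theorem l34Θ₀_apply (g : SL(3, F4)) (v : Fin 3 → F4) (hv : v ≠ 0) :
    l34Θ₀ g (pt (l34labF v)) = pt (l34labF (g • v)) := by
  have hgv : g • v ≠ 0 := (smul_ne_zero_iff_ne g).mpr hv
  rw [← l34f_mk v hv, ← l34f_mk (g • v) hgv]
  show (MulAction.toPerm g : Equiv.Perm X34).extendDomain l34f _ = _
  rw [Equiv.Perm.extendDomain_apply_image]
  rfl

theorem l34Θ₀_fix (g : SL(3, F4)) (p : GolayPt) (hp : idx p < 3) : l34Θ₀ g p = p := by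
  show (MulAction.toPerm g : Equiv.Perm X34).extendDomain l34f p = p
  exact Equiv.Perm.extendDomain_apply_not_subtype _ _ (not_le.mpr hp)

theorem tv_smul {i j : Fin 3} (h : i ≠ j) (c : F4) (v : Fin 3 → F4) :
    (SpecialLinearGroup.transvection h c) • v = Function.update v i (v i + c * v j) := by
  rw [Matrix.SpecialLinearGroup.smul_def, SpecialLinearGroup.transvection_coe,
    Matrix.smul_eq_mulVec, Matrix.add_mulVec, Matrix.one_mulVec, Matrix.single_mulVec_eq]
  ext k
  by_cases hk : k = i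
  · subst hk
    simp
  · simp [hk]

/-- the image of a transvection named in the table is the permutation of the table. -/
theorem l34Θ₀_tv {x : ℕ × ℕ × ℕ × List ℕ × List ℕ × List ℕ} (hx : x ∈ l34Tv)
    (h : (Fin.ofNat 3 x.1 : Fin 3) ≠ Fin.ofNat 3 x.2.1) :
    l34Θ₀ (SpecialLinearGroup.transvection h (d4 x.2.2.1)) = tabPerm x.2.2.2.1 x.2.2.2.2.1 ∧
      tabPerm x.2.2.2.1 x.2.2.2.2.1 ∈ M24 := by
  have hok := (List.all_eq_true.mp l34Tv_ok) x hx
  unfold l34TvOk at hok
  rw [Bool.and_eq_true, Bool.and_eq_true, List.all_eq_true] at hok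
  obtain ⟨⟨htab, himg⟩, hall⟩ := hok
  refine ⟨?_, tabPerm_mem_M24 _ _ _ htab himg⟩
  refine Equiv.ext fun p => ?_
  apply idx_injective
  rw [idx_tabPerm htab]
  have hp := hall (idx p) (List.mem_range.mpr (idx_lt p))
  by_cases h3 : idx p < 3
  · rw [if_pos h3, beq_iff_eq] at hp
    rw [l34Θ₀_fix _ _ h3, hp]
  · rw [if_neg h3, beq_iff_eq] at hp
    have hs := l34_surj (idx p) (List.mem_range.mpr (idx_lt p)) (not_lt.mp h3)
    have hv : l34vecF (idx p) ≠ 0 := (vec3_ne_zero_iff _).mpr hs.2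
    have e : p = pt (l34labF (l34vecF (idx p))) := by rw [hs.1, pt_idx]
    conv_lhs => rw [e]
    rw [l34Θ₀_apply _ _ hv, tv_smul, hp, idx_pt]
    have := (tabOk_spec htab (idx_lt p)).1
    exact this

theorem l34Tv_lookup : ∀ i j : Fin 3, i ≠ j → ∀ c ∈ [1, 2],
    ∃ x ∈ l34Tv, Fin.ofNat 3 x.1 = i ∧ Fin.ofNat 3 x.2.1 = j ∧ x.2.2.1 = c := by
  decide

theorem l34Θ₀_tv_mem {i j : Fin 3} (h : i ≠ j) (c : F4) :
    l34Θ₀ (SpecialLinearGroup.transvection h c) ∈ M24 := by
  have key : ∀ n : ℕ, n ∈ [1, 2] →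
      l34Θ₀ (SpecialLinearGroup.transvection h (d4 n)) ∈ M24 := by
    intro n hn
    obtain ⟨x, hx, hi, hj, hc⟩ := l34Tv_lookup i j h n hn
    subst hi hj hc
    obtain ⟨h1, h2⟩ := l34Θ₀_tv hx h
    rw [h1]
    exact h2
  cases c with
  | z =>
    have : SpecialLinearGroup.transvection h (F4.z) = 1 :=
      SpecialLinearGroup.transvection_coeff_zero h
    rw [this, map_one]
    exact M24.one_mem
  | o => exact key 1 (by simp)
  | w => exact key 2 (by simp)
  | v =>
    have e : F4.v = F4.o + F4.w := by decide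
    rw [e, SpecialLinearGroup.transvection_add, map_mul]
    exact M24.mul_mem (key 1 (by simp)) (key 2 (by simp))

theorem l34Θ₀_mem (g : SL(3, F4)) : l34Θ₀ g ∈ fixG [2, 1, 0] := by
  rw [mem_fixG]
  refine ⟨?_, ?_⟩
  · refine Cfsg.Agent.Lib.Helper07.transvection_induction (fun g => l34Θ₀ g ∈ M24) ?_ ?_ ?_ g
    · rw [map_one]; exact M24.one_mem
    · intro i j h c
      exact l34Θ₀_tv_mem h c
    · intro A B hA hB
      rw [map_mul]
      exact M24.mul_mem hA hB
  · intro i hi
    apply l34Θ₀_fix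
    simp only [List.mem_cons, List.not_mem_nil, or_false] at hi
    rcases hi with rfl | rfl | rfl <;> rw [idx_pt (by norm_num)] <;> norm_num

/-- the action of `PSL(3, F4)` on the 24 points. -/
noncomputable def l34Θ : PSL(3, F4) →* Equiv.Perm GolayPt :=
  (Equiv.Perm.extendDomainHom l34f).comp Projectivization.PSLAction.toPermHom

theorem l34Θ_mk (g : SL(3, F4)) : l34Θ (QuotientGroup.mk g) = l34Θ₀ g := rfl

theorem l34Θ_injective : Function.Injective l34Θ :=
  (Equiv.Perm.extendDomainHom_injective l34f).comp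
    Matrix.ProjectiveSpecialLinearGroup.toPermHom_injective

theorem l34Θ_range_le : l34Θ.range ≤ fixG [2, 1, 0] := by
  rintro _ ⟨x, rfl⟩
  obtain ⟨g, rfl⟩ := QuotientGroup.mk_surjective x
  rw [l34Θ_mk]
  exact l34Θ₀_mem g

theorem card_psl34 : Nat.card PSL(3, F4) = 20160 := by
  have h := Cfsg.Agent.Lib.Helper07.card_psl_mul (F := F4) 3 (by norm_num)
  rw [F4.card_eq] at h
  simp only [Fin.prod_univ_three] at h
  generalize Nat.card PSL(3, F4) = N at h ⊢
  norm_num at h
  omega

theorem card_fixG210_le : Nat.card ↥(fixG [2, 1, 0]) ≤ 20160 := by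
  have hsurj : Function.Surjective (fun e : Fin 20160 =>
      (⟨m21el e.1, m21el_mem e.2⟩ : ↥(fixG [2, 1, 0]))) := by
    rintro ⟨g, hg⟩
    obtain ⟨e, he, rfl⟩ := m21_surj hg
    exact ⟨⟨e, he⟩, rfl⟩
  have := Nat.card_le_card_of_surjective _ hsurj
  simpa using this

theorem l34Θ_range : l34Θ.range = fixG [2, 1, 0] := by
  have : Finite ↥(fixG [2, 1, 0]) := inferInstance
  apply Subgroup.eq_of_le_of_card_ge l34Θ_range_le
  have h1 : Nat.card l34Θ.range = Nat.card PSL(3, F4) :=
    (Nat.card_congr (MonoidHom.ofInjective l34Θ_injective).toEquiv).symm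
  rw [h1, card_psl34]
  exact card_fixG210_le

/-- the pointwise stabiliser of the points `0, 1, 2` is isomorphic to `PSL(3, F4)`. -/
theorem l34_equiv : Nonempty (↥(fixG [2, 1, 0]) ≃* PSL(3, F4)) :=
  ⟨((MonoidHom.ofInjective l34Θ_injective).trans (MulEquiv.subgroupCongr l34Θ_range)).symm⟩

/-! ### Three arbitrary points and an arbitrary field of order four -/

theorem mem_map_subtype_stab_pts (p q r : GolayPt) (x : Equiv.Perm GolayPt) :
    x ∈ (stabilizer ↥M24 p ⊓ stabilizer ↥M24 q ⊓ stabilizer ↥M24 r).map M24.subtype ↔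
      x ∈ M24 ∧ x p = p ∧ x q = q ∧ x r = r := by
  constructor
  · rintro ⟨k, hk, rfl⟩
    exact ⟨k.2, mem_stabilizer_iff.mp hk.1.1, mem_stabilizer_iff.mp hk.1.2,
      mem_stabilizer_iff.mp hk.2⟩
  · rintro ⟨h1, h2, h3, h4⟩
    exact ⟨⟨x, h1⟩, ⟨⟨mem_stabilizer_iff.mpr h2, mem_stabilizer_iff.mpr h3⟩,
      mem_stabilizer_iff.mpr h4⟩, rfl⟩

/-- the pointwise stabiliser of three points is isomorphic to that of `0, 1, 2`. -/
theorem nonempty_equiv_fixG210 (p q r : GolayPt) (hpq : p ≠ q) (hpr : p ≠ r) (hqr : q ≠ r) :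
    Nonempty (↥(stabilizer ↥M24 p ⊓ stabilizer ↥M24 q ⊓ stabilizer ↥M24 r) ≃*
      ↥(fixG [2, 1, 0])) := by
  obtain ⟨g, hg, h0, h1, h2⟩ := m24_three_trans p q r hpq hpr hqr
  have heq : (stabilizer ↥M24 p ⊓ stabilizer ↥M24 q ⊓ stabilizer ↥M24 r).map M24.subtype
      = (fixG [2, 1, 0]).map (MulAut.conj g).toMonoidHom := by
    ext x
    rw [mem_map_subtype_stab_pts, Subgroup.mem_map_equiv, MulAut.conj_symm_apply, mem_fixG,
      conj_mem_M24_iff hg]
    have hiff : ∀ y : GolayPt, (g⁻¹ * x * g) y = y ↔ x (g y) = g y := by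
      intro y
      simp only [Equiv.Perm.mul_apply]
      rw [Equiv.Perm.inv_eq_iff_eq]
    constructor
    · rintro ⟨hx, hp, hq, hr⟩
      refine ⟨hx, ?_⟩
      intro i hi
      simp only [List.mem_cons, List.not_mem_nil, or_false] at hi
      rw [hiff]
      rcases hi with rfl | rfl | rfl
      · rw [h2]; exact hr
      · rw [h1]; exact hq
      · rw [h0]; exact hp
    · rintro ⟨hx, hfix⟩
      refine ⟨hx, ?_, ?_, ?_⟩
      · rw [← h0, ← hiff]; exact hfix 0 (by simp)
      · rw [← h1, ← hiff]; exact hfix 1 (by simp)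
      · rw [← h2, ← hiff]; exact hfix 2 (by simp)
  exact ⟨((stabilizer ↥M24 p ⊓ stabilizer ↥M24 q ⊓ stabilizer ↥M24 r).equivMapOfInjective
    M24.subtype (Subgroup.subtype_injective _)).trans ((MulEquiv.subgroupCongr heq).trans
      ((fixG [2, 1, 0]).equivMapOfInjective (MulAut.conj g).toMonoidHom
        (MulAut.conj g).injective).symm)⟩

/-- the pointwise stabiliser of three points is isomorphic to `PSL(3, F)` for every field `F` with
four elements. -/
theorem nonempty_equiv_psl34 (p q r : GolayPt) (hpq : p ≠ q) (hpr : p ≠ r) (hqr : q ≠ r)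
    (F : Type) [Field F] [Fintype F] (hF : Fintype.card F = 4) :
    Nonempty (↥(stabilizer ↥M24 p ⊓ stabilizer ↥M24 q ⊓ stabilizer ↥M24 r) ≃*
      Matrix.ProjectiveSpecialLinearGroup (Fin 3) F) := by
  obtain ⟨e1⟩ := nonempty_equiv_fixG210 p q r hpq hpr hqr
  obtain ⟨e2⟩ := l34_equiv
  have e3 : F4 ≃+* F := FiniteField.ringEquivOfCardEq (F4.card_eq.trans hF.symm)
  exact ⟨(e1.trans e2).trans (Cfsg.Agent.Lib.Helper07.pslCongr e3)⟩

end Cfsg.Agent.Lib.Helper93
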