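import Cfsg.Prelude.Def_MonsterType
import Cfsg.Agent.Lib.Helper03.PGroupFrattini

set_option autoImplicit false

namespace Cfsg.Agent.Lib.Helper93.LE

open Subgroup
open scoped commutatorElement

variable {G : Type*} [Group G]

/-- Elementary consequences of `IsLargeExtraspecial Q` with `Z(Q) = ⟨z⟩`. -/
structure LEData (Q : Subgroup G) (z : G) : Prop where
  two : IsPGroup 2 ↥Q
  zQ : z ∈ Q
  z_ne : z ≠ 1
  z_sq : z * z = 1
  cent : ∀ g : G, (∀ q ∈ Q, q * g = g * q) → g = 1 ∨ g = z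
  zc : ∀ q ∈ Q, q * z = z * q
  norm : ∀ g : G, g * z = z * g → ∀ q ∈ Q, g * q * g⁻¹ ∈ Q
  comm : ∀ a ∈ Q, ∀ b ∈ Q, a * b * a⁻¹ * b⁻¹ = 1 ∨ a * b * a⁻¹ * b⁻¹ = z
  sq : ∀ a ∈ Q, a * a = 1 ∨ a * a = z
  odd : ∀ K : Subgroup G, Odd (Nat.card K) → Q ≤ normalizer (K : Set G) → K = ⊥

theorem mem_zpowers_two {z y : G} (hz : orderOf z = 2)
    (hy : y ∈ Subgroup.zpowers z) : y = 1 ∨ y = z := by
  obtain ⟨k, rfl⟩ := hy
  show z ^ k = 1 ∨ z ^ k = z
  rw [← zpow_mod_orderOf, hz]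
  rcases Int.emod_two_eq_zero_or_one k with h | h
  · left; rw [show k % ((2 : ℕ) : ℤ) = 0 from h, zpow_zero]
  · right; rw [show k % ((2 : ℕ) : ℤ) = 1 from h, zpow_one]

theorem leData_of [Finite G] (Q : Subgroup G) (hQ : Cfsg.IsLargeExtraspecial Q) (z : G)
    (hz : ((Subgroup.center ↥Q).map Q.subtype) = Subgroup.zpowers z) : LEData Q z := by
  obtain ⟨⟨⟨h2, hfr, hco⟩, hcard⟩, hcent, hnorm, hodd⟩ := hQ
  have : Fact (Nat.Prime 2) := ⟨Nat.prime_two⟩
  have hcz : Nat.card (Subgroup.zpowers z) = 2 := by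
    rw [← hz, Subgroup.card_map_of_injective Q.subtype_injective]
    exact hcard
  have hord : orderOf z = 2 := by rw [← Nat.card_zpowers]; exact hcz
  have hmem : ∀ y, y ∈ ((Subgroup.center ↥Q).map Q.subtype) → y = 1 ∨ y = z := by
    intro y hy
    rw [hz] at hy
    exact mem_zpowers_two hord hy
  have hzmap : z ∈ ((Subgroup.center ↥Q).map Q.subtype) := by
    rw [hz]; exact Subgroup.mem_zpowers z
  obtain ⟨zq, hzq, hzqz⟩ := hzmap
  have hzQ : z ∈ Q := by rw [← hzqz]; exact zq.2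
  have hz1 : z ≠ 1 := by
    intro h
    rw [h, orderOf_one] at hord
    omega
  have hzsq : z * z = 1 := by
    rw [← pow_two, ← hord]; exact pow_orderOf_eq_one z
  refine ⟨h2, hzQ, hz1, hzsq, ?_, ?_, ?_, ?_, ?_, hodd⟩
  · intro g hg
    apply hmem
    rw [← hcent]
    rw [Subgroup.mem_centralizer_iff]
    intro q hq
    exact hg q hq
  · intro q hq
    have := (Subgroup.mem_center_iff.mp hzq) ⟨q, hq⟩
    have h2 := congrArg Subtype.val this
    simp only [Subgroup.coe_mul] at h2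
    rw [← hzqz]
    exact h2
  · intro g hg q hq
    have hgc : g ∈ Subgroup.centralizer (((Subgroup.center ↥Q).map Q.subtype : Subgroup G) : Set G) := by
      rw [Subgroup.mem_centralizer_iff]
      intro y hy
      rcases hmem y hy with rfl | rfl
      · simp
      · exact hg.symm
    have := hnorm hgc
    rw [Subgroup.mem_normalizer_iff] at this
    exact (this q).mp hq
  · intro a ha b hb
    apply hmem
    have h1 : ⁅(⟨a, ha⟩ : ↥Q), ⟨b, hb⟩⁆ ∈ commutator ↥Q := by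
      rw [_root_.commutator_def]
      exact Subgroup.commutator_mem_commutator (Subgroup.mem_top _) (Subgroup.mem_top _)
    rw [hco] at h1
    refine ⟨_, h1, ?_⟩
    simp [commutatorElement_def]
  · intro a ha
    apply hmem
    have h1 : (⟨a, ha⟩ : ↥Q) ^ 2 ∈ frattini ↥Q :=
      Cfsg.Agent.Lib.Helper03.pow_mem_frattini_of_isPGroup h2 _
    rw [hfr] at h1
    refine ⟨_, h1, ?_⟩
    simp [pow_two]

end Cfsg.Agent.Lib.Helper93.LE
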