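import Cfsg.Agent.Lib.Helper93.LELayer
import Cfsg.Agent.Lib.Helper30.RankOneComp
import Cfsg.Agent.S0542

set_option autoImplicit false

namespace Cfsg.Agent.Lib.Helper93.LE

open Subgroup
open scoped commutatorElement

variable {G : Type*} [Group G] {Q : Subgroup G} {z : G}

/-- the conjugate subgroup `u L u⁻¹` -/
abbrev cj (u : G) (L : Subgroup G) : Subgroup G := L.map (MulAut.conj u).toMonoidHom

theorem conj_mem_cj {u x : G} {L : Subgroup G} (hx : x ∈ L) : u * x * u⁻¹ ∈ cj u L :=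
  ⟨x, hx, rfl⟩

theorem mem_cj_iff {u y : G} {L : Subgroup G} : y ∈ cj u L ↔ u⁻¹ * y * u ∈ L := by
  constructor
  · rintro ⟨x, hx, rfl⟩
    show u⁻¹ * (u * x * u⁻¹) * u ∈ L
    have e : u⁻¹ * (u * x * u⁻¹) * u = x := by group
    rw [e]; exact hx
  · intro h
    refine ⟨u⁻¹ * y * u, h, ?_⟩
    show u * (u⁻¹ * y * u) * u⁻¹ = y
    group

theorem cj_mul (v u : G) (L : Subgroup G) : cj (v * u) L = cj v (cj u L) := by
  ext y
  rw [mem_cj_iff, mem_cj_iff, mem_cj_iff]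
  have e : (v * u)⁻¹ * y * (v * u) = u⁻¹ * (v⁻¹ * y * v) * u := by group
  rw [e]

theorem cj_injective (v : G) {A B : Subgroup G} (h : cj v A = cj v B) : A = B :=
  Subgroup.map_injective (MulAut.conj v).injective h

theorem conj_mem_centralizer_cj {v b : G} {L : Subgroup G}
    (hb : b ∈ centralizer (L : Set G)) :
    v * b * v⁻¹ ∈ centralizer ((cj v L : Subgroup G) : Set G) := by
  rw [Subgroup.mem_centralizer_iff] at hb ⊢
  intro y hy
  have hy' : v⁻¹ * y * v ∈ L := mem_cj_iff.mp hy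
  have h := hb _ hy'
  calc y * (v * b * v⁻¹) = v * ((v⁻¹ * y * v) * b) * v⁻¹ := by group
    _ = v * (b * (v⁻¹ * y * v)) * v⁻¹ := by rw [h]
    _ = v * b * v⁻¹ * y := by group

theorem mem_centralizer_of_components {K K' : Subgroup G} (hK : Cfsg.IsComponent K)
    (hK' : Cfsg.IsComponent K') (hne : K ≠ K') {y : G} (hy : y ∈ K) :
    y ∈ centralizer (K' : Set G) :=
  (Subgroup.commutator_eq_bot_iff_le_centralizer.mp
    (Cfsg.Agent.Lib.Helper30.component_commute hK hK' hne)) hy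

/-- For `x ∈ C_G(z)` and `u ∈ Q`, the commutator `x⁻¹ (u x u⁻¹)` lies in `Q`. -/
theorem LEData.conj_mem_Q (D : LEData Q z) {x u : G} (hx : x * z = z * x) (hu : u ∈ Q) :
    x⁻¹ * (u * x * u⁻¹) ∈ Q := by
  have h1 := D.norm x⁻¹ (D.inv_comm hx) u hu
  have h2 := mul_mem h1 (inv_mem hu)
  have e : x⁻¹ * u * x⁻¹⁻¹ * u⁻¹ = x⁻¹ * (u * x * u⁻¹) := by group
  rw [e] at h2
  exact h2

/-- The `L`-part of `z`. -/
theorem LEData.exists_part [Finite G] (D : LEData Q z) (hF : Cfsg.fittingSubgroup G = ⊥)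
    {L : Subgroup G} (hL : Cfsg.IsComponent L) :
    ∃ z₁ ∈ L, ∃ b ∈ centralizer (L : Set G), z = z₁ * b ∧ z₁ ≠ 1 ∧ z₁ * z₁ = 1 := by
  have h𝒮 : ∀ K ∈ ({L} : Set (Subgroup G)), Cfsg.IsComponent K := by
    intro K hK
    rw [Set.mem_singleton_iff] at hK
    rw [hK]; exact hL
  obtain ⟨z₁, hz₁, b, hb, hzb⟩ := exists_dec {L} h𝒮 (D.z_mem_layer hF)
  rw [sSup_singleton] at hz₁ hb
  have hA := component_inf_centralizer hF hL
  refine ⟨z₁, hz₁, b, hb, hzb, ?_, ?_⟩
  · intro h1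
    apply D.not_component_le hL
    intro x hx
    rw [Subgroup.mem_centralizer_singleton_iff]
    have hzb' : z = b := by rw [hzb, h1, one_mul]
    rw [hzb']
    exact Subgroup.mem_centralizer_iff.mp hb x hx
  · have hcomm : z₁ * b = b * z₁ := Subgroup.mem_centralizer_iff.mp hb z₁ hz₁
    have h2 : (z₁ * z₁) * (b * b) = 1 * 1 := by
      calc (z₁ * z₁) * (b * b) = z₁ * (z₁ * b) * b := by group
        _ = z₁ * (b * z₁) * b := by rw [hcomm]
        _ = (z₁ * b) * (z₁ * b) := by group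
        _ = 1 * 1 := by rw [← hzb, D.z_sq, one_mul]
    exact (dec_unique hA (mul_mem hz₁ hz₁) (one_mem _) (mul_mem hb hb) (one_mem _) h2).1

/-- For `x ∈ L`: commuting with `z` is the same as commuting with the `L`-part of `z`. -/
theorem comm_part_iff {L : Subgroup G} {z z₁ b x : G} (hb : b ∈ centralizer (L : Set G))
    (hzb : z = z₁ * b) (hx : x ∈ L) : x * z = z * x ↔ x * z₁ = z₁ * x := by
  have hxb : x * b = b * x := Subgroup.mem_centralizer_iff.mp hb x hx
  rw [hzb]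
  constructor
  · intro h
    calc x * z₁ = (x * (z₁ * b)) * b⁻¹ := by group
      _ = (z₁ * b * x) * b⁻¹ := by rw [h]
      _ = z₁ * (b * x) * b⁻¹ := by group
      _ = z₁ * (x * b) * b⁻¹ := by rw [hxb]
      _ = z₁ * x := by group
  · intro h
    calc x * (z₁ * b) = (x * z₁) * b := by group
      _ = (z₁ * x) * b := by rw [h]
      _ = z₁ * (x * b) := by group
      _ = z₁ * (b * x) := by rw [hxb]
      _ = z₁ * b * x := by group

/-- A Sylow 2-subgroup of a component centralizing `z`. -/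
theorem LEData.exists_sylow [Finite G] (D : LEData Q z) {L : Subgroup G}
    (hL : Cfsg.IsComponent L) :
    ∃ T : Sylow 2 ↥L, ∀ t ∈ (T : Subgroup ↥L), (t : G) * z = z * (t : G) := by
  have : Fact (Nat.Prime 2) := ⟨Nat.prime_two⟩
  obtain ⟨S, hQS⟩ := D.two.exists_le_sylow
  have hSne : Nontrivial ↥(S : Subgroup G) := by
    rw [Subgroup.nontrivial_iff_ne_bot]
    intro h
    have := hQS D.zQ
    rw [h, Subgroup.mem_bot] at this
    exact D.z_ne this
  have hc := S.isPGroup'.center_nontrivial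
  obtain ⟨c, hc1⟩ := exists_ne (1 : ↥(center ↥(S : Subgroup G)))
  have hcz : ((c : ↥(S : Subgroup G)) : G) = z := by
    have hcc : ∀ q ∈ Q, q * ((c : ↥(S : Subgroup G)) : G) = ((c : ↥(S : Subgroup G)) : G) * q := by
      intro q hq
      have := (Subgroup.mem_center_iff.mp c.2) ⟨q, hQS hq⟩
      exact congrArg Subtype.val this
    rcases D.cent _ hcc with h | h
    · exfalso
      apply hc1
      apply Subtype.ext
      apply Subtype.ext
      exact h
    · exact h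
  have hSz : ∀ s ∈ (S : Subgroup G), s * z = z * s := by
    intro s hs
    have := (Subgroup.mem_center_iff.mp c.2) ⟨s, hs⟩
    have h2 := congrArg Subtype.val this
    rw [← hcz]
    exact h2
  obtain ⟨T, hT⟩ := Cfsg.Agent.S0542.result 2 L hL.1 S
  refine ⟨T, fun t ht => ?_⟩
  rw [hT] at ht
  exact hSz _ (Subgroup.mem_subgroupOf.mp ht)

/-- If `C_L(z) ⊆ {1, z₁}` we reach a contradiction. -/
theorem LEData.false_of_small [Finite G] (D : LEData Q z) {L : Subgroup G}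
    (hL : Cfsg.IsComponent L) {z₁ : G} (hz₁ : z₁ ∈ L) (hz₁ne : z₁ ≠ 1) (hz₁sq : z₁ * z₁ = 1)
    (hcz : ∀ x ∈ L, x * z = z * x → x = 1 ∨ x = z₁) : False := by
  obtain ⟨T, hT⟩ := D.exists_sylow hL
  have hle : (T : Subgroup ↥L) ≤ zpowers (⟨z₁, hz₁⟩ : ↥L) := by
    intro t ht
    rcases hcz t t.2 (hT t ht) with h | h
    · have : t = 1 := Subtype.ext h
      rw [this]; exact one_mem _
    · have : t = ⟨z₁, hz₁⟩ := Subtype.ext h
      rw [this]; exact Subgroup.mem_zpowers _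
  have hcyc : IsCyclic ↥(T : Subgroup ↥L) :=
    isCyclic_of_injective (Subgroup.inclusion hle) (Subgroup.inclusion_injective hle)
  have heven : Even (Nat.card ↥L) := by
    rw [even_iff_two_dvd]
    have ho : orderOf (⟨z₁, hz₁⟩ : ↥L) = 2 := by
      apply orderOf_eq_prime
      · apply Subtype.ext
        show ((⟨z₁, hz₁⟩ : ↥L) ^ 2 : ↥L).1 = 1
        rw [pow_two]; exact hz₁sq
      · intro h
        exact hz₁ne (congrArg Subtype.val h)
    rw [← ho]
    exact orderOf_dvd_natCard _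
  exact Cfsg.Agent.Lib.Helper30.RankOneComp.not_isCyclic_sylow hL.2 heven T hcyc

/-- There is no third component. -/
theorem LEData.no_third [Finite G] (D : LEData Q z) (hF : Cfsg.fittingSubgroup G = ⊥)
    {L : Subgroup G} (hL : Cfsg.IsComponent L) {u v : G} (hu : u ∈ Q) (hv : v ∈ Q)
    (h1 : cj u L ≠ L) (h2 : cj v L ≠ L) (h3 : cj v L ≠ cj u L) : False := by
  obtain ⟨z₁, hz₁, b, hb, hzb, hz₁ne, hz₁sq⟩ := D.exists_part hF hL
  apply D.false_of_small hL hz₁ hz₁ne hz₁sq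
  intro x hx hxz
  have hc : x⁻¹ * (u * x * u⁻¹) ∈ Q := D.conj_mem_Q hxz hu
  have hw := D.comm _ hc v hv
  have hL2 : Cfsg.IsComponent (cj u L) := Cfsg.Agent.Lib.Helper30.isComponent_conj u hL
  have hL3 : Cfsg.IsComponent (cj v L) := Cfsg.Agent.Lib.Helper30.isComponent_conj v hL
  have hL4 : Cfsg.IsComponent (cj (v * u) L) := Cfsg.Agent.Lib.Helper30.isComponent_conj (v * u) hL
  have hA3 := component_inf_centralizer hF hL3
  have hp : v * x * v⁻¹ ∈ cj v L := conj_mem_cj hx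
  have hr1 : x⁻¹ ∈ centralizer ((cj v L : Subgroup G) : Set G) :=
    mem_centralizer_of_components hL hL3 (Ne.symm h2) (inv_mem hx)
  have hr2 : u * x * u⁻¹ ∈ centralizer ((cj v L : Subgroup G) : Set G) :=
    mem_centralizer_of_components hL2 hL3 (Ne.symm h3) (conj_mem_cj hx)
  have h4 : cj (v * u) L ≠ cj v L := by
    rw [cj_mul]
    intro h
    exact h1 (cj_injective v h)
  have hr3 : (v * u) * x⁻¹ * (v * u)⁻¹ ∈ centralizer ((cj v L : Subgroup G) : Set G) :=
    mem_centralizer_of_components hL4 hL3 h4 (conj_mem_cj (inv_mem hx))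
  have hr := mul_mem (mul_mem hr1 hr2) hr3
  have hwe : (x⁻¹ * (u * x * u⁻¹)) * v * (x⁻¹ * (u * x * u⁻¹))⁻¹ * v⁻¹ =
      (v * x * v⁻¹) * (x⁻¹ * (u * x * u⁻¹) * ((v * u) * x⁻¹ * (v * u)⁻¹)) := by
    have e1 : (x⁻¹ * (u * x * u⁻¹)) * v * (x⁻¹ * (u * x * u⁻¹))⁻¹ * v⁻¹ =
        (x⁻¹ * (u * x * u⁻¹) * ((v * u) * x⁻¹ * (v * u)⁻¹)) * (v * x * v⁻¹) := by group
    rw [e1]
    exact (Subgroup.mem_centralizer_iff.mp hr _ hp).symm
  rw [hwe] at hw
  rcases hw with hw | hw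
  · left
    have h5 : (v * x * v⁻¹) * (x⁻¹ * (u * x * u⁻¹) * ((v * u) * x⁻¹ * (v * u)⁻¹)) = 1 * 1 := by
      rw [hw, one_mul]
    have h6 := (dec_unique hA3 hp (one_mem _) hr (one_mem _) h5).1
    calc x = v⁻¹ * (v * x * v⁻¹) * v := by group
      _ = 1 := by rw [h6]; group
  · right
    have hzv : z = (v * z₁ * v⁻¹) * (v * b * v⁻¹) := by
      calc z = (z * v) * v⁻¹ := by group
        _ = (v * z) * v⁻¹ := by rw [D.zc v hv]
        _ = (v * z₁ * v⁻¹) * (v * b * v⁻¹) := by rw [hzb]; group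
    have h5 : (v * x * v⁻¹) * (x⁻¹ * (u * x * u⁻¹) * ((v * u) * x⁻¹ * (v * u)⁻¹)) =
        (v * z₁ * v⁻¹) * (v * b * v⁻¹) := by
      rw [hw]; exact hzv
    have h6 := (dec_unique hA3 hp (conj_mem_cj hz₁) hr (conj_mem_centralizer_cj hb) h5).1
    calc x = v⁻¹ * (v * x * v⁻¹) * v := by group
      _ = v⁻¹ * (v * z₁ * v⁻¹) * v := by rw [h6]
      _ = z₁ := by group

end Cfsg.Agent.Lib.Helper93.LE
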