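import Cfsg.Agent.Lib.Helper93.LEPartTwo

set_option autoImplicit false

namespace Cfsg.Agent.Lib.Helper93.LE

open Subgroup
open scoped commutatorElement

variable {G : Type*} [Group G] {Q : Subgroup G} {z : G}

theorem LEData.z_mem_layer [Finite G] (D : LEData Q z) (hF : Cfsg.fittingSubgroup G = ⊥) :
    z ∈ Cfsg.layer G := by
  by_contra hz
  have : Fact (Nat.Prime 2) := ⟨Nat.prime_two⟩
  have hEn : (Cfsg.layer G).Normal := Cfsg.Agent.Lib.Helper30.layer_normal
  have hQE : Q ⊓ Cfsg.layer G = ⊥ := by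
    by_contra hne
    have hn : Q ≤ normalizer ((Q ⊓ Cfsg.layer G : Subgroup G) : Set G) := by
      intro q hq
      rw [Subgroup.mem_normalizer_iff]
      intro h
      rw [Subgroup.mem_inf, Subgroup.mem_inf]
      constructor
      · rintro ⟨h1, h2⟩
        exact ⟨mul_mem (mul_mem hq h1) (inv_mem hq), hEn.conj_mem _ h2 q⟩
      · rintro ⟨h1, h2⟩
        constructor
        · have := mul_mem (mul_mem (inv_mem hq) h1) hq
          simpa [mul_assoc] using this
        · have := hEn.conj_mem _ h2 q⁻¹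
          simpa [mul_assoc] using this
    obtain ⟨w, hw, hw1, hwc⟩ :=
      Cfsg.Agent.Lib.Helper39.Offender.exists_fixed_ne_one D.two (D.two.to_le inf_le_left) hne hn
    rcases D.cent w hwc with h | h
    · exact hw1 h
    · rw [h] at hw; exact hz hw.2
  have hfpf : ∀ x ∈ Cfsg.layer G, z * x * z⁻¹ = x → x = 1 := by
    intro x hx hzx
    have hxz : x * z = z * x := by
      calc x * z = (z * x * z⁻¹) * z := by rw [hzx]
        _ = z * x := by group
    have hxc : ∀ q ∈ Q, q * x = x * q := by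
      intro q hq
      have h1 : x * q * x⁻¹ * q⁻¹ ∈ Q := mul_mem (D.norm x hxz q hq) (inv_mem hq)
      have h2 : x * q * x⁻¹ * q⁻¹ ∈ Cfsg.layer G := by
        have h := hEn.conj_mem _ (inv_mem hx) q
        have h' := mul_mem hx h
        have e : x * q * x⁻¹ * q⁻¹ = x * (q * x⁻¹ * q⁻¹) := by group
        rw [e]; exact h'
      have h3 : x * q * x⁻¹ * q⁻¹ ∈ Q ⊓ Cfsg.layer G := Subgroup.mem_inf.mpr ⟨h1, h2⟩
      rw [hQE, Subgroup.mem_bot] at h3
      calc q * x = (x * q * x⁻¹ * q⁻¹)⁻¹ * (x * q) := by group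
        _ = x * q := by rw [h3]; simp
    rcases D.cent x hxc with h | h
    · exact h
    · exfalso; rw [h] at hx; exact hz hx
  have hinv := Cfsg.Agent.Lib.Helper41.inverts_of_fpf (Cfsg.layer G) z D.z_sq hfpf
  have hcomm : ∀ a ∈ Cfsg.layer G, ∀ b ∈ Cfsg.layer G, a * b = b * a := by
    intro a ha b hb
    have h1 := hinv (a * b) (mul_mem ha hb)
    have h2 := hinv a ha
    have h3 := hinv b hb
    have e : z * (a * b) * z⁻¹ = (z * a * z⁻¹) * (z * b * z⁻¹) := by group
    rw [h1, h2, h3] at e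
    have e2 := congrArg (fun t => t⁻¹) e
    simp only [mul_inv_rev, inv_inv] at e2
    exact e2
  have hE1 : Cfsg.layer G = ⊥ := by
    have hp := Cfsg.Agent.Lib.Helper30.layer_perfect (G := G)
    rw [← hp, Subgroup.commutator_eq_bot_iff_le_centralizer]
    intro a ha
    rw [Subgroup.mem_centralizer_iff]
    intro b hb
    exact hcomm b hb a ha
  have hc := centralizer_layer_eq_bot hF
  have hz1 : z ∈ centralizer ((Cfsg.layer G : Subgroup G) : Set G) := by
    rw [Subgroup.mem_centralizer_iff]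
    intro h hh
    rw [hE1] at hh
    have : h = 1 := Subgroup.mem_bot.mp hh
    rw [this]; simp
  rw [hc, Subgroup.mem_bot] at hz1
  exact D.z_ne hz1

theorem LEData.normalClosure_eq_layer [Finite G] (D : LEData Q z)
    (hF : Cfsg.fittingSubgroup G = ⊥) : normalClosure ({z} : Set G) = Cfsg.layer G := by
  have hEn : (Cfsg.layer G).Normal := Cfsg.Agent.Lib.Helper30.layer_normal
  apply le_antisymm
  · apply Subgroup.normalClosure_le_normal
    intro x hx
    rw [Set.mem_singleton_iff] at hx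
    rw [hx]; exact D.z_mem_layer hF
  · apply Cfsg.Agent.Lib.Helper30.layer_le
    intro K hK
    have hsn : (normalClosure ({z} : Set G)).IsSubnormal :=
      (Subgroup.normalClosure_normal).isSubnormal
    rcases Cfsg.Agent.Lib.Helper28.component_le_or_commutes_subnormal K hK hsn with h | h
    · exact h
    · exfalso
      apply D.not_component_le hK
      have h1 := Subgroup.commutator_eq_bot_iff_le_centralizer.mp h
      exact h1.trans (Subgroup.centralizer_le Subgroup.subset_normalClosure)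

/-- `Q` is transitive on the components. -/
theorem LEData.transitive [Finite G] (D : LEData Q z) (hF : Cfsg.fittingSubgroup G = ⊥)
    {L K : Subgroup G} (hL : Cfsg.IsComponent L) (hK : Cfsg.IsComponent K) :
    ∃ u ∈ Q, K = L.map (MulAut.conj u).toMonoidHom := by
  by_contra hcon
  push Not at hcon
  set 𝒮 : Set (Subgroup G) := {K' | ∃ u ∈ Q, K' = L.map (MulAut.conj u).toMonoidHom} with h𝒮def
  have h𝒮 : ∀ K' ∈ 𝒮, Cfsg.IsComponent K' := by
    rintro K' ⟨u, _, rfl⟩
    exact Cfsg.Agent.Lib.Helper30.isComponent_conj u hL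
  have hKS : K ∉ 𝒮 := by
    rintro ⟨u, hu, h⟩
    exact hcon u hu h
  have hLS : L ∈ 𝒮 := ⟨1, one_mem _, by
    ext x
    simp⟩
  have hA := sSup_inf_centralizer_eq_bot hF 𝒮 h𝒮
  -- invariance under Q
  have hinvA : ∀ v ∈ Q, ∀ a ∈ sSup 𝒮, v * a * v⁻¹ ∈ sSup 𝒮 := by
    intro v hv a ha
    have hmap : (sSup 𝒮).map (MulAut.conj v).toMonoidHom ≤ sSup 𝒮 := by
      rw [sSup_eq_iSup', Subgroup.map_iSup]
      refine iSup_le ?_
      rintro ⟨K', u, hu, rfl⟩
      refine le_trans ?_ (le_iSup _ ⟨L.map (MulAut.conj (v * u)).toMonoidHom, v * u, mul_mem hv hu, rfl⟩)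
      show (L.map (MulAut.conj u).toMonoidHom).map (MulAut.conj v).toMonoidHom ≤
        L.map (MulAut.conj (v * u)).toMonoidHom
      rw [Subgroup.map_map]
      rw [map_mul]
      rfl
    have := hmap (Subgroup.mem_map_of_mem _ ha)
    simpa using this
  have hinvC : ∀ v ∈ Q, ∀ r ∈ centralizer ((sSup 𝒮 : Subgroup G) : Set G),
      v * r * v⁻¹ ∈ centralizer ((sSup 𝒮 : Subgroup G) : Set G) := by
    intro v hv r hr
    rw [Subgroup.mem_centralizer_iff] at hr ⊢
    intro a ha
    have h1 := hinvA v⁻¹ (inv_mem hv) a ha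
    have h2 := hr _ h1
    simp only [inv_inv] at h2
    calc a * (v * r * v⁻¹) = v * ((v⁻¹ * a * v) * r) * v⁻¹ := by group
      _ = v * (r * (v⁻¹ * a * v)) * v⁻¹ := by rw [h2]
      _ = v * r * v⁻¹ * a := by group
  obtain ⟨a, ha, r, hr, hzar⟩ := exists_dec 𝒮 h𝒮 (D.z_mem_layer hF)
  have hafix : ∀ v ∈ Q, v * a = a * v := by
    intro v hv
    have h1 : (v * a * v⁻¹) * (v * r * v⁻¹) = a * r := by
      calc (v * a * v⁻¹) * (v * r * v⁻¹) = v * (a * r) * v⁻¹ := by group
        _ = v * z * v⁻¹ := by rw [hzar]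
        _ = z * v * v⁻¹ := by rw [D.zc v hv]
        _ = a * r := by rw [hzar]; group
    have h2 := (dec_unique hA (hinvA v hv a ha) ha (hinvC v hv r hr) hr h1).1
    calc v * a = (v * a * v⁻¹) * v := by group
      _ = a * v := by rw [h2]
  rcases D.cent a hafix with h | h
  · -- a = 1, so z = r centralizes L
    apply D.not_component_le hL
    intro x hx
    rw [Subgroup.mem_centralizer_singleton_iff]
    have hzr : z = r := by rw [hzar, h, one_mul]
    rw [hzr]
    exact Subgroup.mem_centralizer_iff.mp hr x (le_sSup hLS hx)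
  · -- a = z ∈ sSup 𝒮, K centralizes it
    apply D.not_component_le hK
    intro x hx
    rw [Subgroup.mem_centralizer_singleton_iff]
    have hxc := component_le_centralizer_sSup 𝒮 h𝒮 hK hKS hx
    rw [h] at ha
    exact (Subgroup.mem_centralizer_iff.mp hxc z ha).symm

end Cfsg.Agent.Lib.Helper93.LE
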