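import Cfsg.Agent.Lib.Helper93.LETwo

set_option autoImplicit false

namespace Cfsg.Agent.Lib.Helper93.LE

open Subgroup
open scoped commutatorElement

theorem le_main {G : Type*} [Group G] [Finite G] (Q : Subgroup G)
    (hQ : Cfsg.IsLargeExtraspecial Q) (z : G)
    (hz : ((Subgroup.center ↥Q).map Q.subtype) = Subgroup.zpowers z) (M : Subgroup G)
    (hM : M = Subgroup.normalClosure ({z} : Set G)) :
    Q.Normal ∨ (IsMulCommutative ↥M ∧ Cfsg.generalizedFittingSubgroup G = Cfsg.pCore 2 G) ∨
    (M = Cfsg.generalizedFittingSubgroup G ∧ IsSimpleGroup ↥M ∧ ¬ IsMulCommutative ↥M) ∨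
    (M = Cfsg.generalizedFittingSubgroup G ∧ ∃ (L : Subgroup G) (u : G), u ∈ Q ∧
      IsSimpleGroup ↥L ∧ ¬ IsMulCommutative ↥L ∧
      L ⊓ (L).map (MulAut.conj u).toMonoidHom = ⊥ ∧
      (∀ x ∈ L, ∀ y ∈ (L).map (MulAut.conj u).toMonoidHom, x * y = y * x) ∧
      L ⊔ (L).map (MulAut.conj u).toMonoidHom = M ∧
      ∃ z₁ ∈ L, z = z₁ * (u * z₁ * u⁻¹) ∧
        (∃ R : Sylow 2 ↥L,
          (R : Subgroup ↥L) = (Subgroup.centralizer ({z₁} : Set G)).subgroupOf L ∧
          (frattini ↥(R : Subgroup ↥L)).map ((L.subtype).comp (R : Subgroup ↥L).subtype) ≤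
            Subgroup.zpowers z₁) ∧
        Q ≠ (Cfsg.pCore 2 ↥(Subgroup.centralizer ({z} : Set G))).map
          (Subgroup.centralizer ({z} : Set G)).subtype) := by
  have D := leData_of Q hQ z hz
  by_cases h2 : Cfsg.pCore 2 G = ⊥
  · have hF : Cfsg.fittingSubgroup G = ⊥ := by
      rw [Cfsg.Agent.Lib.Helper01.fitting_eq_iSup_pCore, iSup_eq_bot]
      intro p
      by_cases hp2 : (p : ℕ) = 2
      · rw [hp2]; exact h2
      · exact D.pCore_odd p.2 hp2
    have hME : M = Cfsg.generalizedFittingSubgroup G := by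
      rw [hM, genFitting_eq_layer hF, D.normalClosure_eq_layer hF]
    have hE1 : Cfsg.layer G ≠ ⊥ := by
      intro h
      have := D.z_mem_layer hF
      rw [h] at this
      exact D.z_ne (Subgroup.mem_bot.mp this)
    obtain ⟨L, hL⟩ : ∃ L : Subgroup G, Cfsg.IsComponent L := by
      by_contra hno
      push Not at hno
      apply hE1
      unfold Cfsg.layer
      rw [eq_bot_iff]
      apply sSup_le
      intro K hK
      exact absurd hK (hno K)
    by_cases hone : ∀ K : Subgroup G, Cfsg.IsComponent K → K = L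
    · right; right; left
      have hEL : Cfsg.layer G = L :=
        le_antisymm (Cfsg.Agent.Lib.Helper30.layer_le fun K hK => (hone K hK).le)
          (Cfsg.Agent.Lib.Helper30.component_le_layer hL)
      have hML : M = L := by rw [hM, D.normalClosure_eq_layer hF, hEL]
      refine ⟨hME, ?_, ?_⟩
      · rw [hML]; exact component_simple hF hL
      · rw [hML]; exact component_not_comm hF hL
    · push Not at hone
      obtain ⟨K, hK, hKL⟩ := hone
      obtain ⟨u, hu, hKu⟩ := D.transitive hF hL hK
      have hne : cj u L ≠ L := fun h => hKL (hKu.trans h)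
      have hall : ∀ K' : Subgroup G, Cfsg.IsComponent K' → K' = L ∨ K' = cj u L := by
        intro K' hK'
        by_contra hcon
        push Not at hcon
        obtain ⟨v, hv, hKv⟩ := D.transitive hF hL hK'
        rw [hKv] at hcon
        exact D.no_third hF hL hu hv hne hcon.1 hcon.2
      obtain ⟨z₁, H⟩ := D.two_struct hF hL hu hne hall
      right; right; right
      refine ⟨hME, L, u, hu, component_simple hF hL, component_not_comm hF hL, ?_, ?_, ?_,
        z₁, H.hz₁, H.hz, H.sylow_frattini D, H.ne_core D⟩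
      · rw [eq_bot_iff, ← H.hA]
        exact le_inf inf_le_left (inf_le_right.trans H.hcen)
      · intro x hx y hy
        exact Subgroup.mem_centralizer_iff.mp (H.hcen hy) x hx
      · rw [hM, D.normalClosure_eq_layer hF, H.hE]
  · right; left
    rw [hM]
    exact D.part_one h2

end Cfsg.Agent.Lib.Helper93.LE
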