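import Cfsg.Agent.Lib.Helper93.LEBasic
import Cfsg.Agent.Lib.Helper28.FStarP
import Cfsg.Agent.Lib.Helper30.Layer
import Cfsg.Agent.Lib.Helper39.OffFinal
import Cfsg.Agent.Lib.Helper01.PCore

set_option autoImplicit false

namespace Cfsg.Agent.Lib.Helper93.LE

open Subgroup
open scoped commutatorElement

variable {G : Type*} [Group G] {Q : Subgroup G} {z : G}

theorem LEData.inv_comm (_D : LEData Q z) {g : G} (hg : g * z = z * g) : g⁻¹ * z = z * g⁻¹ := by
  calc g⁻¹ * z = g⁻¹ * (z * g) * g⁻¹ := by group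
    _ = g⁻¹ * (g * z) * g⁻¹ := by rw [hg]
    _ = z * g⁻¹ := by group

theorem LEData.mem_normalizer (D : LEData Q z) {g : G} (hg : g * z = z * g) :
    g ∈ normalizer (Q : Set G) := by
  rw [Subgroup.mem_normalizer_iff]
  intro q
  constructor
  · exact D.norm g hg q
  · intro h
    have := D.norm g⁻¹ (D.inv_comm hg) _ h
    simpa [mul_assoc] using this

theorem LEData.centralizer_le_normalizer (D : LEData Q z) :
    centralizer ({z} : Set G) ≤ normalizer (Q : Set G) := by
  intro g hg
  exact D.mem_normalizer (Subgroup.mem_centralizer_singleton_iff.mp hg)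

/-- No component of `G` centralizes `z`. -/
theorem LEData.not_component_le [Finite G] (D : LEData Q z) {K : Subgroup G}
    (hK : Cfsg.IsComponent K) : ¬ K ≤ centralizer ({z} : Set G) := by
  intro hle
  have hn : K ≤ normalizer (Q : Set G) := hle.trans D.centralizer_le_normalizer
  rcases Cfsg.Agent.Lib.Helper28.component_le_or_commutes_of_normalizes K Q hK hn with h | h
  · have : Fact (Nat.Prime 2) := ⟨Nat.prime_two⟩
    have hnil : Group.IsNilpotent ↥Q := D.two.isNilpotent
    have hs : Group.IsSolvable ↥Q := inferInstance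
    exact Cfsg.Agent.Lib.Helper30.component_not_le_solvable hK hs h
  · have hKc : K ≤ centralizer (Q : Set G) := (Subgroup.commutator_eq_bot_iff_le_centralizer).mp h
    have hs : Group.IsSolvable ↥(centralizer (Q : Set G)) := by
      apply Group.isSolvable_of_comm
      rintro ⟨a, ha⟩ ⟨b, hb⟩
      apply Subtype.ext
      show a * b = b * a
      rcases D.cent a (Subgroup.mem_centralizer_iff.mp ha) with rfl | rfl
      · simp
      · rcases D.cent b (Subgroup.mem_centralizer_iff.mp hb) with rfl | rfl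
        · simp
        · rfl
    exact Cfsg.Agent.Lib.Helper30.component_not_le_solvable hK hs hKc

theorem LEData.pCore_odd [Finite G] (D : LEData Q z) {q : ℕ} (hq : q.Prime) (hq2 : q ≠ 2) :
    Cfsg.pCore q G = ⊥ := by
  apply D.odd
  · have hp : IsPGroup q ↥(Cfsg.pCore q G) := Cfsg.Agent.Lib.Helper01.pCore_isPGroup q
    have : Fact q.Prime := ⟨hq⟩
    obtain ⟨n, hn⟩ := hp.exists_card_eq
    rw [hn]
    exact (hq.odd_of_ne_two hq2).pow
  · have := Cfsg.Agent.Lib.Helper01.pCore_normal (G := G) q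
    rw [Subgroup.normalizer_eq_top]
    exact le_top

theorem LEData.part_one [Finite G] (D : LEData Q z) (h2 : Cfsg.pCore 2 G ≠ ⊥) :
    IsMulCommutative ↥(normalClosure ({z} : Set G)) ∧
      Cfsg.generalizedFittingSubgroup G = Cfsg.pCore 2 G := by
  have : Fact (Nat.Prime 2) := ⟨Nat.prime_two⟩
  have hWn : (Cfsg.pCore 2 G).Normal := Cfsg.Agent.Lib.Helper01.pCore_normal 2
  have hWp : IsPGroup 2 ↥(Cfsg.pCore 2 G) := Cfsg.Agent.Lib.Helper01.pCore_isPGroup 2
  have hAn : (Cfsg.pCore 2 G ⊓ centralizer (Cfsg.pCore 2 G : Set G)).Normal := inferInstance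
  have hAp : IsPGroup 2 ↥(Cfsg.pCore 2 G ⊓ centralizer (Cfsg.pCore 2 G : Set G)) :=
    hWp.to_le inf_le_left
  have hA1 : Cfsg.pCore 2 G ⊓ centralizer (Cfsg.pCore 2 G : Set G) ≠ ⊥ := by
    rw [← Cfsg.Agent.Lib.Helper30.map_center_subtype]
    intro h
    rw [Subgroup.map_eq_bot_iff_of_injective _ (Subgroup.subtype_injective _)] at h
    have : Nontrivial ↥(Cfsg.pCore 2 G) := (Subgroup.nontrivial_iff_ne_bot _).mpr h2
    have hc := hWp.center_nontrivial
    exact (Subgroup.nontrivial_iff_ne_bot _).mp hc h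
  have hQn : Q ≤ normalizer ((Cfsg.pCore 2 G ⊓ centralizer (Cfsg.pCore 2 G : Set G) : Subgroup G) : Set G) := by
    rw [Subgroup.normalizer_eq_top]
    exact le_top
  obtain ⟨w, hwA, hw1, hwc⟩ :=
    Cfsg.Agent.Lib.Helper39.Offender.exists_fixed_ne_one D.two hAp hA1 hQn
  have hwz : w = z := by
    rcases D.cent w hwc with h | h
    · exact absurd h hw1
    · exact h
  rw [hwz] at hwA
  have hM : normalClosure ({z} : Set G) ≤ Cfsg.pCore 2 G ⊓ centralizer (Cfsg.pCore 2 G : Set G) := by
    apply Subgroup.normalClosure_le_normal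
    intro x hx
    rw [Set.mem_singleton_iff] at hx
    rw [hx]; exact hwA
  refine ⟨⟨⟨fun a b => ?_⟩⟩, ?_⟩
  · apply Subtype.ext
    show (a : G) * b = b * a
    have ha := (hM a.2).1
    have hb := (hM b.2).2
    exact (Subgroup.mem_centralizer_iff.mp hb _ ha)
  · apply Cfsg.Agent.Lib.Helper28.fStarP_genFitting_eq 2
    rw [Cfsg.Agent.Lib.Helper28.fStarP_iff]
    refine ⟨fun K hK => ?_, fun q hq hq2 => D.pCore_odd hq hq2⟩
    have h1 := Cfsg.Agent.Lib.Helper28.component_centralizes_pCore 2 hK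
    have h3 : K ≤ centralizer (Cfsg.pCore 2 G : Set G) :=
      (Subgroup.commutator_eq_bot_iff_le_centralizer).mp h1
    apply D.not_component_le hK
    refine h3.trans (Subgroup.centralizer_le ?_)
    intro x hx
    rw [Set.mem_singleton_iff] at hx
    rw [hx]; exact hwA.1

end Cfsg.Agent.Lib.Helper93.LE
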