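import Cfsg.Agent.Lib.Helper93.LEPartOne
import Cfsg.Agent.Lib.Helper01.Fitting
import Cfsg.Agent.Lib.Helper28.FStar
import Cfsg.Agent.Lib.Helper29.LocalBalance
import Cfsg.Agent.Lib.Helper41.Crit19
import Cfsg.Agent.Lib.Helper40.NarrowAct2

set_option autoImplicit false

namespace Cfsg.Agent.Lib.Helper93.LE

open Subgroup
open scoped commutatorElement

variable {G : Type*} [Group G] {Q : Subgroup G} {z : G}

theorem genFitting_eq_layer (hF : Cfsg.fittingSubgroup G = ⊥) :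
    Cfsg.generalizedFittingSubgroup G = Cfsg.layer G := by
  unfold Cfsg.generalizedFittingSubgroup
  rw [hF, sup_bot_eq]

theorem centralizer_layer_eq_bot [Finite G] (hF : Cfsg.fittingSubgroup G = ⊥) :
    centralizer (Cfsg.layer G : Set G) = ⊥ := by
  have h1 := Cfsg.Agent.Lib.Helper28.centralizer_genFitting_le (G := G)
  rw [genFitting_eq_layer hF] at h1
  have h2 := Cfsg.Agent.Lib.Helper30.center_layer_eq (G := G)
  rw [Cfsg.Agent.Lib.Helper30.map_center_subtype, hF, bot_inf_eq] at h2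
  rw [eq_bot_iff, ← h2]
  exact le_inf h1 le_rfl

theorem component_inf_centralizer [Finite G] (hF : Cfsg.fittingSubgroup G = ⊥) {L : Subgroup G}
    (hL : Cfsg.IsComponent L) : L ⊓ centralizer (L : Set G) = ⊥ := by
  rw [eq_bot_iff, ← hF]
  exact Cfsg.Agent.Lib.Helper29.component_center_le_fitting L hL

theorem component_simple [Finite G] (hF : Cfsg.fittingSubgroup G = ⊥) {L : Subgroup G}
    (hL : Cfsg.IsComponent L) : IsSimpleGroup ↥L := by
  have hc : center ↥L = ⊥ := by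
    have h := Cfsg.Agent.Lib.Helper30.map_center_subtype L
    rw [component_inf_centralizer hF hL,
      Subgroup.map_eq_bot_iff_of_injective _ (Subgroup.subtype_injective _)] at h
    exact h
  have hs : IsSimpleGroup (↥L ⧸ center ↥L) := hL.2.2
  have e : ↥L ≃* ↥L ⧸ center ↥L :=
    (QuotientGroup.quotientBot.symm).trans (QuotientGroup.quotientMulEquivOfEq hc.symm)
  exact e.isSimpleGroup

theorem component_not_comm [Finite G] (hF : Cfsg.fittingSubgroup G = ⊥) {L : Subgroup G}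
    (hL : Cfsg.IsComponent L) : ¬ IsMulCommutative ↥L := by
  intro hc
  apply Cfsg.Agent.Lib.Helper30.component_ne_bot hL
  rw [eq_bot_iff, ← component_inf_centralizer hF hL]
  refine le_inf le_rfl ?_
  intro a ha
  rw [Subgroup.mem_centralizer_iff]
  intro b hb
  have := hc.is_comm.comm (⟨b, hb⟩ : ↥L) ⟨a, ha⟩
  exact congrArg Subtype.val this

theorem component_le_centralizer_sSup (𝒮 : Set (Subgroup G))
    (h𝒮 : ∀ K ∈ 𝒮, Cfsg.IsComponent K) {K : Subgroup G} (hK : Cfsg.IsComponent K)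
    (hKS : K ∉ 𝒮) : K ≤ centralizer ((sSup 𝒮 : Subgroup G) : Set G) := by
  rw [Subgroup.le_centralizer_iff]
  apply sSup_le
  intro L hL
  rw [← Subgroup.commutator_eq_bot_iff_le_centralizer]
  exact Cfsg.Agent.Lib.Helper30.component_commute (h𝒮 L hL) hK (by rintro rfl; exact hKS hL)

theorem sSup_inf_centralizer_eq_bot [Finite G] (hF : Cfsg.fittingSubgroup G = ⊥)
    (𝒮 : Set (Subgroup G)) (h𝒮 : ∀ K ∈ 𝒮, Cfsg.IsComponent K) :
    sSup 𝒮 ⊓ centralizer ((sSup 𝒮 : Subgroup G) : Set G) = ⊥ := by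
  rw [eq_bot_iff, ← centralizer_layer_eq_bot hF, Subgroup.le_centralizer_iff]
  apply Cfsg.Agent.Lib.Helper30.layer_le
  intro K hK
  by_cases hKS : K ∈ 𝒮
  · have h1 : K ≤ sSup 𝒮 := le_sSup hKS
    have h2 : sSup 𝒮 ≤ centralizer ((centralizer ((sSup 𝒮 : Subgroup G) : Set G) : Subgroup G) : Set G) :=
      Subgroup.le_centralizer_iff.mp le_rfl
    have h3 : centralizer ((centralizer ((sSup 𝒮 : Subgroup G) : Set G) : Subgroup G) : Set G) ≤
        centralizer ((sSup 𝒮 ⊓ centralizer ((sSup 𝒮 : Subgroup G) : Set G) : Subgroup G) : Set G) :=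
      Subgroup.centralizer_le (fun x hx => hx.2)
    exact h1.trans (h2.trans h3)
  · have h1 := component_le_centralizer_sSup 𝒮 h𝒮 hK hKS
    have h3 : centralizer ((sSup 𝒮 : Subgroup G) : Set G) ≤
        centralizer ((sSup 𝒮 ⊓ centralizer ((sSup 𝒮 : Subgroup G) : Set G) : Subgroup G) : Set G) :=
      Subgroup.centralizer_le (fun x hx => hx.1)
    exact h1.trans h3

theorem exists_dec (𝒮 : Set (Subgroup G)) (h𝒮 : ∀ K ∈ 𝒮, Cfsg.IsComponent K) {g : G}
    (hg : g ∈ Cfsg.layer G) :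
    ∃ p ∈ sSup 𝒮, ∃ r ∈ centralizer ((sSup 𝒮 : Subgroup G) : Set G), g = p * r := by
  have hle : Cfsg.layer G ≤ sSup 𝒮 ⊔ centralizer ((sSup 𝒮 : Subgroup G) : Set G) := by
    apply Cfsg.Agent.Lib.Helper30.layer_le
    intro K hK
    by_cases hKS : K ∈ 𝒮
    · exact (le_sSup hKS).trans le_sup_left
    · exact (component_le_centralizer_sSup 𝒮 h𝒮 hK hKS).trans le_sup_right
  exact Cfsg.Agent.Lib.Helper40.NarrowAct2.exists_mul_of_mem_sup
    (fun h hh k hk => (Subgroup.mem_centralizer_iff.mp hk h hh)) (hle hg)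

theorem dec_unique {A : Subgroup G} (hA : A ⊓ centralizer (A : Set G) = ⊥) {p p' r r' : G}
    (hp : p ∈ A) (hp' : p' ∈ A) (hr : r ∈ centralizer (A : Set G))
    (hr' : r' ∈ centralizer (A : Set G)) (h : p * r = p' * r') : p = p' ∧ r = r' := by
  have h1 : p'⁻¹ * p = r' * r⁻¹ := by
    calc p'⁻¹ * p = p'⁻¹ * (p * r) * r⁻¹ := by group
      _ = p'⁻¹ * (p' * r') * r⁻¹ := by rw [h]
      _ = r' * r⁻¹ := by group
  have h2 : p'⁻¹ * p ∈ A ⊓ centralizer (A : Set G) :=
    Subgroup.mem_inf.mpr ⟨mul_mem (inv_mem hp') hp, by rw [h1]; exact mul_mem hr' (inv_mem hr)⟩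
  rw [hA, Subgroup.mem_bot] at h2
  have hpp : p = p' := by
    calc p = p' * (p'⁻¹ * p) := by group
      _ = p' := by rw [h2, mul_one]
  refine ⟨hpp, ?_⟩
  rw [hpp] at h
  exact mul_left_cancel h

end Cfsg.Agent.Lib.Helper93.LE
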