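import Cfsg.Agent.Lib.Helper93.LEComp
import Cfsg.Agent.Lib.Helper72.Frattini

set_option autoImplicit false

namespace Cfsg.Agent.Lib.Helper93.LE

open Subgroup
open scoped commutatorElement

variable {G : Type*} [Group G] {Q : Subgroup G} {z : G}

/-- The structure of the two-component case. -/
structure TwoComp (Q : Subgroup G) (z : G) (L : Subgroup G) (u z₁ : G) : Prop where
  hL : Cfsg.IsComponent L
  hu : u ∈ Q
  hz₁ : z₁ ∈ L
  z₁_ne : z₁ ≠ 1
  z₁_sq : z₁ * z₁ = 1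
  hz : z = z₁ * (u * z₁ * u⁻¹)
  hE : Cfsg.layer G = L ⊔ cj u L
  hcen : cj u L ≤ centralizer (L : Set G)
  hA : L ⊓ centralizer (L : Set G) = ⊥

theorem LEData.two_struct [Finite G] (D : LEData Q z) (hF : Cfsg.fittingSubgroup G = ⊥)
    {L : Subgroup G} (hL : Cfsg.IsComponent L) {u : G} (hu : u ∈ Q) (hne : cj u L ≠ L)
    (hall : ∀ K : Subgroup G, Cfsg.IsComponent K → K = L ∨ K = cj u L) :
    ∃ z₁ : G, TwoComp Q z L u z₁ := by
  have hL2 : Cfsg.IsComponent (cj u L) := Cfsg.Agent.Lib.Helper30.isComponent_conj u hL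
  have hcen : cj u L ≤ centralizer (L : Set G) :=
    Subgroup.commutator_eq_bot_iff_le_centralizer.mp
      (Cfsg.Agent.Lib.Helper30.component_commute hL2 hL hne)
  have hA := component_inf_centralizer hF hL
  have hE : Cfsg.layer G = L ⊔ cj u L := by
    apply le_antisymm
    · apply Cfsg.Agent.Lib.Helper30.layer_le
      intro K hK
      rcases hall K hK with h | h
      · rw [h]; exact le_sup_left
      · rw [h]; exact le_sup_right
    · exact sup_le (Cfsg.Agent.Lib.Helper30.component_le_layer hL)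
        (Cfsg.Agent.Lib.Helper30.component_le_layer hL2)
  obtain ⟨z₁, hz₁, b, hb, hzb, hz₁ne, hz₁sq⟩ := D.exists_part hF hL
  have hzE : z ∈ L ⊔ cj u L := by rw [← hE]; exact D.z_mem_layer hF
  obtain ⟨p, hp, r, hr, hzpr⟩ := Cfsg.Agent.Lib.Helper40.NarrowAct2.exists_mul_of_mem_sup
    (fun h hh k hk => (Subgroup.mem_centralizer_iff.mp (hcen hk) h hh)) hzE
  have hbr : b = r := (dec_unique hA hz₁ hp hb (hcen hr) (by rw [← hzb, ← hzpr])).2
  have hb2 : b ∈ cj u L := by rw [hbr]; exact hr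
  have hcc : cj u (cj u L) = L := by
    rcases hall _ (Cfsg.Agent.Lib.Helper30.isComponent_conj u hL2) with h | h
    · exact h
    · exact absurd (cj_injective u h) hne
  have hub : u * b * u⁻¹ ∈ L := by
    have := conj_mem_cj (u := u) hb2
    rw [hcc] at this
    exact this
  have huz : u * z₁ * u⁻¹ ∈ centralizer (L : Set G) := hcen (conj_mem_cj hz₁)
  have hz2 : z₁ * b = (u * b * u⁻¹) * (u * z₁ * u⁻¹) := by
    have hc : (u * b * u⁻¹) * (u * z₁ * u⁻¹) = (u * z₁ * u⁻¹) * (u * b * u⁻¹) :=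
      Subgroup.mem_centralizer_iff.mp huz _ hub
    rw [hc]
    calc z₁ * b = (z * u) * u⁻¹ := by rw [hzb]; group
      _ = (u * z) * u⁻¹ := by rw [D.zc u hu]
      _ = (u * z₁ * u⁻¹) * (u * b * u⁻¹) := by rw [hzb]; group
  have hb3 : b = u * z₁ * u⁻¹ := (dec_unique hA hz₁ hub hb huz hz2).2
  exact ⟨z₁, hL, hu, hz₁, hz₁ne, hz₁sq, by rw [← hb3]; exact hzb, hE, hcen, hA⟩

theorem TwoComp.comm_iff {L : Subgroup G} {u z₁ : G} (H : TwoComp Q z L u z₁) {x : G}
    (hx : x ∈ L) : x * z = z * x ↔ x * z₁ = z₁ * x :=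
  comm_part_iff (H.hcen (conj_mem_cj H.hz₁)) H.hz hx

theorem TwoComp.inv_z₁ {L : Subgroup G} {u z₁ : G} (H : TwoComp Q z L u z₁) : z₁⁻¹ = z₁ :=
  inv_eq_of_mul_eq_one_left H.z₁_sq

theorem TwoComp.sq {L : Subgroup G} {u z₁ : G} (H : TwoComp Q z L u z₁) (D : LEData Q z)
    {x : G} (hx : x ∈ L) (hxz : x * z₁ = z₁ * x) : x * x = 1 ∨ x * x = z₁ := by
  have hxz' : x * z = z * x := (H.comm_iff hx).mpr hxz
  have hc : x⁻¹ * (u * x * u⁻¹) ∈ Q := D.conj_mem_Q hxz' H.hu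
  have hcomm : x⁻¹ * (u * x * u⁻¹) = (u * x * u⁻¹) * x⁻¹ :=
    Subgroup.mem_centralizer_iff.mp (H.hcen (conj_mem_cj hx)) x⁻¹ (inv_mem hx)
  have e : (x⁻¹ * (u * x * u⁻¹)) * (x⁻¹ * (u * x * u⁻¹)) =
      (x⁻¹ * x⁻¹) * (u * (x * x) * u⁻¹) := by
    calc (x⁻¹ * (u * x * u⁻¹)) * (x⁻¹ * (u * x * u⁻¹))
        = x⁻¹ * ((u * x * u⁻¹) * x⁻¹) * (u * x * u⁻¹) := by group
      _ = x⁻¹ * (x⁻¹ * (u * x * u⁻¹)) * (u * x * u⁻¹) := by rw [← hcomm]
      _ = (x⁻¹ * x⁻¹) * (u * (x * x) * u⁻¹) := by group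
  have hp : x⁻¹ * x⁻¹ ∈ L := mul_mem (inv_mem hx) (inv_mem hx)
  have hr : u * (x * x) * u⁻¹ ∈ centralizer (L : Set G) := H.hcen (conj_mem_cj (mul_mem hx hx))
  rcases D.sq _ hc with h | h
  · left
    rw [e] at h
    have h5 : (x⁻¹ * x⁻¹) * (u * (x * x) * u⁻¹) = 1 * 1 := by rw [h, one_mul]
    have h6 := (dec_unique H.hA hp (one_mem _) hr (one_mem _) h5).1
    have : (x * x)⁻¹ = 1 := by rw [mul_inv_rev]; exact h6
    exact inv_eq_one.mp this
  · right
    rw [e] at h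
    have h5 : (x⁻¹ * x⁻¹) * (u * (x * x) * u⁻¹) = z₁ * (u * z₁ * u⁻¹) := by rw [h]; exact H.hz
    have h6 := (dec_unique H.hA hp H.hz₁ hr (H.hcen (conj_mem_cj H.hz₁)) h5).1
    have : (x * x)⁻¹ = z₁ := by rw [mul_inv_rev]; exact h6
    rw [← H.inv_z₁, ← this, inv_inv]

theorem TwoComp.pow_four {L : Subgroup G} {u z₁ : G} (H : TwoComp Q z L u z₁) (D : LEData Q z)
    {x : G} (hx : x ∈ L) (hxz : x * z₁ = z₁ * x) : x ^ 4 = 1 := by
  have e : x ^ 4 = (x * x) * (x * x) := by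
    rw [show (4 : ℕ) = 2 + 2 from rfl, pow_add, pow_two]
  rw [e]
  rcases H.sq D hx hxz with h | h
  · rw [h, one_mul]
  · rw [h]; exact H.z₁_sq

theorem TwoComp.sylow_frattini [Finite G] {L : Subgroup G} {u z₁ : G} (H : TwoComp Q z L u z₁)
    (D : LEData Q z) :
    ∃ R : Sylow 2 ↥L, (R : Subgroup ↥L) = (Subgroup.centralizer ({z₁} : Set G)).subgroupOf L ∧
      (frattini ↥(R : Subgroup ↥L)).map ((L.subtype).comp (R : Subgroup ↥L).subtype) ≤
        Subgroup.zpowers z₁ := by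
  have hp : IsPGroup 2 ↥((Subgroup.centralizer ({z₁} : Set G)).subgroupOf L) := by
    intro g
    refine ⟨2, ?_⟩
    apply Subtype.ext
    apply Subtype.ext
    have hg : ((g : ↥L) : G) * z₁ = z₁ * ((g : ↥L) : G) :=
      Subgroup.mem_centralizer_singleton_iff.mp (Subgroup.mem_subgroupOf.mp g.2)
    have := H.pow_four D (g : ↥L).2 hg
    simpa using this
  obtain ⟨T, hT⟩ := D.exists_sylow H.hL
  have hle : (T : Subgroup ↥L) ≤ (Subgroup.centralizer ({z₁} : Set G)).subgroupOf L := by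
    intro t ht
    rw [Subgroup.mem_subgroupOf, Subgroup.mem_centralizer_singleton_iff]
    exact (H.comm_iff t.2).mp (hT t ht)
  have heq := T.is_maximal' hp hle
  refine ⟨T, heq.symm, ?_⟩
  have hcommT : ∀ r : ↥(T : Subgroup ↥L), ((r : ↥L) : G) * z₁ = z₁ * ((r : ↥L) : G) := by
    intro r
    have h1 : (r : ↥L) ∈ (Subgroup.centralizer ({z₁} : Set G)).subgroupOf L := by
      rw [heq]; exact r.2
    exact Subgroup.mem_centralizer_singleton_iff.mp (Subgroup.mem_subgroupOf.mp h1)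
  have hN : ((Subgroup.zpowers z₁).comap ((L.subtype).comp (T : Subgroup ↥L).subtype)).Normal := by
    refine ⟨fun n hn g => ?_⟩
    rw [Subgroup.mem_comap] at hn ⊢
    have hg := hcommT g
    have hzle : Subgroup.zpowers z₁ ≤ Subgroup.centralizer ({((g : ↥L) : G)} : Set G) := by
      rw [Subgroup.zpowers_le, Subgroup.mem_centralizer_singleton_iff]
      exact hg.symm
    have hn' := Subgroup.mem_centralizer_singleton_iff.mp (hzle hn)
    have e : ((L.subtype).comp (T : Subgroup ↥L).subtype) (g * n * g⁻¹) =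
        ((L.subtype).comp (T : Subgroup ↥L).subtype) n := by
      simp only [map_mul, map_inv]
      rw [mul_inv_eq_iff_eq_mul]
      exact hn'.symm
    rw [e]; exact hn
  have hsq : ∀ x : ↥(T : Subgroup ↥L),
      x ^ 2 ∈ (Subgroup.zpowers z₁).comap ((L.subtype).comp (T : Subgroup ↥L).subtype) := by
    intro x
    rw [Subgroup.mem_comap, map_pow, pow_two]
    show ((x : ↥L) : G) * ((x : ↥L) : G) ∈ Subgroup.zpowers z₁
    rcases H.sq D (x : ↥L).2 (hcommT x) with h | h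
    · rw [h]; exact one_mem _
    · rw [h]; exact Subgroup.mem_zpowers _
  have hfr := @Cfsg.Agent.Lib.Helper72.frattini_le_of_sq_mem ↥(T : Subgroup ↥L) _ _ _ hN hsq
  exact Subgroup.map_le_iff_le_comap.mpr hfr

theorem TwoComp.ne_core [Finite G] {L : Subgroup G} {u z₁ : G} (H : TwoComp Q z L u z₁)
    (D : LEData Q z) :
    Q ≠ (Cfsg.pCore 2 ↥(Subgroup.centralizer ({z} : Set G))).map
      (Subgroup.centralizer ({z} : Set G)).subtype := by
  intro hQeq
  have : Fact (Nat.Prime 2) := ⟨Nat.prime_two⟩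
  apply D.false_of_small H.hL H.hz₁ H.z₁_ne H.z₁_sq
  intro x hx hxz
  -- the 2-groups `C_L(z₁)` and its conjugate
  have hHp : IsPGroup 2 ↥(L ⊓ Subgroup.centralizer ({z₁} : Set G)) := by
    intro g
    refine ⟨2, ?_⟩
    apply Subtype.ext
    have hg := Subgroup.mem_inf.mp g.2
    have := H.pow_four D hg.1 (Subgroup.mem_centralizer_singleton_iff.mp hg.2)
    simpa using this
  have hKp : IsPGroup 2 ↥(cj u (L ⊓ Subgroup.centralizer ({z₁} : Set G))) :=
    hHp.map _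
  have hHK : L ⊓ Subgroup.centralizer ({z₁} : Set G) ≤
      Subgroup.normalizer ((cj u (L ⊓ Subgroup.centralizer ({z₁} : Set G)) : Subgroup G) : Set G) := by
    intro a ha
    apply Subgroup.centralizer_le_normalizer
    rw [Subgroup.mem_centralizer_iff]
    intro y hy
    have hyL : y ∈ cj u L := Subgroup.map_mono inf_le_left hy
    exact (Subgroup.mem_centralizer_iff.mp (H.hcen hyL) a (Subgroup.mem_inf.mp ha).1).symm
  have hsup := hHp.to_sup_of_normal_right' hKp hHK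
  have hle : Cfsg.layer G ⊓ Subgroup.centralizer ({z} : Set G) ≤
      (L ⊓ Subgroup.centralizer ({z₁} : Set G)) ⊔
        cj u (L ⊓ Subgroup.centralizer ({z₁} : Set G)) := by
    intro g hg
    obtain ⟨hgE, hgz⟩ := Subgroup.mem_inf.mp hg
    rw [H.hE] at hgE
    obtain ⟨p, hp, r, hr, hgpr⟩ := Cfsg.Agent.Lib.Helper40.NarrowAct2.exists_mul_of_mem_sup
      (fun h hh k hk => (Subgroup.mem_centralizer_iff.mp (H.hcen hk) h hh)) hgE
    have hgz' : g * z = z * g := Subgroup.mem_centralizer_singleton_iff.mp hgz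
    have hz₂ : u * z₁ * u⁻¹ ∈ cj u L := conj_mem_cj H.hz₁
    have hrz₁ : z₁ * r = r * z₁ := Subgroup.mem_centralizer_iff.mp (H.hcen hr) z₁ H.hz₁
    have hpz₂ : p * (u * z₁ * u⁻¹) = (u * z₁ * u⁻¹) * p :=
      Subgroup.mem_centralizer_iff.mp (H.hcen hz₂) p hp
    have hkey : (p * z₁) * (r * (u * z₁ * u⁻¹)) = (z₁ * p) * ((u * z₁ * u⁻¹) * r) := by
      calc (p * z₁) * (r * (u * z₁ * u⁻¹)) = p * (z₁ * r) * (u * z₁ * u⁻¹) := by group
        _ = p * (r * z₁) * (u * z₁ * u⁻¹) := by rw [hrz₁]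
        _ = (p * r) * (z₁ * (u * z₁ * u⁻¹)) := by group
        _ = g * z := by rw [← hgpr, ← H.hz]
        _ = z * g := hgz'
        _ = (z₁ * (u * z₁ * u⁻¹)) * (p * r) := by rw [← hgpr, ← H.hz]
        _ = z₁ * ((u * z₁ * u⁻¹) * p) * r := by group
        _ = z₁ * (p * (u * z₁ * u⁻¹)) * r := by rw [hpz₂]
        _ = (z₁ * p) * ((u * z₁ * u⁻¹) * r) := by group
    obtain ⟨h1, h2⟩ := dec_unique H.hA (mul_mem hp H.hz₁) (mul_mem H.hz₁ hp)
      (H.hcen (mul_mem hr hz₂)) (H.hcen (mul_mem hz₂ hr)) hkey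
    rw [hgpr]
    refine Subgroup.mul_mem_sup ?_ ?_
    · exact Subgroup.mem_inf.mpr ⟨hp, Subgroup.mem_centralizer_singleton_iff.mpr h1⟩
    · rw [mem_cj_iff]
      refine Subgroup.mem_inf.mpr ⟨mem_cj_iff.mp hr, ?_⟩
      rw [Subgroup.mem_centralizer_singleton_iff]
      calc u⁻¹ * r * u * z₁ = u⁻¹ * (r * (u * z₁ * u⁻¹)) * u := by group
        _ = u⁻¹ * ((u * z₁ * u⁻¹) * r) * u := by rw [h2]
        _ = z₁ * (u⁻¹ * r * u) := by group
  have hEC : IsPGroup 2 ↥(Cfsg.layer G ⊓ Subgroup.centralizer ({z} : Set G)) := hsup.to_le hle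
  have hNp : IsPGroup 2 ↥((Cfsg.layer G).subgroupOf (Subgroup.centralizer ({z} : Set G))) := by
    have := hEC.comap_subtype (K := Subgroup.centralizer ({z} : Set G))
    rw [← Subgroup.subgroupOf, Subgroup.inf_subgroupOf_right] at this
    exact this
  have hEn : (Cfsg.layer G).Normal := Cfsg.Agent.Lib.Helper30.layer_normal
  have hNn : ((Cfsg.layer G).subgroupOf (Subgroup.centralizer ({z} : Set G))).Normal :=
    inferInstance
  have hxQ : x ∈ Q := by
    rw [hQeq]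
    refine ⟨⟨x, Subgroup.mem_centralizer_singleton_iff.mpr hxz⟩, ?_, rfl⟩
    apply Cfsg.Agent.Lib.Helper01.le_pCore hNn hNp
    rw [Subgroup.mem_subgroupOf]
    exact Cfsg.Agent.Lib.Helper30.component_le_layer H.hL hx
  have hw := D.comm x⁻¹ (inv_mem hxQ) u H.hu
  have e : x⁻¹ * u * x⁻¹⁻¹ * u⁻¹ = x⁻¹ * (u * x * u⁻¹) := by group
  rw [e] at hw
  have hr : u * x * u⁻¹ ∈ centralizer (L : Set G) := H.hcen (conj_mem_cj hx)
  rcases hw with h | h
  · left
    have h5 : x⁻¹ * (u * x * u⁻¹) = 1 * 1 := by rw [h, one_mul]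
    have h6 := (dec_unique H.hA (inv_mem hx) (one_mem _) hr (one_mem _) h5).1
    exact inv_eq_one.mp h6
  · right
    have h5 : x⁻¹ * (u * x * u⁻¹) = z₁ * (u * z₁ * u⁻¹) := by rw [h]; exact H.hz
    have h6 := (dec_unique H.hA (inv_mem hx) H.hz₁ hr (H.hcen (conj_mem_cj H.hz₁)) h5).1
    rw [← H.inv_z₁, ← h6, inv_inv]

end Cfsg.Agent.Lib.Helper93.LE
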