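import Cfsg.Agent.Lib.Helper93.M11Data

/-!
A check over all 7920 elements of `Cfsg.Spor.M11` (as products of four tables): an element without
fixed points off the dodecad of squares has neither square nor cube equal to the identity.
-/

set_option autoImplicit false

namespace Cfsg.Agent.Lib.Helper93

open Cfsg Cfsg.Agent.Lib.Helper10

/-- action on indices of the product of four tables. -/
def act4 (t1 t2 t3 t4 : List ℕ) (i : ℕ) : ℕ :=
  t1.getD (t2.getD (t3.getD (t4.getD i 0) 0) 0) 0

/-- the product of the four tables has a fixed point off the dodecad of squares, or else neither its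
square nor its cube is the identity. -/
def m11chk (t1 t2 t3 t4 : List ℕ) : Bool :=
  (List.range 24).any (fun i => !sqMask.testBit i && (act4 t1 t2 t3 t4 i == i)) ||
  ((List.range 24).any (fun i => act4 t1 t2 t3 t4 (act4 t1 t2 t3 t4 i) != i) &&
   (List.range 24).any (fun i =>
     act4 t1 t2 t3 t4 (act4 t1 t2 t3 t4 (act4 t1 t2 t3 t4 i)) != i))

theorem m11chk_all : m11lev1.all (fun x1 => m11lev2.all (fun x2 => m11lev3.all (fun x3 =>
    m11lev4.all (fun x4 => m11chk x1.1 x2.1 x3.1 x4.1)))) = true := by
  decide +kernel

theorem card_off_sq : Fintype.card {x : GolayPt // x ∉ Spor.squareDodecad} = 12 := by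
  decide +kernel

end Cfsg.Agent.Lib.Helper93
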