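import Cfsg.Agent.Lib.Helper93.M11SimpleData

/-!
The group `Cfsg.Spor.M11` is simple, from the certificates of `M11SimpleData`.
-/

set_option autoImplicit false

namespace Cfsg.Agent.Lib.Helper93

open Cfsg Cfsg.Agent.Lib.Helper10
open scoped Pointwise

/-! ### Simplicity -/

section
variable (N : Subgroup (Equiv.Perm GolayPt))
  (hconj : ∀ h ∈ Spor.M11, ∀ n ∈ N, h * n * h⁻¹ ∈ N)
include hconj

theorem m11_conj_mem {src : ℕ} {pairs : List (ℕ × ℕ)} (hs : m11el src ∈ N)
    (hok : m11conjOK src pairs = true) : ∀ p ∈ pairs, m11el p.2 ∈ N := by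
  intro p hp
  have h := (List.all_eq_true.mp hok) p hp
  have hlt : p.1 < 7920 := by
    simp only [m11same, Bool.and_eq_true, List.all_eq_true, decide_eq_true_eq] at h
    exact h.1.1 p.1 (by simp)
  have e := m11W_eq_of_same h
  rw [m11W_pair, m11W_pair] at e
  have : m11el p.2 = m11el p.1 * m11el src * (m11el p.1)⁻¹ := by
    rw [e]; group
  rw [this]
  exact hconj _ (m11el_mem hlt) _ hs

theorem m11_prod_mem {src : ℕ} {pairs : List (ℕ × ℕ)} (hs : m11el src ∈ N)
    (hok : m11conjOK src pairs = true) : m11W (pairs.map Prod.snd) ∈ N := by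
  unfold m11W
  apply Subgroup.list_prod_mem
  intro x hx
  simp only [List.mem_map] at hx
  obtain ⟨e, ⟨p, hp, rfl⟩, rfl⟩ := hx
  exact m11_conj_mem N hconj hs hok p hp

theorem m11_r11_mem {e : ℕ} (he : e < 7920) (he0 : e ≠ 0) (hN : m11el e ∈ N) :
    m11el m11r11 ∈ N := by
  have hlen : e < m11certA.length := by rw [m11certA_length]; exact he
  have hmem : (m11certA[e], e) ∈ m11certA.zipIdx := by
    rw [List.mem_zipIdx_iff_getElem?]
    simp [List.getElem?_eq_getElem hlen]
  have h := (List.all_eq_true.mp m11certA_ok) _ hmem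
  simp only [Bool.or_eq_true, beq_iff_eq, Bool.and_eq_true, decide_eq_true_eq] at h
  rcases h with h | ⟨hc, h⟩
  · exact absurd h he0
  -- the representative lies in N
  set c := (m11certA[e]).1 with hcdef
  set hh := (m11certA[e]).2 with hhdef
  have hlt : hh < 7920 := by
    simp only [m11same, Bool.and_eq_true, List.all_eq_true, decide_eq_true_eq] at h
    exact h.1.1 hh (by simp)
  have e1 := m11W_eq_of_same h
  rw [m11W_pair, m11W_pair] at e1
  have hrep : m11el (m11reps.getD c 0) ∈ N := by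
    have : m11el (m11reps.getD c 0) = m11el hh * m11el e * (m11el hh)⁻¹ := by
      rw [e1]; group
    rw [this]
    exact hconj _ (m11el_mem hlt) _ hN
  have hB := (List.all_eq_true.mp m11certB_ok) c (List.mem_range.mpr hc)
  rw [Bool.and_eq_true] at hB
  have hp := m11_prod_mem N hconj hrep hB.1
  rw [m11W_eq_of_same hB.2, m11W_singleton] at hp
  exact hp

theorem m11_lev_mem (hN : m11el m11r11 ∈ N) {lev : List (List ℕ × List ℕ × List ℕ)}
    {cert : List (List (ℕ × ℕ))} (hc : m11chkC lev cert = true)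
    (hlev : ∀ x ∈ lev, tabOk x.1 x.2.1 = true ∧ tabPerm x.1 x.2.1 ∈ Spor.M11)
    {x : List ℕ × List ℕ × List ℕ} (hx : x ∈ lev) : tabPerm x.1 x.2.1 ∈ N := by
  unfold m11chkC at hc
  rw [Bool.and_eq_true, decide_eq_true_eq] at hc
  obtain ⟨hlen, hall⟩ := hc
  obtain ⟨i, hi, rfl⟩ := List.getElem_of_mem hx
  have hi' : i < cert.length := by rw [← hlen]; exact hi
  have hmem : (lev[i], cert[i]) ∈ lev.zip cert := by
    rw [List.mem_iff_getElem]
    refine ⟨i, by simp [hi, hi'], by simp⟩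
  have h := (List.all_eq_true.mp hall) _ hmem
  simp only [Bool.and_eq_true, List.all_eq_true, decide_eq_true_eq, beq_iff_eq] at h
  obtain ⟨⟨h1, h2⟩, h3⟩ := h
  have hp := m11_prod_mem N hconj hN h1
  have heq : m11W (cert[i].map Prod.snd) = tabPerm lev[i].1 lev[i].2.1 := by
    apply m11_eq_of_base (m11W_mem _ h2) (hlev _ hx).2
    intro j hj
    apply idx_injective
    have hj24 : j < 24 := by
      simp only [List.mem_cons, List.not_mem_nil, or_false] at hj
      omega
    rw [idx_m11W _ h2, idx_tabPerm (hlev _ hx).1, idx_pt hj24]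
    exact h3 j hj
  rw [← heq]
  exact hp

end

theorem stabG_le_M11 {F : List ℕ} (h0 : 0 ∈ F) : stabG sqMask F ≤ Spor.M11 := by
  intro g hg
  rw [mem_M11_iff]
  exact stabG_anti (F := [0]) (by simpa using h0) hg

/-- a nontrivial subgroup of `M11` closed under conjugation by `M11` is `M11`. -/
theorem m11_normal_eq (N : Subgroup (Equiv.Perm GolayPt)) (hle : N ≤ Spor.M11)
    (hconj : ∀ h ∈ Spor.M11, ∀ n ∈ N, h * n * h⁻¹ ∈ N) (hne : N ≠ ⊥) : N = Spor.M11 := by
  apply le_antisymm hle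
  obtain ⟨g, hg1⟩ := (Subgroup.ne_bot_iff_exists_ne_one).mp hne
  obtain ⟨e, he, hge⟩ := m11_surj (hle g.2)
  have he0 : e ≠ 0 := by
    rintro rfl
    apply hg1
    apply Subtype.ext
    rw [hge]
    show m11el 0 = 1
    apply m11_eq_of_base (m11el_mem (by norm_num)) (Subgroup.one_mem _)
    intro i hi
    apply idx_injective
    have hi24 : i < 24 := by
      simp only [List.mem_cons, List.not_mem_nil, or_false] at hi
      omega
    rw [idx_m11el (by norm_num), idx_pt hi24, m11act_zero i hi, Equiv.Perm.one_apply, idx_pt hi24]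
  have hN : m11el e ∈ N := by rw [← hge]; exact g.2
  have h11 := m11_r11_mem N hconj he he0 hN
  intro x hx
  obtain ⟨x1, hx1, x2, hx2, x3, hx3, x4, hx4, rfl⟩ := m11_factor hx
  have l1 := m11_lev_mem N hconj h11 m11certC1_ok
    (fun x hx => ⟨(sift_mem m11_sift1 hx).1, stabG_le_M11 (by simp) (sift_mem m11_sift1 hx).2⟩) hx1
  have l2 := m11_lev_mem N hconj h11 m11certC2_ok
    (fun x hx => ⟨(sift_mem m11_sift2 hx).1, stabG_le_M11 (by simp) (sift_mem m11_sift2 hx).2⟩) hx2
  have l3 := m11_lev_mem N hconj h11 m11certC3_ok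
    (fun x hx => ⟨(sift_mem m11_sift3 hx).1, stabG_le_M11 (by simp) (sift_mem m11_sift3 hx).2⟩) hx3
  have l4 := m11_lev_mem N hconj h11 m11certC4_ok
    (fun x hx => ⟨(sift_mem m11_sift4 hx).1, stabG_le_M11 (by simp) (sift_mem m11_sift4 hx).2⟩) hx4
  exact N.mul_mem (N.mul_mem (N.mul_mem l1 l2) l3) l4

theorem m11_nontrivial : Nontrivial ↥Spor.M11 := by
  refine ⟨⟨⟨m11el m11r11, m11el_mem m11r11_lt⟩, 1, ?_⟩⟩
  intro h
  have h1 : m11el m11r11 = 1 := congrArg Subtype.val h
  have h2 := idx_m11el m11r11_lt (pt 1)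
  rw [h1, idx_pt (by norm_num)] at h2
  exact m11r11_ne h2.symm

/-- the Mathieu group `M11` is simple. -/
theorem m11_isSimpleGroup : IsSimpleGroup ↥Spor.M11 := by
  have := m11_nontrivial
  refine ⟨fun K hK => ?_⟩
  by_cases hbot : K = ⊥
  · exact Or.inl hbot
  right
  have hle : K.map Spor.M11.subtype ≤ Spor.M11 := by
    rintro _ ⟨k, _, rfl⟩
    exact k.2
  have hconj : ∀ h ∈ Spor.M11, ∀ n ∈ K.map Spor.M11.subtype, h * n * h⁻¹ ∈ K.map Spor.M11.subtype := by
    rintro h hh _ ⟨k, hk, rfl⟩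
    exact ⟨⟨h, hh⟩ * k * ⟨h, hh⟩⁻¹, hK.conj_mem k hk ⟨h, hh⟩, rfl⟩
  have hne : K.map Spor.M11.subtype ≠ ⊥ := by
    intro h
    apply hbot
    rw [Subgroup.map_eq_bot_iff_of_injective _ (Subgroup.subtype_injective _)] at h
    exact h
  have heq := m11_normal_eq _ hle hconj hne
  rw [eq_top_iff]
  intro k _
  have : (k : Equiv.Perm GolayPt) ∈ K.map Spor.M11.subtype := by rw [heq]; exact k.2
  obtain ⟨k', hk', e⟩ := this
  have : k' = k := Subtype.ext e
  rw [← this]
  exact hk'

end Cfsg.Agent.Lib.Helper93
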