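import Cfsg.Agent.Lib.Helper93.M11Chk

/-!
Data for the simplicity of `Cfsg.Spor.M11`: its 7920 elements are numbered (as products of four
tables), every element other than the identity is conjugate to one of nine listed elements, each of
these has a product of conjugates equal to a fixed element of order 11, and every table is a
product of conjugates of that element.
-/

set_option autoImplicit false

namespace Cfsg.Agent.Lib.Helper93

open Cfsg Cfsg.Agent.Lib.Helper10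
open scoped Pointwise

/-! ### Numbering the elements -/

def m11x1 (e : ℕ) : List ℕ × List ℕ × List ℕ := m11lev1.getD (e / 720) ([], [], [])
def m11x2 (e : ℕ) : List ℕ × List ℕ × List ℕ := m11lev2.getD (e / 72 % 10) ([], [], [])
def m11x3 (e : ℕ) : List ℕ × List ℕ × List ℕ := m11lev3.getD (e / 8 % 9) ([], [], [])
def m11x4 (e : ℕ) : List ℕ × List ℕ × List ℕ := m11lev4.getD (e % 8) ([], [], [])

/-- element number `e` of `M11`. -/
def m11el (e : ℕ) : Equiv.Perm GolayPt :=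
  tabPerm (m11x1 e).1 (m11x1 e).2.1 * tabPerm (m11x2 e).1 (m11x2 e).2.1 *
    tabPerm (m11x3 e).1 (m11x3 e).2.1 * tabPerm (m11x4 e).1 (m11x4 e).2.1

/-- its action on indices. -/
def m11act (e i : ℕ) : ℕ := act4 (m11x1 e).1 (m11x2 e).1 (m11x3 e).1 (m11x4 e).1 i

theorem m11lev1_length : m11lev1.length = 11 := by decide
theorem m11lev2_length : m11lev2.length = 10 := by decide
theorem m11lev3_length : m11lev3.length = 9 := by decide
theorem m11lev4_length : m11lev4.length = 8 := by decide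

theorem getD_mem' {α : Type*} (l : List α) (d : α) {j : ℕ} (hj : j < l.length) : l.getD j d ∈ l := by
  rw [List.getD_eq_getElem _ _ hj]
  exact List.getElem_mem _

theorem m11x1_mem {e : ℕ} (he : e < 7920) : m11x1 e ∈ m11lev1 :=
  getD_mem' _ _ (by rw [m11lev1_length]; omega)
theorem m11x2_mem (e : ℕ) : m11x2 e ∈ m11lev2 :=
  getD_mem' _ _ (by rw [m11lev2_length]; omega)
theorem m11x3_mem (e : ℕ) : m11x3 e ∈ m11lev3 :=
  getD_mem' _ _ (by rw [m11lev3_length]; omega)
theorem m11x4_mem (e : ℕ) : m11x4 e ∈ m11lev4 :=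
  getD_mem' _ _ (by rw [m11lev4_length]; omega)

theorem stabG_anti {S : ℕ} {F F' : List ℕ} (h : ∀ i ∈ F, i ∈ F') : stabG S F' ≤ stabG S F := by
  intro g hg
  rw [mem_stabG] at hg ⊢
  exact ⟨hg.1, hg.2.1, fun i hi => hg.2.2 i (h i hi)⟩

theorem m11el_mem {e : ℕ} (he : e < 7920) : m11el e ∈ Spor.M11 := by
  rw [mem_M11_iff]
  have h1 := (sift_mem m11_sift1 (m11x1_mem he)).2
  have h2 := stabG_anti (F := [0]) (by simp) (sift_mem m11_sift2 (m11x2_mem e)).2
  have h3 := stabG_anti (F := [0]) (by simp) (sift_mem m11_sift3 (m11x3_mem e)).2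
  have h4 := stabG_anti (F := [0]) (by simp) (sift_mem m11_sift4 (m11x4_mem e)).2
  exact (stabG sqMask [0]).mul_mem ((stabG sqMask [0]).mul_mem ((stabG sqMask [0]).mul_mem h1 h2) h3) h4

theorem idx_m11el {e : ℕ} (he : e < 7920) (p : GolayPt) : idx (m11el e p) = m11act e (idx p) := by
  unfold m11el m11act
  simp only [Equiv.Perm.mul_apply]
  rw [idx_tabPerm (sift_mem m11_sift1 (m11x1_mem he)).1,
    idx_tabPerm (sift_mem m11_sift2 (m11x2_mem e)).1,
    idx_tabPerm (sift_mem m11_sift3 (m11x3_mem e)).1,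
    idx_tabPerm (sift_mem m11_sift4 (m11x4_mem e)).1]
  rfl

theorem exists_getD_of_mem {α : Type*} {l : List α} {x : α} (d : α) (hx : x ∈ l) :
    ∃ i < l.length, l.getD i d = x := by
  obtain ⟨i, hi, rfl⟩ := List.getElem_of_mem hx
  exact ⟨i, hi, List.getD_eq_getElem _ _ hi⟩

theorem m11_surj {g : Equiv.Perm GolayPt} (hg : g ∈ Spor.M11) : ∃ e < 7920, g = m11el e := by
  obtain ⟨x1, hx1, x2, hx2, x3, hx3, x4, hx4, rfl⟩ := m11_factor hg
  obtain ⟨i1, hi1, rfl⟩ := exists_getD_of_mem ([], [], []) hx1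
  obtain ⟨i2, hi2, rfl⟩ := exists_getD_of_mem ([], [], []) hx2
  obtain ⟨i3, hi3, rfl⟩ := exists_getD_of_mem ([], [], []) hx3
  obtain ⟨i4, hi4, rfl⟩ := exists_getD_of_mem ([], [], []) hx4
  rw [m11lev1_length] at hi1
  rw [m11lev2_length] at hi2
  rw [m11lev3_length] at hi3
  rw [m11lev4_length] at hi4
  refine ⟨i1 * 720 + i2 * 72 + i3 * 8 + i4, by omega, ?_⟩
  unfold m11el m11x1 m11x2 m11x3 m11x4
  have e1 : (i1 * 720 + i2 * 72 + i3 * 8 + i4) / 720 = i1 := by omega
  have e2 : (i1 * 720 + i2 * 72 + i3 * 8 + i4) / 72 % 10 = i2 := by omega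
  have e3 : (i1 * 720 + i2 * 72 + i3 * 8 + i4) / 8 % 9 = i3 := by omega
  have e4 : (i1 * 720 + i2 * 72 + i3 * 8 + i4) % 8 = i4 := by omega
  rw [e1, e2, e3, e4]

/-- two elements of `M11` with the same images of `1, 2, 3, 4` are equal. -/
theorem m11_eq_of_base {a b : Equiv.Perm GolayPt} (ha : a ∈ Spor.M11) (hb : b ∈ Spor.M11)
    (h : ∀ i ∈ [1, 2, 3, 4], a (pt i) = b (pt i)) : a = b := by
  rw [mem_M11_iff] at ha hb
  have hmul := (stabG sqMask [0]).mul_mem ((stabG sqMask [0]).inv_mem hb) ha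
  obtain ⟨h1, h2, h3⟩ := mem_stabG.mp hmul
  have h5 : b⁻¹ * a ∈ stabG sqMask [4, 3, 2, 1, 0] := by
    rw [mem_stabG]
    refine ⟨h1, h2, ?_⟩
    intro i hi
    simp only [List.mem_cons, List.not_mem_nil, or_false] at hi
    rw [Equiv.Perm.mul_apply, Equiv.Perm.inv_eq_iff_eq]
    rcases hi with rfl | rfl | rfl | rfl | rfl
    · exact h 4 (by simp)
    · exact h 3 (by simp)
    · exact h 2 (by simp)
    · exact h 1 (by simp)
    · have h0a := (mem_stabG.mp ha).2.2 0 (by simp)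
      have h0b := (mem_stabG.mp hb).2.2 0 (by simp)
      rw [h0a, h0b]
  have := sq_rigid h5
  rw [inv_mul_eq_one] at this
  exact this.symm

/-! ### Words -/

/-- the product of the elements with the numbers in `w`. -/
def m11W (w : List ℕ) : Equiv.Perm GolayPt := (w.map m11el).prod

/-- its action on indices. -/
def m11Wact : List ℕ → ℕ → ℕ
  | [], i => i
  | e :: w, i => m11act e (m11Wact w i)

theorem idx_m11W (w : List ℕ) (hw : ∀ e ∈ w, e < 7920) (p : GolayPt) :
    idx (m11W w p) = m11Wact w (idx p) := by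
  induction w with
  | nil => simp [m11W, m11Wact]
  | cons e w ih =>
    have he : e < 7920 := hw e (by simp)
    have ih' := ih (fun k hk => hw k (by simp [hk]))
    unfold m11W at ih' ⊢
    simp only [List.map_cons, List.prod_cons, Equiv.Perm.mul_apply, m11Wact]
    rw [idx_m11el he, ih']

theorem m11W_mem (w : List ℕ) (hw : ∀ e ∈ w, e < 7920) : m11W w ∈ Spor.M11 := by
  unfold m11W
  apply Subgroup.list_prod_mem
  intro x hx
  rw [List.mem_map] at hx
  obtain ⟨e, he, rfl⟩ := hx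
  exact m11el_mem (hw e he)

/-- the two words have entries below 7920 and the same action on `1, 2, 3, 4`. -/
def m11same (w w' : List ℕ) : Bool :=
  w.all (fun e => decide (e < 7920)) && w'.all (fun e => decide (e < 7920)) &&
    [1, 2, 3, 4].all (fun i => m11Wact w i == m11Wact w' i)

theorem m11W_eq_of_same {w w' : List ℕ} (h : m11same w w' = true) : m11W w = m11W w' := by
  simp only [m11same, Bool.and_eq_true, List.all_eq_true, decide_eq_true_eq, beq_iff_eq] at h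
  obtain ⟨⟨hw, hw'⟩, hb⟩ := h
  apply m11_eq_of_base (m11W_mem w hw) (m11W_mem w' hw')
  intro i hi
  apply idx_injective
  have hi24 : i < 24 := by
    simp only [List.mem_cons, List.not_mem_nil, or_false] at hi
    omega
  rw [idx_m11W w hw, idx_m11W w' hw', idx_pt hi24]
  exact hb i hi

theorem m11W_singleton (e : ℕ) : m11W [e] = m11el e := by simp [m11W]
theorem m11W_pair (a b : ℕ) : m11W [a, b] = m11el a * m11el b := by simp [m11W]

/-! ### The certificates -/

def m11reps : List ℕ := [1, 4, 14, 74, 75, 76, 720, 729, 732]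

def m11r11 : ℕ := 720

set_option maxRecDepth 1000000 in
def m11certA : List (ℕ × ℕ) := [
  (0, 0), (0, 0), (0, 1749), (0, 6), (1, 0), (0, 2063), (0, 1746), (0, 1281), (0, 1758), (0, 2066), (1, 62), (0, 2024),
  (0, 1186), (0, 56), (2, 0), (0, 9), (0, 59), (1, 72), (0, 1256), (2, 47), (0, 44), (0, 1759), (0, 2055), (0, 1790),
  (2, 30), (0, 72), (0, 1196), (0, 62), (1, 24), (0, 2085), (0, 1161), (0, 2052), (0, 2080), (0, 1175), (0, 12), (0, 1159),
  (0, 1225), (1, 2040), (0, 27), (2, 1), (0, 1732), (0, 2040), (1, 30), (0, 1248), (0, 1791), (0, 24), (2, 4), (0, 41),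
  (0, 10), (1, 27), (0, 2049), (2, 63), (0, 63), (0, 1200), (0, 1269), (0, 1212), (2, 2), (0, 47), (0, 1156), (0, 30),
  (1, 56), (0, 1261), (0, 1188), (0, 2016), (0, 42), (1, 59), (0, 1229), (2, 5), (0, 116), (0, 1153), (0, 2082), (0, 1783),
  (0, 1353), (0, 1452), (3, 0), (4, 0), (5, 0), (0, 544), (3, 518), (2, 412), (2, 1398), (3, 72), (0, 1450), (3, 439),
  (0, 550), (5, 6), (4, 6), (0, 2144), (0, 1448), (5, 72), (0, 548), (0, 1943), (4, 4), (3, 514), (2, 228), (3, 4),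
  (0, 945), (0, 1449), (3, 432), (4, 3), (5, 3), (2, 598), (3, 3), (0, 697), (1, 1440), (1, 1330), (5, 297), (1, 507),
  (1, 249), (4, 474), (4, 335), (5, 431), (0, 594), (3, 342), (0, 1453), (3, 7), (2, 742), (5, 7), (4, 7), (0, 720),
  (0, 1022), (5, 1), (2, 594), (0, 1356), (4, 72), (3, 1), (0, 374), (3, 436), (4, 5), (5, 5), (0, 368), (0, 2015),
  (0, 1455), (3, 5), (2, 512), (3, 415), (5, 2), (0, 1590), (3, 343), (4, 242), (0, 1700), (0, 546), (3, 2), (2, 513),
  (1, 524), (0, 527), (0, 1905), (0, 360), (2, 522), (0, 1322), (0, 1638), (0, 1471), (0, 828), (0, 1151), (2, 359), (4, 10),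
  (5, 496), (3, 66), (0, 518), (3, 273), (2, 399), (3, 563), (5, 416), (2, 575), (3, 58), (0, 1043), (0, 1511), (4, 30),
  (3, 38), (3, 539), (4, 66), (0, 338), (0, 572), (4, 267), (0, 1440), (4, 468), (0, 817), (0, 1681), (2, 72), (4, 311),
  (5, 30), (3, 102), (3, 575), (2, 539), (4, 54), (5, 454), (1, 265), (4, 38), (5, 161), (2, 546), (0, 508), (2, 1279),
  (1, 1974), (3, 399), (4, 633), (3, 316), (3, 462), (0, 1642), (5, 631), (0, 1309), (3, 576), (3, 54), (4, 144), (1, 285),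
  (3, 46), (0, 1994), (5, 10), (0, 1008), (0, 557), (0, 200), (0, 2153), (3, 327), (3, 30), (5, 38), (5, 54), (5, 336),
  (2, 530), (3, 359), (0, 781), (3, 69), (0, 519), (4, 551), (5, 17), (0, 1861), (4, 61), (0, 914), (3, 17), (0, 1888),
  (5, 633), (1, 720), (3, 47), (3, 185), (0, 537), (1, 220), (0, 1918), (2, 633), (0, 658), (0, 1131), (0, 1466), (0, 1990),
  (0, 501), (0, 576), (4, 228), (3, 487), (3, 39), (4, 47), (0, 1125), (4, 450), (4, 39), (4, 365), (2, 549), (5, 47),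
  (5, 69), (0, 250), (2, 416), (1, 168), (0, 789), (5, 61), (3, 416), (4, 632), (0, 1029), (3, 294), (3, 222), (1, 499),
  (3, 31), (3, 238), (0, 1331), (0, 528), (0, 558), (5, 576), (5, 55), (5, 348), (3, 479), (3, 61), (4, 31), (2, 720),
  (2, 168), (5, 309), (0, 1491), (0, 1506), (2, 564), (2, 576), (0, 996), (3, 144), (3, 431), (4, 433), (5, 31), (0, 962),
  (0, 1713), (0, 1501), (0, 608), (0, 1003), (0, 1467), (1, 360), (0, 523), (2, 520), (3, 56), (3, 386), (0, 879), (2, 571),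
  (2, 601), (0, 1494), (5, 355), (4, 28), (5, 44), (5, 124), (0, 506), (4, 116), (4, 360), (2, 544), (1, 696), (2, 112),
  (4, 18), (0, 1480), (3, 460), (0, 1305), (5, 56), (3, 314), (1, 869), (3, 351), (0, 242), (3, 488), (0, 826), (3, 64),
  (2, 428), (0, 1477), (5, 18), (4, 249), (2, 667), (3, 637), (5, 28), (2, 541), (3, 496), (4, 444), (0, 823), (0, 963),
  (5, 116), (0, 1602), (3, 18), (0, 756), (4, 56), (3, 186), (3, 44), (1, 281), (0, 794), (5, 36), (3, 116), (5, 399),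
  (5, 591), (3, 468), (0, 298), (0, 694), (0, 1612), (4, 451), (3, 36), (4, 44), (4, 64), (3, 242), (0, 665), (0, 561),
  (0, 1522), (5, 19), (3, 357), (0, 959), (4, 614), (2, 147), (3, 71), (0, 168), (3, 718), (3, 469), (0, 1929), (0, 532),
  (0, 554), (5, 168), (5, 53), (5, 335), (0, 1441), (4, 91), (0, 571), (4, 454), (4, 421), (3, 536), (3, 37), (0, 180),
  (5, 602), (5, 659), (2, 553), (4, 53), (4, 37), (1, 519), (2, 551), (0, 507), (3, 302), (3, 63), (4, 29), (2, 121),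
  (2, 311), (5, 311), (0, 1489), (0, 1510), (2, 73), (2, 536), (0, 1896), (3, 632), (3, 254), (4, 445), (5, 439), (0, 1878),
  (0, 1487), (4, 19), (3, 348), (5, 63), (0, 1883), (1, 278), (3, 551), (3, 527), (0, 1470), (0, 1637), (0, 539), (0, 1347),
  (0, 1327), (2, 320), (0, 416), (1, 233), (5, 15), (0, 805), (3, 45), (0, 1853), (4, 63), (3, 91), (3, 19), (1, 1856),
  (5, 50), (5, 34), (0, 474), (5, 334), (0, 1332), (3, 466), (3, 175), (0, 531), (0, 525), (2, 526), (0, 762), (1, 144),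
  (0, 685), (0, 1634), (0, 1469), (0, 1666), (5, 242), (4, 14), (0, 514), (0, 895), (0, 958), (3, 494), (2, 144), (3, 70),
  (5, 70), (5, 42), (2, 550), (4, 366), (4, 399), (0, 253), (2, 249), (1, 244), (2, 579), (3, 502), (0, 1313), (2, 489),
  (3, 633), (0, 993), (4, 432), (5, 26), (1, 299), (3, 397), (4, 538), (3, 260), (3, 458), (0, 1646), (5, 62), (0, 790),
  (5, 14), (0, 982), (3, 16), (0, 1600), (4, 62), (1, 576), (3, 42), (3, 50), (4, 298), (0, 1548), (3, 311), (4, 70),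
  (4, 600), (3, 34), (0, 567), (0, 393), (0, 1542), (5, 357), (2, 614), (0, 1113), (4, 378), (3, 62), (3, 474), (2, 124),
  (5, 41), (5, 227), (1, 266), (4, 33), (4, 576), (2, 559), (0, 509), (2, 547), (0, 481), (0, 552), (5, 373), (3, 168),
  (3, 465), (5, 49), (5, 33), (0, 1704), (0, 1397), (0, 2130), (3, 532), (5, 21), (4, 404), (0, 513), (3, 614), (2, 140),
  (4, 458), (5, 249), (3, 97), (0, 2096), (0, 1962), (2, 566), (2, 578), (3, 335), (0, 541), (2, 360), (0, 1912), (1, 222),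
  (0, 524), (0, 1665), (0, 1617), (0, 1833), (0, 573), (3, 360), (4, 67), (0, 178), (3, 33), (4, 469), (0, 1384), (4, 431),
  (0, 1825), (4, 25), (3, 59), (0, 1368), (5, 316), (2, 91), (2, 685), (3, 473), (5, 637), (0, 1015), (3, 41), (0, 979),
  (4, 59), (1, 340), (3, 21), (3, 49), (5, 59), (0, 1304), (3, 228), (0, 1643), (4, 21), (3, 453), (1, 503), (3, 443),
  (1, 283), (3, 40), (0, 1460), (3, 206), (3, 48), (5, 112), (0, 1893), (4, 375), (5, 24), (0, 961), (3, 249), (4, 339),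
  (0, 732), (3, 149), (2, 567), (2, 828), (0, 165), (3, 480), (0, 1442), (0, 280), (3, 32), (4, 40), (4, 416), (4, 483),
  (3, 456), (3, 554), (5, 60), (3, 454), (1, 273), (0, 1410), (4, 536), (0, 788), (0, 1632), (0, 1868), (1, 416), (0, 986),
  (0, 2088), (0, 521), (2, 452), (0, 362), (5, 228), (4, 96), (2, 548), (5, 538), (4, 112), (1, 242), (2, 116), (0, 249),
  (0, 533), (0, 258), (5, 32), (3, 24), (3, 464), (0, 1330), (5, 397), (5, 48), (3, 277), (2, 457), (0, 1071), (0, 246),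
  (3, 68), (5, 498), (4, 209), (0, 2133), (3, 472), (2, 506), (0, 1371), (3, 60), (2, 569), (5, 327), (4, 24), (0, 1566),
  (3, 27), (0, 534), (0, 1708), (3, 509), (0, 556), (5, 360), (5, 51), (5, 35), (4, 252), (5, 23), (3, 107), (0, 2134),
  (0, 1593), (2, 427), (3, 489), (0, 515), (3, 557), (1, 1971), (0, 1970), (3, 459), (3, 455), (5, 709), (0, 1481), (4, 168),
  (1, 284), (3, 43), (0, 2106), (3, 23), (3, 51), (4, 123), (0, 1376), (5, 9), (0, 1988), (0, 1321), (1, 237), (0, 1430),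
  (0, 1498), (0, 144), (2, 221), (0, 543), (0, 2100), (4, 439), (3, 497), (0, 852), (5, 27), (3, 99), (2, 562), (2, 538),
  (0, 575), (3, 538), (4, 65), (0, 283), (3, 35), (4, 359), (0, 1809), (4, 43), (3, 81), (3, 562), (5, 352), (2, 89),
  (2, 509), (4, 27), (0, 1504), (0, 1493), (1, 1044), (2, 545), (4, 51), (2, 196), (0, 310), (5, 144), (5, 43), (4, 35),
  (6, 0), (6, 18), (3, 3485), (3, 2783), (2, 2283), (5, 1255), (4, 4965), (6, 71), (6, 59), (7, 0), (4, 4939), (4, 4899),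
  (8, 0), (0, 2713), (8, 4690), (4, 4945), (0, 2688), (3, 7390), (3, 2787), (7, 35), (8, 71), (3, 7382), (6, 35), (8, 5602),
  (7, 71), (8, 5590), (6, 48), (5, 6648), (8, 48), (5, 6054), (5, 1951), (0, 6638), (8, 18), (3, 3465), (4, 4920), (5, 2716),
  (8, 7755), (3, 6758), (3, 3457), (3, 3500), (0, 3457), (3, 3523), (4, 4959), (8, 31), (3, 6707), (7, 48), (6, 42), (5, 7822),
  (3, 6304), (5, 1283), (4, 4912), (0, 3516), (3, 1283), (2, 7211), (0, 6628), (0, 7695), (0, 2707), (6, 31), (7, 18), (8, 35),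
  (8, 59), (2, 6671), (8, 42), (3, 4298), (7, 59), (5, 7830), (3, 6733), (3, 3511), (2, 2254), (4, 4904), (7, 42), (7, 31),
  (3, 7391), (8, 66), (8, 4719), (0, 6689), (7, 36), (3, 2788), (3, 1245), (6, 36), (3, 3464), (8, 5583), (3, 3497), (8, 21),
  (5, 7837), (4, 4923), (3, 6759), (3, 3456), (2, 2244), (3, 3506), (3, 6734), (5, 5390), (7, 60), (4, 4907), (7, 45), (7, 26),
  (4, 4940), (4, 3295), (6, 60), (0, 2712), (8, 5599), (4, 4900), (8, 3), (7, 3), (2, 3057), (7, 21), (6, 26), (8, 45),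
  (3, 3513), (0, 2708), (8, 36), (8, 60), (3, 3486), (6, 66), (6, 3), (5, 5352), (4, 4966), (3, 2778), (2, 7263), (6, 21),
  (3, 6763), (0, 5713), (4, 4915), (5, 7845), (3, 3493), (2, 2274), (0, 4240), (0, 2734), (8, 51), (5, 7789), (6, 7795), (8, 5557),
  (7, 720), (5, 5393), (5, 6097), (0, 4196), (5, 1260), (6, 45), (8, 26), (4, 4954), (7, 51), (3, 1986), (3, 4250), (0, 2675),
  (3, 6729), (4, 4910), (2, 2245), (7, 27), (7, 40), (3, 3507), (7, 61), (5, 6669), (5, 7784), (8, 54), (0, 2686), (7, 67),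
  (8, 5588), (5, 7804), (5, 2688), (6, 54), (8, 40), (3, 3514), (0, 2709), (2, 6303), (7, 16), (6, 27), (8, 2156), (8, 37),
  (5, 6646), (4, 4961), (3, 6739), (3, 3481), (6, 67), (6, 6), (6, 16), (2, 5294), (7, 37), (8, 67), (8, 5600), (0, 2694),
  (3, 6696), (6, 37), (3, 7380), (3, 6749), (5, 7820), (4, 4955), (3, 3525), (6, 40), (7, 54), (3, 6709), (8, 27), (0, 2678),
  (5, 7832), (8, 7757), (3, 3498), (8, 16), (3, 3471), (3, 3463), (3, 2796), (4, 4926), (4, 4918), (2, 2302), (3, 1285), (0, 5835),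
  (0, 5894), (0, 2723), (3, 3488), (5, 7840), (8, 6), (7, 6), (8, 5608), (4, 4901), (6, 61), (0, 6655), (4, 4941), (4, 4951),
  (0, 7652), (3, 6702), (3, 1270), (7, 33), (8, 69), (3, 6714), (6, 33), (8, 5606), (5, 2666), (3, 3487), (3, 1962), (4, 4967),
  (6, 69), (2, 5292), (6, 3497), (6, 4), (8, 57), (8, 33), (8, 46), (6, 29), (0, 2705), (3, 3512), (7, 7124), (2, 5304),
  (8, 7749), (8, 52), (5, 2939), (7, 69), (5, 6084), (5, 2679), (0, 2684), (6, 1492), (4, 4908), (3, 6735), (3, 3509), (7, 46),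
  (7, 29), (2, 3079), (5, 7826), (7, 57), (8, 5767), (3, 3467), (4, 4924), (5, 2712), (8, 5560), (3, 7358), (3, 3459), (3, 3496),
  (4, 4957), (5, 7818), (3, 7360), (7, 52), (6, 1486), (3, 3521), (0, 7673), (8, 3735), (0, 5857), (4, 4937), (4, 4897), (8, 5594),
  (4, 4947), (8, 4), (7, 4), (6, 777), (5, 7846), (3, 6764), (2, 7209), (3, 3494), (0, 5867), (0, 2665), (0, 6687), (4, 4916),
  (3, 3461), (3, 4516), (8, 20), (3, 6752), (4, 6823), (3, 3469), (8, 7759), (5, 6691), (2, 2288), (8, 44), (8, 39), (7, 20),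
  (3, 4300), (0, 6641), (6, 25), (8, 63), (3, 3505), (2, 6265), (7, 25), (7, 63), (5, 7824), (7, 747), (4, 4906), (3, 2771),
  (0, 6694), (7, 39), (3, 1268), (3, 6700), (8, 65), (8, 5604), (6, 39), (3, 6712), (6, 63), (4, 4903), (4, 4943), (7, 2),
  (8, 2), (4, 4949), (8, 5592), (0, 3483), (8, 25), (3, 6711), (5, 7816), (0, 4221), (3, 3527), (6, 44), (7, 50), (4, 4953),
  (7, 65), (5, 7788), (6, 50), (8, 5556), (8, 50), (0, 7685), (5, 7800), (5, 6631), (6, 20), (6, 2), (5, 7798), (2, 1825),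
  (3, 7392), (3, 3483), (6, 5825), (4, 4963), (0, 2721), (3, 7412), (0, 7689), (3, 6306), (5, 7844), (0, 2671), (2, 5256), (4, 4914),
  (3, 2772), (4, 4909), (7, 58), (7, 24), (7, 41), (5, 7827), (2, 7240), (3, 3504), (6, 24), (0, 3522), (3, 3519), (8, 720),
  (8, 34), (8, 41), (2, 3776), (7, 17), (3, 2746), (3, 3522), (4, 1241), (8, 24), (0, 2677), (5, 5335), (6, 41), (7, 2156),
  (8, 17), (5, 6692), (3, 3462), (3, 4479), (8, 5567), (3, 1980), (4, 4925), (3, 3503), (8, 53), (8, 5587), (6, 53), (5, 2911),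
  (7, 64), (0, 4194), (5, 7803), (5, 7811), (0, 7653), (7, 34), (6, 34), (3, 6697), (8, 64), (3, 6715), (3, 6746), (8, 5601),
  (2, 3035), (0, 3504), (5, 6680), (4, 4917), (0, 3489), (3, 2805), (0, 7645), (3, 3489), (4, 4898), (8, 5), (0, 3484), (6, 58),
  (7, 5), (4, 4938), (4, 4950), (8, 5595), (4, 4964), (6, 784), (2, 4490), (5, 6073), (3, 3484), (3, 6736), (6, 5), (6, 17),
  (1, 4965), (4, 4112), (4, 4132), (5, 4551), (8, 3044), (8, 3029), (5, 3766), (8, 3034), (4, 4114), (1, 7800), (8, 3027), (8, 3078),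
  (5, 3793), (4, 5640), (8, 6889), (5, 4600), (4, 4168), (1, 6913), (8, 3035), (8, 3045), (5, 4538), (5, 3761), (8, 3024), (4, 4160),
  (8, 3086), (4, 4156), (4, 4123), (5, 3767), (8, 6872), (1, 7807), (5, 3814), (8, 6880), (8, 3042), (4, 4169), (5, 4589), (5, 3795),
  (1, 6963), (8, 3025), (4, 4161), (8, 6879), (4, 5649), (8, 3075), (8, 6871), (1, 6934), (5, 3790), (4, 5623), (8, 6896), (5, 3769),
  (4, 4175), (8, 6845), (8, 3031), (1, 6933), (5, 3759), (5, 3800), (8, 6870), (4, 4147), (8, 6840), (4, 4172), (4, 5624), (5, 3812),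
  (1, 3531), (8, 3033), (5, 4558), (8, 3028), (4, 5676), (1, 5357), (1, 3600), (1, 3540), (5, 4580), (5, 4582), (1, 6977), (4, 4141),
  (7, 9), (0, 2702), (4, 6799), (3, 6720), (5, 7778), (3, 3476), (6, 7815), (8, 12), (5, 2013), (3, 1975), (4, 4929), (0, 3478),
  (7, 8), (3, 3473), (6, 15), (8, 784), (7, 14), (3, 6725), (6, 11), (0, 2699), (5, 7777), (3, 3479), (4, 4935), (8, 15),
  (7, 11), (0, 2698), (4, 4928), (3, 1238), (5, 6107), (3, 3472), (6, 730), (8, 8), (7, 3172), (3, 6726), (4, 4930), (0, 2700),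
  (5, 7776), (8, 10), (6, 12), (3, 3474), (3, 6722), (5, 2012), (8, 14), (7, 13), (0, 6664), (6, 8), (3, 4533), (4, 4934),
  (3, 3475), (4, 4931), (0, 3474), (6, 13), (8, 11), (7, 12), (3, 6721), (5, 7783), (8, 7735), (8, 4682), (2, 2256), (2, 2262),
  (2, 2257), (8, 4687), (8, 4684), (2, 3064), (7, 10), (3, 6727), (6, 9), (0, 7664), (5, 6662), (3, 3477), (4, 4933), (8, 13),
  (7, 1), (8, 1), (4, 4948), (6, 56), (4, 4896), (4, 4936), (0, 5690), (8, 5615), (2, 2253), (3, 3510), (3, 6730), (5, 1980),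
  (7, 56), (4, 4905), (7, 47), (7, 30), (5, 7805), (5, 5395), (8, 49), (0, 3499), (6, 49), (8, 5589), (7, 70), (5, 2907),
  (3, 3520), (3, 6704), (5, 6676), (0, 7672), (8, 30), (4, 4958), (7, 49), (6, 47), (3, 7389), (8, 70), (8, 7712), (0, 2689),
  (7, 32), (3, 2784), (3, 7381), (6, 32), (4, 4921), (3, 3499), (8, 23), (3, 6757), (3, 3460), (5, 7839), (8, 7752), (3, 3468),
  (2, 1832), (4, 2652), (5, 2882), (0, 5729), (0, 2730), (3, 3495), (0, 7641), (3, 2801), (6, 70), (4, 6829), (3, 7397), (3, 4305),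
  (5, 7795), (2, 2280), (6, 23), (6, 1), (8, 47), (2, 6689), (8, 56), (3, 6266), (7, 23), (6, 30), (0, 6646), (8, 32),
  (0, 3480), (8, 5611), (7, 7), (4, 4942), (4, 4946), (8, 7), (4, 4902), (6, 62), (8, 5565), (3, 3466), (4, 4927), (5, 6056),
  (8, 5760), (3, 3501), (3, 3458), (3, 7355), (7, 38), (8, 68), (3, 6713), (0, 2695), (3, 6699), (3, 6750), (8, 7718), (6, 38),
  (6, 19), (6, 7), (6, 68), (2, 2286), (3, 6740), (4, 4960), (5, 2007), (3, 3480), (5, 6101), (0, 2687), (8, 55), (5, 1243),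
  (6, 55), (5, 7787), (7, 5403), (8, 7775), (7, 43), (7, 28), (2, 3072), (4, 4911), (3, 7403), (3, 6322), (7, 62), (5, 2686),
  (0, 2710), (8, 38), (8, 43), (6, 28), (8, 62), (2, 2235), (7, 19), (3, 3517), (7, 55), (6, 43), (3, 3526), (4, 4956),
  (5, 2916), (3, 6710), (8, 28), (0, 4218), (0, 2724), (3, 6767), (2, 6304), (3, 3491), (5, 7843), (4, 4919), (0, 2728), (0, 2670),
  (7, 361), (8, 656), (6, 361), (0, 2571), (3, 846), (3, 6599), (3, 6973), (8, 5541), (3, 7173), (2, 2698), (3, 4632), (6, 105),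
  (6, 222), (6, 657), (4, 7610), (5, 3039), (3, 3860), (7, 6676), (7, 7421), (2, 2451), (5, 6273), (7, 324), (3, 6864), (4, 5807),
  (5, 3973), (8, 3437), (4, 3886), (8, 7011), (4, 4096), (1, 7190), (5, 4057), (8, 3468), (6, 325), (0, 4066), (8, 454), (8, 635),
  (8, 360), (2, 4908), (7, 218), (3, 2936), (8, 2689), (3, 3076), (3, 3766), (5, 7260), (8, 5091), (4, 4790), (3, 7211), (3, 3665),
  (0, 2208), (5, 2518), (7, 663), (6, 523), (5, 7272), (5, 1005), (8, 1246), (8, 5397), (3, 3534), (4, 4398), (7, 159), (6, 4475),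
  (8, 1785), (3, 6693), (5, 2663), (0, 7800), (4, 6955), (6, 3278), (4, 4626), (8, 4215), (7, 874), (0, 2360), (8, 7696), (4, 4869),
  (3, 1074), (7, 157), (6, 1593), (5, 2661), (0, 2286), (8, 154), (4, 7255), (3, 3530), (8, 450), (3, 3948), (8, 364), (2, 2583),
  (7, 222), (0, 2787), (6, 327), (8, 633), (4, 3953), (8, 3557), (4, 3803), (1, 7186), (5, 4965), (8, 2961), (5, 4276), (8, 7063),
  (7, 661), (8, 5399), (5, 2571), (5, 1007), (8, 6399), (5, 7668), (0, 2212), (6, 4841), (3, 1647), (0, 5998), (3, 6975), (8, 660),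
  (7, 6306), (8, 5543), (6, 5403), (3, 1726), (3, 4873), (3, 2220), (3, 4334), (3, 3186), (4, 4786), (8, 2691), (5, 7256), (8, 7403),
  (4, 4871), (8, 5326), (6, 5679), (4, 2537), (0, 6853), (4, 2298), (8, 111), (7, 4841), (6, 107), (3, 7175), (5, 7849), (6, 218),
  (2, 2702), (3, 3351), (6, 659), (4, 4545), (4, 4513), (3, 2158), (7, 638), (7, 4277), (7, 320), (3, 4401), (2, 2449), (5, 6938),
  (2, 2166), (6, 223), (5, 3034), (3, 7785), (6, 104), (3, 3350), (6, 656), (4, 2156), (8, 455), (3, 2939), (6, 1766), (2, 2582),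
  (7, 221), (8, 636), (8, 363), (0, 2784), (7, 321), (7, 452), (7, 637), (3, 6867), (4, 7553), (3, 3428), (2, 2452), (5, 7747),
  (8, 4753), (3, 1349), (0, 6724), (6, 360), (3, 7518), (3, 6498), (8, 659), (7, 360), (4, 4010), (8, 3193), (4, 5346), (8, 6917),
  (5, 4434), (1, 7191), (5, 3609), (8, 3336), (7, 110), (8, 874), (4, 4629), (6, 3279), (4, 4719), (0, 4464), (8, 7699), (4, 7916),
  (5, 1722), (3, 1849), (8, 159), (0, 2285), (7, 154), (4, 6025), (3, 3535), (6, 1596), (3, 3073), (8, 7400), (3, 3278), (8, 220),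
  (5, 7257), (3, 4910), (4, 4791), (3, 6823), (5, 7394), (7, 3159), (5, 7667), (8, 524), (8, 5398), (0, 2211), (6, 524), (5, 6566),
  (4, 4788), (3, 6820), (5, 7258), (3, 3188), (3, 3273), (8, 3600), (3, 4003), (8, 4450), (3, 1850), (5, 7599), (6, 157), (7, 155),
  (0, 5388), (3, 4560), (4, 4396), (8, 156), (2, 2453), (5, 6940), (4, 4517), (3, 3429), (7, 6071), (3, 2238), (7, 322), (7, 453),
  (4, 4716), (8, 105), (4, 6909), (6, 633), (7, 105), (4, 2344), (8, 4990), (0, 3796), (8, 5671), (7, 659), (5, 2156), (8, 2193),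
  (5, 2787), (5, 5557), (6, 6285), (0, 2214), (6, 6081), (8, 637), (8, 452), (0, 2791), (8, 366), (3, 2942), (7, 1602), (2, 6726),
  (7, 7523), (0, 2573), (6, 1087), (8, 662), (3, 7660), (8, 7250), (3, 1344), (3, 2809), (8, 6782), (5, 4533), (1, 7188), (4, 5437),
  (8, 7057), (4, 5691), (8, 6648), (5, 3845), (4, 3456), (5, 3035), (3, 7786), (6, 663), (3, 5206), (2, 2161), (6, 220), (6, 111),
  (3, 7126), (3, 3109), (7, 7133), (8, 322), (0, 7531), (4, 2727), (5, 7511), (6, 453), (3, 4691), (0, 2514), (6, 454), (3, 7127),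
  (8, 6420), (7, 2603), (4, 4378), (5, 7506), (8, 7609), (8, 4353), (2, 2844), (2, 2841), (2, 2845), (2, 2846), (8, 5755), (8, 5759),
  (4, 769), (7, 527), (3, 3106), (5, 7510), (6, 450), (3, 7125), (8, 327), (0, 6300), (4, 4381), (7, 4539), (8, 326), (5, 7509),
  (6, 455), (0, 6792), (3, 6043), (3, 7122), (6, 449), (7, 3973), (3, 5527), (5, 7507), (4, 4379), (0, 2515), (8, 2592), (3, 7879),
  (0, 3909), (3, 5525), (5, 7505), (8, 1172), (3, 7120), (4, 7097), (7, 2602), (6, 451), (5, 7504), (6, 452), (0, 5521), (4, 2069),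
  (7, 7132), (8, 4020), (3, 2068), (3, 3108), (6, 7751), (7, 4538), (8, 323), (5, 7508), (4, 5902), (3, 2064), (3, 4695), (0, 4737),
  (6, 660), (3, 4085), (2, 5428), (4, 7615), (5, 1936), (3, 2466), (6, 6588), (6, 221), (8, 7251), (3, 1351), (0, 7243), (6, 364),
  (3, 6598), (3, 6502), (8, 657), (7, 7526), (5, 2157), (5, 2572), (8, 4623), (0, 2209), (6, 7000), (7, 662), (5, 7398), (8, 2036),
  (4, 6952), (6, 4234), (8, 5327), (8, 106), (7, 7857), (4, 1435), (4, 1561), (0, 7581), (7, 158), (0, 3529), (3, 3533), (3, 1077),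
  (5, 7596), (6, 152), (8, 157), (4, 4397), (3, 3075), (8, 4572), (3, 4872), (8, 216), (5, 1646), (3, 4906), (4, 6140), (3, 1007),
  (7, 4980), (5, 7745), (4, 841), (3, 3424), (2, 2309), (7, 7418), (7, 323), (3, 6865), (7, 223), (2, 6117), (8, 361), (3, 2937),
  (8, 453), (0, 2788), (6, 1762), (8, 632), (4, 5234), (8, 3125), (4, 3885), (8, 3434), (5, 4273), (1, 6815), (5, 3611), (8, 6655),
  (4, 3055), (0, 7576), (7, 107), (4, 4867), (8, 4986), (8, 107), (4, 4712), (6, 635), (3, 3669), (3, 5633), (3, 3078), (3, 6816),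
  (4, 4784), (8, 4573), (5, 7262), (8, 223), (7, 2772), (3, 2156), (2, 2455), (7, 455), (4, 7558), (3, 3862), (7, 4981), (5, 7746),
  (7, 824), (5, 1003), (5, 5850), (8, 7487), (8, 527), (6, 527), (0, 2210), (5, 7666), (3, 3528), (6, 159), (7, 3915), (4, 4392),
  (8, 1789), (0, 3657), (5, 1721), (3, 7282), (8, 7015), (4, 5235), (8, 3553), (5, 4274), (8, 6778), (5, 4061), (1, 7184), (4, 3959),
  (6, 6696), (2, 2163), (4, 4551), (6, 5869), (3, 923), (6, 7141), (3, 5202), (5, 7855), (3, 2811), (3, 6971), (0, 4151), (6, 365),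
  (8, 5539), (7, 365), (8, 658), (3, 6497), (8, 639), (8, 1602), (3, 2938), (6, 323), (0, 2789), (7, 5215), (2, 2772), (8, 3745),
  (0, 2570), (3, 6496), (3, 1721), (7, 7031), (8, 661), (6, 366), (8, 4900), (3, 6972), (1, 5947), (5, 4062), (8, 3436), (4, 5344),
  (8, 6517), (4, 5236), (8, 3199), (5, 3972), (6, 636), (4, 4715), (4, 7914), (7, 108), (8, 872), (8, 5321), (0, 6443), (4, 4625),
  (3, 4874), (3, 3187), (5, 7263), (3, 6819), (4, 4787), (8, 218), (3, 3079), (8, 4574), (8, 5396), (7, 656), (6, 6282), (8, 522),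
  (5, 7392), (0, 2213), (5, 1346), (5, 7277), (3, 2625), (5, 6463), (4, 4395), (7, 152), (0, 2281), (8, 155), (6, 7279), (3, 3531),
  (7, 633), (3, 5443), (4, 6574), (5, 3536), (2, 2450), (3, 2153), (7, 327), (7, 5621), (5, 1938), (3, 4637), (6, 110), (4, 4546),
  (6, 662), (3, 7172), (2, 2164), (6, 5979), (2, 4911), (7, 5210), (0, 3107), (8, 451), (3, 2941), (8, 3892), (8, 828), (6, 4644),
  (0, 2443), (4, 4971), (3, 2954), (0, 3826), (2, 6565), (5, 7424), (3, 7054), (0, 2936), (3, 2958), (0, 5760), (2, 7356), (5, 7428),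
  (3, 7050), (4, 6997), (0, 2441), (0, 5299), (4, 4973), (0, 2445), (5, 7430), (2, 2603), (0, 2873), (3, 2952), (0, 2659), (3, 1795),
  (3, 7049), (0, 2943), (2, 2396), (5, 7431), (3, 2955), (0, 3425), (0, 2446), (4, 4974), (0, 4612), (0, 2440), (5, 7425), (2, 2398),
  (4, 6360), (3, 7053), (0, 5201), (3, 5111), (1, 3816), (5, 3680), (1, 7082), (4, 3724), (1, 7395), (5, 3687), (1, 7045), (4, 3727),
  (4, 4975), (0, 2447), (5, 7426), (2, 3841), (0, 2875), (3, 2956), (0, 7340), (3, 7048), (3, 2957), (0, 2939), (0, 2444), (5, 7427),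
  (3, 1217), (0, 2878), (2, 4877), (4, 1793), (0, 4863), (3, 2953), (0, 2876), (3, 1223), (5, 1795), (0, 2442), (4, 2428), (2, 2392),
  (5, 7594), (0, 2283), (8, 153), (3, 6688), (7, 156), (6, 1598), (3, 3529), (4, 7248), (5, 1350), (0, 2215), (8, 5666), (5, 2570),
  (6, 6286), (8, 2192), (5, 7396), (7, 660), (3, 2155), (4, 1855), (5, 3540), (7, 325), (7, 454), (2, 2454), (3, 5441), (7, 635),
  (8, 5094), (3, 3077), (3, 3761), (5, 7261), (8, 222), (3, 3666), (3, 6817), (4, 7323), (7, 104), (6, 5672), (4, 4627), (8, 104),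
  (4, 4713), (4, 3410), (8, 7912), (0, 3350), (3, 4639), (6, 3075), (3, 2464), (5, 7854), (4, 3459), (2, 2699), (6, 1657), (6, 106),
  (8, 3338), (4, 5270), (8, 3197), (5, 3613), (1, 3920), (5, 4534), (8, 3432), (4, 5506), (8, 638), (8, 5980), (2, 2576), (6, 4640),
  (0, 3105), (8, 3748), (3, 2943), (7, 219), (8, 7253), (6, 362), (0, 2574), (3, 1347), (3, 6596), (7, 362), (8, 663), (3, 6500),
  (7, 304), (8, 6483), (4, 4595), (5, 2330), (7, 175), (8, 690), (2, 5871), (5, 748), (3, 6825), (8, 2939), (4, 4885), (6, 2136),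
  (5, 3162), (8, 418), (5, 7609), (3, 6588), (3, 3094), (8, 7781), (3, 6248), (8, 617), (4, 4642), (3, 7683), (5, 5187), (3, 4150),
  (8, 5080), (0, 4904), (3, 6458), (7, 2533), (6, 426), (8, 3423), (6, 1348), (5, 7708), (7, 226), (6, 559), (1, 4061), (7, 3285),
  (6, 203), (3, 916), (8, 7904), (3, 1311), (7, 7496), (8, 6097), (4, 797), (4, 4795), (4, 3776), (8, 559), (0, 3336), (6, 6601),
  (3, 1401), (8, 5848), (0, 2165), (6, 262), (6, 357), (8, 215), (7, 141), (5, 4250), (5, 7372), (8, 5415), (8, 1825), (7, 4312),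
  (4, 4298), (4, 4438), (3, 3381), (3, 5788), (2, 6480), (0, 5159), (4, 7688), (5, 3600), (3, 1870), (3, 3745), (0, 3081), (2, 3600),
  (6, 4602), (5, 7252), (3, 1610), (8, 4103), (4, 3933), (4, 4729), (3, 2893), (6, 935), (5, 6480), (3, 3243), (4, 4521), (8, 679),
  (3, 3594), (6, 6051), (5, 4235), (8, 5225), (7, 6035), (7, 144), (6, 2123), (8, 595), (3, 7725), (8, 75), (0, 2577), (4, 4049),
  (5, 2806), (1, 6874), (2, 2546), (0, 2272), (4, 5957), (4, 6154), (2, 2494), (5, 7192), (7, 6696), (8, 2837), (3, 4379), (4, 4607),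
  (8, 2951), (6, 370), (7, 4310), (0, 2317), (6, 602), (8, 2490), (3, 1497), (0, 7900), (3, 1517), (3, 6674), (7, 357), (8, 4954),
  (6, 7695), (8, 4875), (4, 4458), (3, 6938), (8, 398), (5, 4312), (5, 1551), (3, 4938), (5, 2599), (4, 4663), (7, 4247), (2, 4270),
  (8, 2701), (8, 6966), (7, 370), (5, 3482), (3, 2866), (0, 7150), (3, 3407), (8, 5097), (8, 3349), (6, 2665), (7, 75), (3, 4053),
  (3, 4362), (6, 966), (8, 719), (4, 4849), (3, 1815), (6, 7051), (5, 6974), (4, 5469), (4, 4696), (3, 4102), (6, 6097), (7, 398),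
  (8, 3205), (7, 351), (0, 7827), (8, 4871), (0, 2323), (1, 7134), (3, 6838), (3, 2278), (0, 5123), (5, 1468), (3, 6535), (4, 4422),
  (8, 5210), (5, 6779), (3, 6204), (4, 3823), (7, 707), (4, 4554), (8, 2496), (3, 6081), (2, 2468), (8, 6839), (3, 896), (3, 3289),
  (8, 144), (3, 777), (8, 628), (8, 571), (0, 3223), (7, 602), (5, 7265), (8, 121), (5, 7868), (5, 4096), (8, 3954), (6, 398),
  (8, 4544), (4, 7376), (5, 4299), (8, 7215), (4, 5828), (6, 1602), (2, 2552), (6, 4279), (8, 3491), (5, 1840), (7, 3556), (8, 236),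
  (6, 800), (3, 4538), (0, 2559), (6, 1328), (3, 6944), (7, 499), (3, 2899), (2, 2226), (7, 203), (7, 4891), (5, 6539), (4, 7277),
  (6, 4753), (6, 441), (4, 2031), (3, 7063), (5, 7497), (2, 4547), (3, 5983), (6, 499), (4, 4361), (3, 4698), (3, 2044), (5, 5113),
  (7, 538), (7, 5925), (7, 5932), (2, 7504), (0, 7549), (3, 7101), (3, 1095), (6, 466), (8, 3973), (8, 5744), (7, 5919), (3, 2344),
  (3, 3144), (6, 2621), (8, 296), (8, 351), (2, 4224), (8, 6443), (7, 505), (0, 2475), (3, 2031), (5, 7548), (4, 4346), (3, 5477),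
  (3, 5487), (8, 304), (3, 4177), (8, 7599), (2, 5367), (0, 3897), (4, 4385), (5, 7543), (0, 5493), (3, 3114), (0, 3943), (3, 7106),
  (7, 4594), (8, 291), (4, 5865), (3, 6032), (5, 6206), (0, 2455), (6, 7718), (3, 7089), (0, 7556), (8, 4389), (5, 7555), (5, 2031),
  (5, 7517), (8, 312), (6, 487), (7, 533), (0, 7524), (4, 2037), (4, 4372), (7, 5387), (4, 5877), (6, 3407), (8, 7617), (8, 357),
  (8, 5312), (6, 418), (5, 7326), (8, 1998), (3, 1821), (5, 4445), (4, 1336), (3, 5239), (8, 3754), (3, 6514), (7, 441), (6, 6993),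
  (6, 690), (8, 2666), (0, 3582), (5, 4923), (0, 2741), (6, 75), (8, 115), (3, 4013), (7, 337), (8, 6565), (5, 7656), (6, 144),
  (8, 3934), (7, 179), (3, 5582), (6, 254), (1, 2334), (7, 418), (3, 5436), (6, 7568), (3, 7200), (5, 7878), (3, 7578), (4, 4688),
  (8, 175), (7, 683), (4, 5813), (8, 3565), (8, 3160), (3, 3228), (4, 4675), (3, 2921), (8, 707), (3, 1510), (3, 7732), (5, 2751),
  (4, 5908), (6, 1771), (4, 4536), (8, 513), (8, 4424), (4, 4430), (7, 7403), (0, 4570), (2, 2206), (4, 5256), (5, 6306), (0, 3328),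
  (3, 7539), (3, 3566), (0, 6086), (2, 2539), (8, 5621), (5, 7232), (2, 2478), (8, 5439), (5, 7563), (7, 3600), (4, 3770), (7, 3707),
  (8, 683), (8, 186), (1, 7154), (8, 912), (8, 461), (8, 4411), (2, 2214), (8, 4608), (4, 4617), (7, 5299), (5, 7757), (5, 3880),
  (8, 564), (3, 5889), (7, 246), (3, 6773), (6, 5657), (5, 7282), (3, 1366), (6, 666), (2, 2486), (3, 5341), (4, 4275), (6, 2886),
  (4, 4683), (2, 2752), (6, 4461), (6, 564), (3, 3264), (5, 1015), (3, 6877), (6, 380), (6, 274), (7, 3122), (3, 3586), (8, 4950),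
  (0, 2775), (8, 3098), (7, 6115), (4, 7342), (5, 7219), (3, 7196), (0, 6760), (0, 3749), (0, 4945), (5, 7695), (3, 3420), (5, 4285),
  (3, 6524), (7, 96), (5, 6882), (8, 3424), (4, 4567), (8, 370), (4, 4492), (3, 7307), (0, 2175), (3, 3773), (7, 5626), (7, 380),
  (6, 175), (8, 589), (8, 3359), (4, 4892), (4, 5408), (5, 3072), (7, 5825), (4, 2840), (3, 6435), (8, 5190), (8, 254), (3, 7510),
  (4, 7043), (3, 2972), (0, 2815), (2, 6160), (0, 2825), (3, 7034), (5, 3707), (2, 5030), (5, 6350), (2, 2410), (5, 1208), (2, 2634),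
  (4, 5026), (1, 6597), (4, 7002), (0, 2393), (0, 2409), (5, 7464), (3, 2435), (5, 5004), (3, 3006), (0, 5806), (0, 2403), (5, 7054),
  (4, 6358), (0, 2388), (4, 3729), (3, 7453), (0, 7397), (0, 2383), (4, 2381), (3, 3010), (1, 7383), (0, 2835), (3, 7001), (0, 2899),
  (3, 2394), (5, 2409), (3, 7418), (4, 6400), (5, 7451), (1, 7292), (0, 2820), (3, 2962), (4, 7472), (3, 2990), (0, 5244), (3, 3018),
  (2, 1746), (0, 2864), (0, 3730), (0, 4832), (1, 7093), (0, 2886), (0, 2421), (0, 2853), (0, 2637), (2, 2420), (0, 2858), (0, 2432),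
  (5, 2393), (3, 2998), (4, 6373), (3, 7029), (3, 7017), (4, 3711), (2, 5005), (0, 2619), (2, 2610), (0, 4840), (3, 2982), (5, 7487),
  (3, 2886), (0, 2541), (4, 1870), (0, 6480), (3, 4047), (3, 3029), (5, 6832), (1, 7193), (8, 7846), (3, 2846), (6, 4189), (3, 6902),
  (5, 4247), (6, 5952), (4, 4584), (4, 4815), (5, 7302), (4, 3785), (8, 390), (3, 4587), (4, 6101), (8, 4418), (7, 2811), (3, 2508),
  (6, 7028), (5, 7914), (7, 162), (8, 3412), (3, 5683), (8, 5457), (0, 3361), (6, 7219), (0, 7838), (4, 5304), (8, 648), (8, 608),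
  (6, 96), (7, 595), (7, 80), (3, 7248), (8, 2686), (3, 6641), (2, 2779), (8, 548), (3, 6925), (8, 3133), (8, 80), (3, 6209),
  (8, 2479), (5, 2475), (8, 3575), (2, 6464), (4, 4402), (6, 4546), (4, 3035), (6, 5454), (5, 4310), (3, 5799), (4, 4860), (7, 262),
  (3, 1597), (2, 4034), (7, 291), (7, 4753), (5, 7718), (8, 1769), (8, 7639), (7, 1100), (6, 3081), (5, 7383), (5, 6707), (0, 2776),
  (8, 135), (5, 7729), (5, 3451), (4, 4821), (3, 1649), (6, 6111), (3, 929), (8, 7129), (8, 5045), (3, 6851), (5, 2144), (3, 2600),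
  (4, 5132), (5, 7139), (7, 4054), (7, 254), (3, 4829), (4, 5567), (4, 4668), (4, 4578), (0, 6528), (0, 2806), (0, 3594), (3, 1324),
  (3, 6807), (0, 2525), (6, 236), (8, 3399), (2, 3230), (7, 461), (8, 5686), (8, 4466), (6, 808), (5, 3659), (3, 3388), (4, 2340),
  (8, 5499), (8, 162), (5, 2590), (3, 2912), (8, 602), (2, 2170), (6, 2801), (5, 7241), (4, 4469), (8, 7066), (6, 7013), (4, 1884),
  (7, 6889), (3, 4931), (1, 7232), (3, 3548), (6, 6408), (6, 390), (8, 533), (7, 1734), (5, 4841), (8, 2483), (5, 7401), (4, 4749),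
  (7, 589), (3, 2818), (7, 4937), (3, 3064), (6, 186), (3, 3375), (7, 719), (2, 2506), (8, 696), (8, 274), (8, 426), (0, 4494),
  (6, 4182), (5, 5928), (0, 2793), (8, 666), (5, 4771), (7, 4482), (5, 1706), (8, 538), (6, 4006), (2, 7130), (3, 6808), (6, 1744),
  (5, 5762), (6, 5219), (4, 5548), (3, 3852), (0, 3064), (6, 538), (4, 4652), (8, 203), (4, 4776), (7, 296), (8, 1651), (4, 3657),
  (3, 6509), (8, 3232), (7, 186), (0, 2199), (2, 6458), (6, 115), (8, 5055), (8, 5268), (3, 7290), (8, 7815), (6, 2879), (0, 2356),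
  (8, 6635), (3, 2932), (3, 3256), (7, 608), (4, 1839), (0, 7823), (8, 6166), (3, 1668), (6, 6030), (5, 6552), (3, 5645), (7, 282),
  (7, 88), (7, 4096), (7, 4796), (2, 3412), (4, 4446), (5, 3631), (3, 3964), (3, 7807), (5, 5639), (5, 7765), (8, 1011), (4, 4704),
  (4, 7185), (1, 7169), (8, 4256), (8, 4790), (8, 487), (3, 3582), (5, 7213), (3, 3328), (8, 3454), (3, 7608), (3, 6887), (4, 4838),
  (3, 7030), (4, 6374), (0, 5086), (0, 2861), (3, 2999), (5, 7476), (2, 5216), (0, 2638), (2, 5040), (4, 2398), (3, 7037), (0, 2824),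
  (3, 2969), (5, 3717), (2, 3012), (0, 2810), (0, 5184), (1, 7068), (5, 7437), (3, 7012), (0, 6612), (3, 2379), (4, 7418), (3, 7468),
  (0, 2404), (0, 4868), (3, 5072), (5, 7419), (3, 6986), (5, 7467), (0, 5093), (5, 3732), (0, 2817), (3, 3021), (5, 7452), (3, 5031),
  (0, 5777), (3, 4980), (4, 4999), (1, 7123), (3, 7043), (4, 2410), (0, 3703), (0, 2840), (0, 2385), (4, 5015), (3, 5035), (4, 3743),
  (0, 2651), (0, 2429), (0, 2867), (0, 3719), (0, 3837), (2, 2426), (0, 2645), (1, 6605), (3, 2983), (0, 5214), (2, 4880), (5, 1730),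
  (2, 2595), (4, 3706), (3, 7016), (0, 5234), (4, 5029), (2, 2406), (5, 2385), (2, 5097), (5, 7461), (1, 6388), (4, 1781), (0, 2392),
  (4, 7118), (8, 1906), (0, 2457), (6, 473), (8, 4339), (7, 5388), (4, 4327), (4, 4340), (3, 3122), (8, 6434), (3, 4706), (8, 7585),
  (4, 2050), (5, 7545), (3, 7115), (3, 3162), (4, 7080), (6, 500), (6, 432), (2, 4559), (3, 3132), (3, 7058), (5, 3295), (6, 440),
  (3, 1090), (3, 2022), (0, 6806), (8, 7631), (7, 512), (6, 4789), (8, 332), (3, 7102), (3, 6035), (7, 572), (0, 3925), (5, 7488),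
  (8, 292), (6, 489), (3, 7088), (4, 726), (7, 2013), (3, 1114), (3, 5528), (7, 554), (2, 2878), (4, 4360), (5, 2254), (7, 541),
  (2, 4212), (0, 6283), (0, 3288), (5, 863), (0, 5494), (3, 7109), (4, 4384), (3, 3117), (8, 315), (5, 7556), (8, 7603), (6, 1922),
  (7, 534), (0, 3929), (5, 817), (5, 7518), (8, 6453), (0, 3918), (3, 5992), (8, 6444), (7, 504), (8, 346), (2, 6022), (6, 7737),
  (6, 142), (6, 377), (4, 4684), (5, 5487), (3, 7710), (6, 7917), (3, 3267), (2, 2560), (6, 669), (6, 5656), (3, 3080), (2, 2487),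
  (5, 2554), (4, 3904), (6, 2887), (3, 6952), (4, 4889), (8, 7169), (7, 7536), (7, 489), (8, 590), (6, 5210), (3, 3198), (0, 2170),
  (3, 730), (8, 255), (4, 7243), (7, 3035), (8, 5191), (3, 4815), (5, 3075), (4, 3793), (8, 99), (8, 684), (8, 7315), (8, 2508),
  (8, 189), (2, 2215), (8, 5360), (1, 7157), (7, 247), (3, 3339), (8, 561), (3, 2224), (5, 7758), (7, 2317), (4, 4616), (5, 4179),
  (4, 3373), (8, 3943), (4, 4562), (3, 6656), (5, 7366), (7, 99), (3, 6521), (8, 3427), (5, 7220), (3, 7842), (3, 3417), (0, 5673),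
  (0, 2303), (5, 4138), (0, 2545), (5, 2501), (0, 2770), (8, 7541), (3, 3589), (7, 4175), (6, 277), (8, 3220), (7, 583), (4, 4756),
  (8, 3394), (3, 6802), (7, 4300), (2, 1541), (0, 2526), (8, 5687), (8, 5198), (6, 233), (1, 5589), (7, 315), (7, 7899), (6, 391),
  (8, 534), (3, 3545), (6, 2811), (3, 3236), (2, 3591), (6, 189), (8, 1486), (8, 699), (3, 4620), (8, 429), (0, 2339), (7, 714),
  (4, 3234), (8, 4220), (6, 3946), (3, 6480), (5, 1555), (3, 7182), (8, 3375), (5, 7579), (4, 4470), (5, 7240), (6, 4240), (2, 2173),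
  (8, 605), (8, 3191), (6, 3575), (4, 7210), (6, 91), (5, 4202), (5, 2591), (4, 1688), (8, 4909), (3, 2915), (3, 3881), (8, 165),
  (7, 391), (5, 7909), (4, 4257), (7, 255), (5, 6546), (3, 6852), (8, 5146), (3, 1843), (4, 4750), (5, 4260), (3, 7526), (7, 1292),
  (8, 2484), (7, 6139), (3, 3067), (5, 5446), (4, 7199), (3, 3298), (0, 2807), (0, 2182), (4, 3751), (0, 5377), (3, 2729), (4, 4665),
  (3, 6537), (3, 3449), (8, 5638), (5, 5188), (3, 3575), (3, 3095), (8, 616), (4, 4645), (6, 429), (7, 4789), (3, 4790), (0, 5348),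
  (8, 5168), (8, 6925), (6, 4225), (5, 2231), (0, 6525), (5, 4787), (3, 6845), (8, 210), (7, 142), (6, 263), (6, 358), (8, 3613),
  (7, 640), (7, 229), (3, 913), (6, 204), (6, 554), (8, 5248), (3, 6961), (1, 2747), (8, 554), (4, 7490), (8, 432), (0, 4533),
  (6, 3720), (7, 5176), (4, 4796), (4, 3779), (4, 4886), (3, 1684), (3, 1546), (8, 421), (5, 7608), (6, 699), (5, 7636), (8, 7007),
  (4, 6643), (8, 6189), (8, 5531), (3, 3382), (3, 3609), (5, 995), (7, 5677), (4, 5385), (2, 2569), (8, 693), (7, 170), (5, 2542),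
  (4, 2120), (8, 3459), (7, 7573), (5, 2333), (4, 6066), (2, 2503), (2, 2177), (3, 3168), (0, 2563), (5, 4212), (3, 1054), (0, 2758),
  (5, 1810), (3, 6863), (3, 2920), (4, 4676), (3, 884), (8, 708), (3, 4962), (8, 2883), (6, 512), (8, 489), (8, 1066), (6, 5013),
  (3, 817), (0, 7799), (5, 4924), (7, 1035), (8, 415), (7, 5304), (3, 3399), (6, 255), (1, 5937), (6, 7571), (3, 5770), (7, 421),
  (7, 336), (3, 4341), (8, 116), (6, 7636), (0, 2742), (8, 3285), (5, 2104), (6, 4467), (7, 233), (2, 2479), (5, 7235), (4, 5240),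
  (7, 116), (8, 7418), (8, 5518), (5, 5534), (5, 4271), (5, 730), (6, 3147), (4, 7306), (3, 3356), (8, 5018), (8, 583), (3, 1024),
  (2, 6531), (4, 5151), (0, 2203), (0, 3331), (3, 1715), (2, 3940), (5, 2182), (3, 4578), (8, 5111), (8, 512), (4, 4539), (6, 6812),
  (4, 4842), (4, 4431), (7, 5013), (0, 2591), (8, 7165), (4, 4535), (4, 4691), (3, 6932), (7, 684), (8, 170), (5, 5211), (3, 6793),
  (8, 1742), (3, 5575), (3, 2489), (8, 3406), (2, 2156), (3, 6617), (8, 625), (8, 572), (7, 6131), (2, 2229), (3, 2900), (7, 500),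
  (3, 1302), (7, 3480), (5, 7676), (4, 4771), (5, 7180), (8, 120), (5, 7264), (7, 605), (0, 6546), (5, 4692), (8, 407), (6, 399),
  (3, 5666), (8, 440), (4, 4294), (3, 3446), (4, 4557), (7, 708), (5, 2624), (8, 5309), (6, 6563), (8, 1035), (7, 277), (5, 7387),
  (8, 3492), (3, 5933), (0, 4586), (6, 3259), (8, 5337), (0, 5335), (7, 399), (6, 336), (7, 3094), (8, 3159), (3, 5184), (4, 1598),
  (5, 7722), (6, 4172), (3, 1810), (4, 4003), (8, 714), (6, 247), (3, 3034), (4, 4848), (2, 2555), (6, 3765), (4, 1856), (6, 5714),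
  (5, 4129), (4, 4638), (8, 5074), (8, 7210), (5, 3491), (3, 989), (1, 6769), (3, 7695), (4, 2848), (0, 4503), (3, 6892), (0, 5917),
  (3, 1040), (8, 5672), (3, 3646), (0, 2353), (8, 3533), (7, 1486), (6, 714), (3, 3937), (6, 180), (3, 6811), (2, 3276), (4, 5255),
  (3, 3438), (6, 407), (6, 3907), (5, 7350), (8, 229), (8, 7520), (5, 6040), (1, 5744), (8, 2367), (4, 4707), (4, 2116), (5, 7766),
  (7, 693), (3, 7802), (7, 91), (5, 4743), (3, 5392), (2, 3981), (4, 4447), (7, 407), (3, 3794), (5, 726), (6, 271), (7, 285),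
  (8, 91), (0, 3545), (4, 4474), (3, 6553), (8, 1119), (3, 3583), (3, 1396), (3, 3331), (8, 3306), (4, 2328), (5, 7214), (3, 1318),
  (4, 5167), (8, 3919), (8, 204), (4, 4649), (7, 299), (4, 4779), (6, 3589), (0, 2530), (6, 116), (7, 189), (8, 3235), (8, 5050),
  (8, 5265), (3, 2524), (0, 2194), (2, 2461), (0, 2792), (8, 541), (6, 2743), (7, 1657), (5, 7604), (8, 669), (5, 4772), (5, 1900),
  (8, 5344), (3, 791), (4, 7616), (3, 1377), (5, 4242), (4, 4810), (6, 7070), (6, 195), (6, 545), (5, 7917), (0, 2311), (8, 3409),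
  (3, 5684), (6, 6059), (7, 165), (8, 7516), (6, 99), (8, 611), (8, 651), (4, 3844), (0, 7839), (7, 596), (7, 83), (3, 6778),
  (6, 415), (4, 4608), (2, 2517), (8, 6676), (6, 229), (4, 4405), (5, 6011), (8, 469), (6, 5748), (7, 415), (8, 5302), (8, 180),
  (5, 871), (5, 7378), (5, 7229), (0, 2779), (3, 3541), (5, 7303), (8, 7297), (4, 4738), (4, 5499), (7, 473), (3, 2505), (8, 391),
  (1, 7192), (5, 5490), (0, 3236), (4, 2502), (3, 3030), (3, 3323), (0, 6708), (3, 2887), (4, 1709), (7, 5044), (5, 4311), (2, 2199),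
  (7, 292), (7, 263), (3, 1598), (3, 3251), (3, 7275), (3, 1931), (3, 6208), (8, 1078), (8, 2171), (2, 2534), (8, 6744), (8, 83),
  (3, 4941), (5, 2194), (3, 6941), (4, 2815), (5, 4315), (8, 399), (8, 5381), (6, 130), (8, 5134), (3, 7493), (6, 504), (8, 6647),
  (0, 7151), (7, 76), (3, 5866), (3, 6245), (0, 7262), (8, 76), (3, 6907), (4, 5444), (6, 2844), (7, 147), (7, 651), (8, 596),
  (7, 616), (5, 7311), (5, 1040), (8, 3390), (7, 373), (2, 5766), (8, 3655), (4, 1537), (8, 4957), (7, 358), (0, 2185), (3, 1496),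
  (3, 6677), (3, 968), (8, 473), (6, 2765), (6, 6765), (5, 7249), (3, 2894), (8, 2053), (4, 3934), (6, 5250), (3, 6488), (4, 4728),
  (8, 3210), (4, 4602), (3, 5348), (8, 195), (7, 7689), (6, 3973), (7, 4311), (0, 3356), (5, 7643), (3, 4880), (5, 4236), (8, 674),
  (3, 4173), (8, 5025), (4, 4520), (6, 292), (5, 1102), (2, 2495), (0, 6228), (2, 2549), (4, 4800), (4, 4825), (1, 4172), (5, 3172),
  (6, 2040), (0, 2186), (3, 888), (8, 474), (3, 6785), (8, 4952), (7, 353), (3, 1018), (4, 4271), (5, 7250), (3, 2889), (8, 2048),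
  (6, 4600), (4, 4735), (3, 809), (6, 5971), (3, 4459), (6, 511), (8, 7143), (3, 5242), (7, 3458), (8, 5103), (3, 6564), (0, 7148),
  (3, 3786), (4, 4456), (8, 4877), (5, 6925), (5, 4863), (8, 396), (3, 6936), (6, 131), (0, 2278), (4, 5953), (5, 2849), (5, 5403),
  (1, 6713), (2, 2492), (4, 4807), (2, 3888), (4, 4527), (6, 6053), (3, 4168), (8, 7896), (5, 3869), (8, 675), (5, 3104), (3, 3629),
  (7, 268), (4, 977), (3, 6188), (8, 198), (8, 3211), (0, 3761), (7, 439), (6, 368), (4, 5531), (6, 7390), (7, 6917), (0, 4551),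
  (8, 4198), (3, 6910), (8, 597), (7, 3134), (8, 3385), (7, 368), (2, 4075), (7, 623), (5, 3480), (5, 7619), (4, 3077), (8, 260),
  (7, 1159), (5, 7557), (8, 4334), (6, 483), (8, 318), (5, 7513), (5, 7520), (0, 3270), (7, 562), (7, 555), (5, 7530), (3, 7868),
  (2, 5391), (4, 4367), (3, 4218), (7, 7146), (8, 353), (4, 7793), (4, 7777), (8, 4325), (6, 2634), (4, 7068), (7, 7755), (0, 2458),
  (3, 3136), (5, 7546), (3, 3123), (3, 3163), (3, 1143), (8, 4007), (4, 4344), (8, 5691), (3, 2315), (0, 2487), (8, 7628), (8, 6462),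
  (6, 464), (3, 1091), (3, 7066), (7, 7180), (7, 3361), (3, 6038), (4, 4329), (8, 2648), (5, 7495), (3, 2321), (6, 1930), (0, 6811),
  (4, 5855), (2, 7502), (5, 7503), (6, 501), (3, 3133), (3, 2305), (6, 439), (6, 5487), (0, 2489), (2, 2853), (3, 3112), (0, 5489),
  (5, 7539), (4, 4391), (3, 2372), (0, 3295), (8, 302), (8, 2656), (2, 2863), (0, 2477), (7, 5972), (8, 347), (3, 3150), (6, 6217),
  (2, 5131), (8, 702), (0, 6473), (6, 4504), (3, 3371), (8, 424), (8, 272), (7, 7327), (5, 4352), (6, 2254), (8, 160), (8, 5501),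
  (4, 6480), (3, 3386), (3, 6418), (5, 2588), (4, 4817), (3, 7675), (8, 6694), (8, 131), (5, 7735), (3, 7177), (6, 3947), (5, 6801),
  (4, 984), (0, 2177), (3, 6983), (3, 3603), (4, 4042), (0, 6925), (0, 5145), (4, 4666), (8, 2031), (7, 318), (7, 131), (6, 388),
  (1, 3798), (3, 6089), (6, 654), (3, 3546), (8, 5041), (3, 7326), (5, 7687), (3, 2111), (4, 5130), (7, 252), (7, 2031), (5, 3091),
  (4, 4410), (6, 647), (2, 2168), (6, 7009), (8, 2920), (4, 4465), (5, 6696), (8, 600), (5, 3931), (4, 7661), (5, 7407), (8, 2485),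
  (7, 585), (3, 3070), (7, 7800), (3, 6571), (8, 3246), (2, 2750), (8, 4464), (3, 7240), (0, 7266), (8, 7793), (7, 457), (6, 234),
  (5, 5053), (2, 3726), (5, 1214), (2, 2629), (4, 2387), (0, 2399), (4, 5032), (1, 7056), (0, 2818), (3, 2988), (4, 7478), (3, 3016),
  (0, 2889), (3, 2960), (5, 7453), (1, 5040), (3, 2996), (4, 4976), (0, 4990), (0, 5305), (3, 7025), (0, 7295), (2, 5011), (5, 5040),
  (0, 5268), (1, 7370), (5, 1767), (3, 7013), (0, 2631), (3, 7007), (4, 7038), (3, 2382), (1, 7089), (0, 2870), (0, 2417), (0, 2640),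
  (2, 2653), (0, 4829), (0, 2988), (0, 2849), (0, 2831), (3, 2970), (5, 4980), (2, 2434), (4, 4986), (3, 7032), (0, 2811), (2, 3699),
  (0, 2379), (4, 5012), (3, 7449), (4, 3735), (3, 3008), (4, 5020), (0, 2996), (0, 7393), (5, 7483), (2, 6183), (4, 3718), (3, 2980),
  (0, 2615), (2, 2608), (0, 2621), (3, 7023), (3, 2437), (0, 7275), (3, 3004), (5, 1757), (0, 3016), (5, 3699), (0, 5088), (5, 6402),
  (6, 709), (8, 181), (5, 7224), (7, 412), (5, 3544), (5, 7379), (8, 4477), (0, 2782), (1, 7199), (4, 4481), (0, 5596), (5, 6838),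
  (3, 3025), (3, 3326), (0, 7872), (3, 2884), (6, 585), (6, 3798), (5, 3829), (4, 4811), (4, 4590), (3, 1378), (8, 5351), (3, 6609),
  (3, 3415), (2, 2529), (3, 1801), (8, 86), (8, 3168), (3, 1934), (8, 546), (8, 280), (8, 614), (6, 102), (3, 6779), (0, 7836),
  (4, 3646), (7, 6862), (7, 5703), (8, 654), (4, 4615), (6, 412), (8, 2475), (6, 224), (8, 3571), (5, 6014), (4, 4400), (2, 2512),
  (3, 1593), (3, 4841), (7, 293), (7, 260), (5, 4308), (2, 2196), (4, 1416), (7, 7294), (8, 6956), (3, 3776), (6, 302), (6, 6306),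
  (5, 7188), (0, 7592), (8, 4932), (7, 160), (4, 5210), (5, 1486), (8, 4566), (4, 4739), (3, 5925), (8, 388), (3, 7162), (7, 4291),
  (3, 6627), (0, 2354), (6, 2875), (8, 4662), (8, 3365), (7, 614), (3, 5596), (3, 2930), (8, 664), (5, 4394), (8, 536), (6, 580),
  (5, 7856), (5, 5503), (7, 4480), (0, 4087), (8, 5051), (8, 5266), (3, 6505), (6, 117), (7, 3948), (8, 3116), (2, 2456), (0, 2195),
  (1, 7175), (8, 647), (4, 4710), (8, 3664), (8, 7226), (5, 2487), (5, 7761), (4, 4573), (2, 3410), (4, 4444), (3, 868), (7, 1918),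
  (7, 6330), (3, 3050), (5, 4230), (7, 688), (4, 4782), (6, 5576), (8, 378), (8, 6306), (0, 2531), (7, 302), (4, 1115), (4, 3917),
  (5, 5760), (2, 7800), (4, 3765), (6, 5350), (6, 404), (6, 3781), (3, 946), (3, 4429), (3, 6554), (6, 268), (7, 6222), (4, 4475),
  (0, 3546), (3, 4902), (5, 5581), (8, 94), (3, 6916), (3, 6883), (3, 3334), (5, 7209), (4, 1679), (8, 483), (3, 3580), (8, 2989),
  (5, 1466), (3, 6531), (3, 2136), (3, 7216), (4, 4420), (0, 6901), (1, 7132), (0, 7742), (2, 2224), (7, 988), (4, 1359), (3, 1297),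
  (7, 501), (5, 7677), (7, 127), (3, 2901), (4, 5465), (8, 4163), (6, 244), (5, 6972), (6, 573), (3, 1811), (4, 4855), (3, 3035),
  (6, 160), (2, 4027), (8, 5482), (5, 4014), (6, 675), (8, 4550), (4, 1575), (4, 4499), (8, 626), (8, 573), (2, 6821), (3, 1704),
  (3, 7813), (8, 6835), (8, 150), (3, 3295), (8, 6525), (8, 3656), (7, 272), (5, 3223), (6, 86), (6, 614), (0, 2555), (3, 3556),
  (3, 3183), (3, 3441), (5, 3399), (8, 447), (4, 3512), (7, 709), (4, 4289), (8, 5304), (5, 7866), (7, 600), (8, 2772), (8, 127),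
  (0, 2223), (5, 3859), (5, 7271), (6, 7453), (3, 4100), (4, 7642), (7, 347), (8, 3201), (7, 4065), (6, 1783), (8, 5642), (0, 2233),
  (6, 555), (7, 224), (3, 1486), (6, 3805), (7, 647), (1, 6882), (3, 1307), (8, 7910), (8, 5854), (3, 6840), (8, 211), (6, 6113),
  (6, 260), (0, 2161), (5, 4790), (7, 7888), (8, 688), (2, 2570), (5, 7204), (4, 3464), (5, 7328), (7, 310), (8, 3462), (7, 171),
  (2, 2500), (4, 4725), (0, 4091), (0, 2566), (3, 3175), (3, 2651), (5, 4213), (2, 2723), (4, 2571), (8, 7777), (5, 7128), (8, 623),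
  (3, 3994), (3, 6538), (3, 3450), (3, 3572), (6, 424), (0, 3609), (6, 5666), (7, 675), (8, 5086), (8, 3419), (3, 2904), (5, 3555),
  (4, 6646), (3, 3377), (7, 6484), (8, 137), (3, 3305), (5, 2762), (8, 5411), (4, 5386), (3, 7261), (6, 3035), (4, 7887), (8, 7004),
  (5, 7637), (3, 7531), (5, 1037), (8, 416), (4, 4797), (4, 5430), (6, 3367), (7, 424), (8, 439), (0, 6867), (8, 555), (4, 5794),
  (0, 2206), (2, 7773), (2, 1715), (3, 4140), (5, 7770), (4, 4287), (3, 6601), (0, 3770), (3, 3041), (7, 5500), (6, 150), (0, 5968),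
  (6, 6557), (5, 7662), (8, 6930), (8, 117), (3, 1605), (8, 490), (8, 244), (6, 688), (6, 3536), (7, 6444), (5, 4733), (0, 2267),
  (3, 3847), (6, 4197), (8, 412), (7, 416), (3, 5771), (7, 5311), (1, 7557), (6, 972), (4, 5906), (8, 4038), (4, 4542), (6, 5373),
  (8, 5108), (0, 4116), (7, 626), (4, 4428), (8, 7511), (5, 3442), (7, 117), (8, 4624), (5, 7238), (4, 5477), (7, 6733), (2, 2476),
  (8, 171), (5, 2811), (4, 7498), (4, 868), (3, 6794), (7, 1819), (3, 1331), (8, 3312), (4, 1486), (3, 5235), (8, 5318), (5, 4027),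
  (5, 1441), (6, 416), (3, 7333), (8, 5971), (3, 3802), (8, 3181), (3, 7147), (8, 709), (3, 2927), (4, 4677), (5, 7355), (3, 6860),
  (8, 7887), (8, 2707), (4, 6669), (7, 5831), (3, 6583), (4, 4061), (5, 3078), (3, 4812), (0, 2171), (7, 7543), (7, 490), (3, 6058),
  (6, 5211), (4, 4890), (8, 3523), (8, 585), (3, 7194), (5, 7221), (5, 7691), (0, 2300), (0, 3326), (0, 2546), (5, 4802), (3, 3418),
  (8, 4796), (0, 2771), (4, 4757), (6, 272), (7, 4172), (7, 580), (8, 3221), (3, 3584), (2, 7719), (4, 4685), (5, 1666), (3, 3270),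
  (6, 562), (6, 3737), (6, 378), (3, 6873), (6, 664), (2, 2146), (6, 318), (6, 5663), (5, 2555), (4, 5370), (3, 3087), (3, 6959),
  (4, 3368), (3, 1056), (3, 793), (8, 368), (5, 2753), (7, 102), (4, 4563), (8, 3430), (8, 562), (7, 198), (7, 244), (5, 3886),
  (4, 6458), (3, 3342), (5, 6912), (3, 6769), (8, 7439), (1, 7152), (8, 184), (2, 7277), (8, 4413), (8, 3808), (8, 102), (8, 685),
  (6, 261), (3, 7764), (8, 2872), (6, 1794), (8, 2672), (7, 896), (5, 4255), (0, 4383), (5, 7632), (6, 697), (4, 4882), (8, 3144),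
  (3, 960), (8, 3907), (5, 2612), (3, 6587), (8, 4994), (3, 7777), (6, 920), (3, 7592), (1, 6637), (6, 4158), (7, 231), (7, 644),
  (5, 3601), (2, 2179), (3, 3172), (3, 2654), (0, 4799), (0, 2561), (2, 2501), (4, 908), (5, 895), (6, 7107), (7, 1858), (3, 2911),
  (8, 3008), (6, 431), (0, 7783), (8, 5172), (3, 5210), (4, 2818), (4, 3924), (3, 3306), (8, 6191), (8, 4915), (5, 5825), (7, 1008),
  (8, 558), (4, 2470), (8, 2471), (0, 2335), (6, 124), (7, 431), (4, 4792), (4, 4087), (7, 305), (8, 6480), (2, 3934), (5, 6177),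
  (7, 3934), (5, 747), (4, 7574), (8, 695), (3, 3093), (8, 5385), (5, 5944), (8, 620), (4, 1514), (3, 3573), (3, 3829), (3, 1635),
  (8, 649), (3, 6782), (0, 2292), (7, 592), (7, 3491), (8, 609), (6, 817), (4, 4254), (8, 3574), (6, 413), (8, 2478), (6, 231),
  (4, 4612), (2, 2519), (4, 5978), (5, 7649), (3, 2885), (0, 2538), (5, 6833), (0, 2229), (3, 4046), (1, 6710), (4, 4482), (3, 3026),
  (6, 704), (7, 2726), (8, 4980), (8, 176), (5, 6320), (5, 7382), (5, 7231), (0, 2777), (8, 7388), (8, 389), (4, 5211), (7, 7453),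
  (3, 874), (5, 7301), (3, 3543), (4, 1628), (8, 4815), (7, 167), (5, 3047), (0, 6470), (6, 6057), (6, 7027), (8, 3411), (3, 4926),
  (5, 4309), (3, 5798), (7, 288), (7, 261), (3, 6544), (7, 5040), (4, 4859), (2, 2704), (4, 1509), (4, 4585), (3, 7718), (6, 3302),
  (6, 193), (5, 4246), (3, 6610), (8, 5348), (8, 1867), (8, 7093), (3, 1356), (3, 3819), (2, 2530), (3, 1802), (8, 1497), (8, 547),
  (6, 6561), (8, 235), (7, 1369), (5, 2777), (8, 6631), (3, 3557), (0, 2558), (6, 5649), (4, 2238), (3, 3364), (0, 3644), (7, 397),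
  (8, 6762), (8, 5643), (6, 340), (7, 350), (7, 200), (2, 1681), (3, 2896), (7, 496), (3, 2714), (7, 124), (5, 7672), (4, 2784),
  (3, 2879), (3, 7156), (8, 3402), (8, 627), (8, 568), (2, 1440), (3, 3620), (8, 1398), (3, 2176), (4, 7218), (0, 2320), (5, 5836),
  (3, 6534), (3, 6888), (0, 4822), (1, 3381), (6, 1398), (2, 2553), (8, 7494), (5, 4296), (6, 167), (4, 4502), (4, 4634), (8, 5078),
  (4, 4852), (3, 4367), (6, 4168), (3, 1814), (6, 3172), (5, 7726), (4, 5202), (8, 718), (5, 7268), (6, 397), (0, 2220), (5, 4223),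
  (8, 405), (8, 124), (5, 7176), (7, 607), (4, 5382), (8, 7674), (4, 4559), (7, 704), (5, 7569), (8, 1691), (3, 3180), (3, 3442),
  (8, 5654), (2, 6212), (8, 6139), (1, 7268), (8, 5114), (8, 2504), (8, 191), (8, 680), (7, 3407), (0, 2174), (8, 817), (6, 4494),
  (3, 3770), (8, 6542), (4, 4891), (7, 1684), (8, 375), (5, 5411), (7, 865), (4, 6616), (3, 1860), (3, 6523), (8, 3263), (4, 4566),
  (7, 193), (8, 563), (3, 7230), (4, 4620), (5, 4078), (5, 7754), (3, 4642), (7, 1415), (5, 5246), (3, 2948), (3, 734), (4, 4178),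
  (4, 1032), (7, 328), (8, 5262), (8, 2710), (6, 2003), (4, 4680), (5, 3410), (3, 3265), (2, 2564), (3, 2247), (6, 379), (6, 7698),
  (8, 5508), (6, 7527), (8, 3216), (0, 2774), (7, 697), (7, 3295), (4, 4752), (3, 3591), (3, 7195), (0, 2301), (5, 4282), (5, 7216),
  (0, 6408), (0, 2547), (5, 7694), (3, 5403), (3, 5338), (3, 2686), (5, 2558), (4, 3638), (6, 5353), (6, 4220), (6, 671), (2, 2485),
  (4, 5926), (3, 1392), (3, 5248), (5, 7210), (3, 6917), (8, 3453), (3, 3581), (8, 3807), (2, 2525), (7, 5605), (5, 4080), (4, 4445),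
  (7, 405), (3, 3963), (3, 7141), (7, 817), (8, 3486), (0, 2355), (6, 4318), (8, 5676), (3, 1827), (3, 6465), (3, 3257), (7, 7367),
  (7, 5265), (8, 4498), (3, 2520), (6, 112), (8, 5054), (0, 2198), (2, 2357), (8, 7018), (3, 6198), (4, 3962), (6, 305), (3, 2211),
  (6, 176), (5, 5455), (2, 7297), (6, 405), (6, 5621), (5, 5250), (5, 5500), (8, 671), (5, 4768), (8, 543), (0, 2796), (7, 1074),
  (8, 379), (7, 5487), (4, 4777), (4, 5751), (4, 4651), (6, 543), (0, 2534), (8, 200), (4, 4478), (0, 3547), (3, 6103), (3, 6555),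
  (6, 269), (7, 7696), (8, 6165), (5, 3461), (8, 7227), (8, 644), (4, 4705), (8, 1008), (1, 5522), (4, 4568), (5, 3575), (5, 2484),
  (4, 5810), (7, 5092), (8, 174), (8, 6505), (3, 1896), (5, 7877), (3, 6795), (4, 869), (6, 3249), (3, 3397), (6, 6733), (3, 5774),
  (7, 423), (1, 6652), (7, 951), (8, 413), (6, 72), (7, 4409), (6, 7343), (0, 5975), (3, 3042), (8, 112), (8, 2953), (5, 7657),
  (8, 1464), (7, 4282), (3, 6519), (0, 2270), (5, 4199), (8, 2518), (6, 516), (6, 695), (5, 5545), (3, 4059), (8, 5313), (5, 4269),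
  (4, 4761), (8, 4300), (3, 7328), (6, 423), (7, 627), (4, 6676), (8, 5109), (0, 2589), (4, 4537), (6, 6088), (4, 5907), (8, 516),
  (4, 4672), (5, 7358), (8, 3176), (3, 7825), (3, 2285), (3, 6444), (8, 704), (3, 3227), (8, 4885), (5, 7233), (4, 5244), (8, 5514),
  (5, 7560), (7, 112), (2, 2341), (7, 1398), (3, 6602), (0, 3329), (5, 908), (4, 3894), (2, 2205), (3, 3565), (0, 2201), (2, 6717),
  (5, 7244), (8, 607), (8, 6696), (4, 4466), (2, 2175), (6, 530), (4, 1883), (6, 644), (7, 134), (3, 3808), (8, 530), (3, 3547),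
  (6, 6409), (7, 313), (1, 3468), (6, 389), (5, 960), (3, 3065), (5, 3934), (3, 1676), (7, 214), (4, 4746), (7, 586), (8, 496),
  (3, 2601), (8, 5150), (5, 3094), (4, 3873), (3, 6848), (7, 389), (7, 253), (5, 2505), (3, 2913), (5, 7343), (4, 1692), (3, 6216),
  (8, 167), (8, 5496), (5, 4206), (6, 809), (3, 3606), (4, 4043), (0, 6193), (4, 6308), (0, 2178), (3, 1914), (4, 6895), (0, 2805),
  (0, 2337), (8, 431), (2, 2511), (7, 718), (8, 2725), (8, 697), (3, 5873), (6, 191), (6, 350), (5, 6449), (5, 7732), (3, 7832),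
  (8, 3373), (8, 2385), (4, 4818), (3, 1652), (6, 2395), (8, 5276), (3, 2193), (7, 4296), (8, 5685), (8, 3398), (2, 2588), (0, 2522),
  (0, 7292), (2, 2031), (4, 4983), (0, 2433), (5, 7472), (3, 1158), (0, 3412), (3, 2997), (0, 2885), (0, 7434), (0, 4679), (0, 5020),
  (0, 2850), (2, 3719), (0, 2647), (1, 7446), (0, 3725), (5, 7465), (0, 2400), (5, 3728), (3, 3005), (5, 7417), (3, 6990), (0, 2603),
  (0, 7308), (3, 3693), (4, 4997), (3, 3023), (0, 2819), (1, 5810), (5, 1783), (3, 2967), (3, 2981), (0, 7296), (2, 2440), (5, 7486),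
  (2, 2593), (4, 3710), (3, 1783), (0, 5831), (4, 5031), (2, 4842), (5, 7446), (2, 7453), (5, 7463), (1, 7035), (4, 2403), (0, 2981),
  (0, 2387), (0, 2844), (3, 3015), (4, 5021), (3, 7041), (4, 3732), (0, 2382), (4, 1209), (4, 2417), (3, 6995), (0, 4886), (3, 7004),
  (5, 5088), (3, 1785), (0, 2832), (1, 6609), (3, 2971), (0, 2828), (2, 2903), (4, 7471), (2, 2953), (0, 3865), (3, 1739), (5, 5018),
  (8, 72), (6, 4280), (7, 2956), (0, 2580), (4, 4194), (7, 649), (8, 592), (3, 1410), (4, 7545), (8, 5292), (5, 5666), (6, 1008),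
  (5, 4066), (8, 678), (3, 3599), (3, 5615), (0, 4301), (6, 5647), (3, 6679), (3, 6786), (8, 475), (7, 354), (8, 5527), (3, 7131),
  (3, 2890), (4, 4732), (4, 5717), (6, 3814), (3, 6492), (5, 7251), (6, 2447), (8, 508), (6, 134), (8, 4664), (5, 874), (3, 1337),
  (8, 397), (3, 3211), (4, 4463), (5, 4007), (4, 7890), (0, 6224), (2, 5834), (1, 3201), (5, 5406), (4, 4804), (2, 2493), (5, 5193),
  (3, 3406), (3, 5870), (3, 747), (6, 508), (7, 72), (8, 7412), (8, 3346), (0, 7149), (4, 4606), (7, 269), (6, 375), (8, 3104),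
  (8, 193), (7, 2874), (0, 6841), (3, 3973), (8, 3386), (7, 5000), (4, 4662), (7, 375), (5, 6599), (5, 1044), (2, 2689), (8, 261),
  (3, 7098), (8, 328), (3, 7067), (0, 2484), (6, 471), (3, 7076), (8, 4360), (7, 4555), (4, 5852), (6, 4096), (6, 436), (2, 3358),
  (3, 4729), (3, 2034), (5, 7500), (6, 5484), (5, 7527), (0, 6829), (8, 313), (5, 7514), (8, 4386), (6, 486), (7, 530), (5, 7552),
  (2, 4225), (8, 350), (8, 297), (6, 458), (3, 3145), (8, 6440), (7, 508), (0, 6264), (4, 3592), (8, 2611), (0, 3249), (6, 475),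
  (8, 5724), (7, 547), (4, 747), (4, 4336), (5, 852), (3, 4230), (8, 7587), (3, 1140), (3, 4240), (4, 2054), (8, 6438), (3, 4681),
  (3, 1098), (0, 7516), (5, 7542), (4, 4388), (3, 5490), (0, 6833), (0, 2490), (2, 5366), (3, 1118), (2, 2874), (4, 3582), (7, 563),
  (7, 558), (5, 2034), (7, 543), (3, 5532), (5, 7492), (3, 5510), (4, 4330), (8, 288), (7, 7173), (0, 6326), (6, 3397), (3, 7092),
  (7, 560), (3, 2040), (5, 7528), (7, 557), (2, 5341), (7, 542), (3, 6023), (4, 4363), (4, 4335), (3, 7091), (5, 7491), (0, 3926),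
  (6, 488), (8, 289), (7, 569), (3, 5509), (4, 7111), (3, 2370), (0, 2502), (3, 5495), (0, 6292), (0, 2495), (2, 2849), (5, 7541),
  (0, 2483), (3, 7103), (3, 7075), (6, 4790), (8, 1155), (8, 5707), (7, 3989), (3, 7887), (3, 5538), (2, 2828), (6, 1155), (6, 497),
  (4, 7800), (3, 7061), (5, 7499), (6, 443), (8, 316), (5, 7553), (5, 7526), (6, 485), (7, 535), (5, 7519), (8, 7604), (0, 5485),
  (8, 308), (4, 4350), (3, 4241), (3, 3125), (8, 5693), (3, 3142), (5, 2040), (3, 2328), (6, 463), (2, 2836), (8, 339), (3, 4749),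
  (8, 6465), (7, 5361), (0, 2473), (8, 1896), (4, 743), (4, 2040), (6, 2632), (0, 2456), (7, 3312), (8, 5723), (8, 359), (4, 4368),
  (3, 6849), (4, 5331), (5, 7910), (8, 5047), (3, 6649), (7, 386), (7, 250), (5, 2148), (0, 2527), (2, 2587), (7, 4297), (3, 1525),
  (8, 6946), (8, 5682), (8, 5199), (6, 232), (4, 6486), (6, 3332), (3, 4820), (8, 4802), (5, 3657), (3, 3880), (8, 166), (5, 7342),
  (8, 2221), (6, 386), (7, 133), (7, 316), (1, 3796), (3, 3544), (6, 7368), (3, 3809), (2, 6777), (6, 4510), (0, 6909), (8, 700),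
  (3, 4617), (7, 6005), (8, 278), (8, 430), (3, 3301), (4, 4019), (4, 4664), (4, 4582), (0, 2183), (0, 5151), (0, 4937), (3, 1320),
  (3, 7833), (6, 349), (8, 6146), (8, 6692), (5, 6452), (4, 4823), (3, 6483), (5, 5747), (3, 3068), (7, 2983), (8, 497), (5, 7403),
  (3, 1675), (5, 4257), (4, 4751), (7, 591), (4, 4471), (5, 7243), (6, 6295), (2, 2174), (8, 606), (4, 6652), (6, 5683), (8, 6990),
  (3, 7009), (0, 7078), (3, 6992), (0, 2833), (1, 5760), (4, 1199), (3, 7465), (5, 6368), (2, 7008), (5, 5046), (3, 2994), (0, 2639),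
  (0, 2436), (4, 7424), (3, 7031), (0, 2862), (0, 5215), (2, 6598), (0, 2617), (3, 5013), (5, 2381), (2, 7007), (4, 3709), (3, 7019),
  (0, 3686), (0, 7277), (0, 3722), (5, 7420), (3, 6989), (5, 3701), (3, 3002), (5, 1788), (4, 5038), (1, 6999), (5, 1157), (0, 2395),
  (5, 7445), (2, 5189), (4, 2389), (2, 2625), (3, 2986), (0, 2816), (3, 2966), (0, 5776), (3, 3022), (4, 6394), (1, 6185), (5, 6997),
  (4, 5010), (0, 7007), (4, 1157), (3, 3014), (4, 3731), (3, 1775), (0, 5319), (0, 7482), (2, 7396), (5, 3718), (3, 2968), (0, 6135),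
  (3, 7038), (4, 6381), (2, 2621), (0, 2827), (0, 2652), (0, 2986), (0, 5249), (0, 2423), (0, 2855), (1, 4834), (0, 2868), (2, 2429),
  (5, 727), (8, 92), (3, 6552), (3, 3221), (7, 286), (6, 266), (0, 3544), (4, 5760), (6, 4433), (7, 190), (0, 2197), (8, 5156),
  (8, 7853), (2, 3508), (8, 3236), (3, 2521), (5, 4163), (8, 670), (5, 3437), (5, 7862), (6, 4178), (8, 542), (0, 2795), (7, 470),
  (5, 6930), (4, 4569), (1, 7171), (5, 7703), (4, 4708), (8, 643), (8, 7523), (8, 230), (5, 7351), (6, 308), (4, 3761), (2, 6509),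
  (6, 402), (3, 3439), (3, 6812), (6, 177), (5, 7215), (4, 4834), (8, 2985), (3, 7612), (3, 1393), (3, 3578), (8, 3806), (3, 3332),
  (7, 402), (4, 4442), (5, 4331), (7, 1916), (2, 2522), (3, 3048), (3, 2459), (7, 694), (3, 3260), (3, 5288), (3, 6629), (7, 612),
  (6, 717), (0, 5654), (8, 7159), (8, 5333), (6, 4142), (4, 4780), (7, 2787), (0, 2533), (8, 201), (8, 376), (4, 3851), (4, 7346),
  (5, 2319), (4, 5714), (4, 6075), (6, 5326), (8, 507), (3, 4770), (6, 4533), (3, 2540), (7, 266), (8, 1795), (3, 3061), (4, 2135),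
  (8, 3213), (6, 374), (7, 1020), (0, 3767), (4, 4523), (8, 7902), (3, 5947), (6, 6049), (5, 4233), (3, 3625), (5, 6484), (8, 677),
  (3, 7494), (0, 4781), (3, 6246), (8, 4440), (8, 6492), (6, 4107), (7, 73), (3, 3313), (3, 6791), (0, 7896), (7, 359), (8, 472),
  (6, 5646), (8, 4958), (3, 1499), (3, 1016), (6, 4281), (4, 3811), (3, 2266), (8, 73), (0, 2579), (7, 962), (7, 5111), (8, 593),
  (4, 4824), (0, 7844), (2, 2490), (1, 2756), (5, 7410), (5, 2855), (2, 4918), (4, 1320), (6, 133), (8, 7800), (4, 4462), (3, 1340),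
  (8, 394), (5, 4511), (5, 3532), (3, 4942), (8, 3650), (2, 2222), (7, 1106), (4, 1536), (5, 1661), (5, 7306), (7, 619), (8, 6588),
  (3, 6536), (3, 3826), (8, 619), (5, 7898), (3, 5971), (4, 4646), (8, 5388), (3, 3090), (0, 3340), (8, 557), (7, 430), (6, 123),
  (4, 3354), (4, 4793), (4, 5523), (8, 2470), (8, 3009), (3, 2910), (7, 4790), (6, 7601), (5, 2226), (6, 430), (0, 2245), (8, 4587),
  (3, 4918), (4, 4721), (5, 3604), (0, 6014), (2, 2498), (3, 7318), (0, 7167), (2, 5797), (3, 6584), (5, 7611), (8, 6724), (4, 1661),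
  (8, 422), (3, 2190), (6, 7180), (5, 3166), (6, 258), (3, 6846), (5, 3937), (6, 359), (8, 266), (0, 2167), (8, 213), (7, 143),
  (7, 230), (6, 557), (1, 7145), (7, 7390), (6, 5241), (3, 7191), (8, 7686), (3, 2674), (3, 5898), (4, 4434), (5, 7368), (3, 3311),
  (8, 143), (7, 485), (4, 4302), (8, 5532), (8, 694), (4, 4593), (5, 6714), (2, 2568), (5, 7334), (7, 173), (8, 6663), (7, 308),
  (4, 4530), (7, 4817), (3, 6792), (8, 7166), (3, 2691), (4, 4692), (8, 2811), (5, 7874), (8, 113), (6, 4468), (7, 7576), (8, 6825),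
  (5, 7660), (6, 5833), (0, 2743), (3, 5330), (6, 329), (8, 5136), (4, 4426), (4, 4845), (8, 515), (7, 624), (0, 6041), (4, 4540),
  (3, 1506), (4, 1556), (3, 2923), (3, 6858), (5, 7357), (8, 705), (3, 5654), (8, 3177), (3, 3394), (7, 422), (8, 410), (6, 2033),
  (3, 4890), (6, 250), (1, 6651), (7, 177), (5, 4029), (5, 2527), (8, 4299), (4, 4764), (3, 3353), (3, 1823), (6, 422), (8, 5316),
  (5, 5304), (5, 3440), (7, 232), (8, 4882), (8, 4822), (4, 4200), (7, 113), (2, 7685), (4, 5366), (3, 2850), (3, 5151), (2, 2735),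
  (0, 6873), (0, 2204), (2, 2537), (5, 7768), (7, 5666), (5, 4632), (6, 2854), (8, 242), (0, 2269), (3, 6518), (8, 2517), (6, 515),
  (3, 2571), (7, 100), (5, 7367), (8, 6938), (4, 4565), (8, 374), (4, 5787), (3, 6659), (8, 591), (7, 488), (7, 376), (8, 6682),
  (4, 4888), (6, 4493), (3, 6056), (0, 2173), (3, 3660), (6, 560), (3, 6879), (2, 2563), (4, 6944), (6, 376), (6, 7703), (5, 7631),
  (8, 190), (8, 2505), (8, 5119), (8, 681), (8, 1863), (2, 5445), (8, 5363), (1, 7158), (8, 5466), (6, 278), (4, 4753), (0, 7747),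
  (7, 700), (3, 3590), (8, 3217), (7, 578), (5, 3884), (4, 1525), (3, 941), (8, 560), (7, 1006), (5, 2219), (3, 5891), (7, 242),
  (5, 2557), (2, 2482), (3, 5343), (6, 5659), (6, 6430), (4, 5174), (6, 316), (3, 1362), (4, 4057), (5, 7882), (7, 6806), (4, 4454),
  (3, 2947), (8, 5261), (8, 1448), (3, 1661), (0, 2544), (5, 4141), (0, 6951), (5, 7693), (3, 3416), (3, 7192), (5, 7217), (0, 2371),
  (6, 339), (8, 7476), (8, 3207), (7, 349), (0, 2239), (3, 4657), (4, 4700), (7, 394), (5, 7177), (8, 123), (8, 402), (7, 606),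
  (0, 6549), (6, 394), (5, 7267), (5, 4100), (8, 5893), (8, 6630), (6, 2772), (6, 5844), (5, 7388), (7, 278), (3, 5934), (0, 5578),
  (3, 6616), (3, 1477), (3, 5804), (8, 624), (8, 569), (8, 6295), (8, 3407), (2, 2464), (2, 6970), (6, 3766), (8, 5077), (6, 4997),
  (5, 4878), (8, 7493), (4, 3338), (4, 2585), (5, 1525), (6, 569), (3, 3037), (4, 5207), (8, 717), (4, 5936), (3, 1813), (6, 242),
  (4, 5381), (8, 7856), (3, 3179), (7, 4111), (5, 6421), (3, 3871), (4, 4558), (8, 443), (7, 4533), (7, 201), (7, 123), (3, 6948),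
  (2, 2230), (5, 7673), (4, 4772), (3, 2897), (0, 2760), (3, 6889), (3, 7690), (1, 3295), (0, 2321), (4, 4418), (3, 2177), (5, 7314),
  (4, 2560), (6, 230), (8, 470), (6, 410), (8, 3573), (2, 2518), (4, 4406), (5, 6502), (5, 6951), (8, 177), (8, 5201), (7, 410),
  (6, 6465), (5, 7381), (5, 6139), (0, 5180), (8, 5063), (8, 386), (3, 3542), (7, 4468), (3, 7822), (4, 4741), (4, 4189), (5, 7298),
  (7, 7292), (7, 3075), (3, 5797), (4, 2325), (2, 2705), (5, 4871), (7, 258), (3, 7671), (8, 84), (8, 3174), (8, 5833), (3, 3816),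
  (2, 2535), (8, 544), (3, 6927), (3, 1807), (0, 2543), (3, 4045), (3, 3031), (3, 2882), (0, 2226), (5, 1055), (1, 6480), (4, 4487),
  (8, 5933), (0, 2291), (3, 6781), (6, 100), (4, 5704), (8, 652), (7, 593), (7, 84), (3, 6615), (5, 4245), (6, 6676), (8, 5347),
  (3, 1376), (4, 4588), (4, 4813), (6, 2031), (0, 4514), (8, 5459), (6, 3544), (6, 300), (7, 3956), (8, 3004), (3, 3782), (5, 7918),
  (7, 691), (5, 4086), (7, 95), (3, 7804), (3, 3053), (7, 4103), (4, 7265), (2, 2521), (8, 2918), (3, 6504), (8, 7695), (2, 2353),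
  (0, 2196), (8, 5052), (6, 118), (7, 4904), (5, 6902), (2, 7131), (3, 6815), (6, 311), (6, 401), (3, 6196), (4, 5249), (6, 7305),
  (4, 4653), (7, 303), (0, 5585), (4, 3658), (8, 6035), (6, 539), (4, 4783), (8, 206), (4, 4574), (5, 7760), (8, 3667), (4, 7636),
  (5, 6523), (8, 4921), (8, 642), (1, 7170), (3, 5760), (7, 615), (8, 6638), (3, 3941), (6, 2156), (0, 7612), (3, 7291), (8, 7812),
  (3, 6913), (3, 1398), (3, 5943), (5, 7208), (4, 4833), (8, 3449), (3, 3335), (8, 2455), (3, 6557), (6, 265), (5, 720), (4, 4476),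
  (0, 2248), (8, 95), (7, 283), (3, 3220), (5, 7606), (8, 539), (5, 4494), (7, 1661), (0, 7705), (8, 667), (6, 1297), (5, 7172),
  (4, 4543), (4, 1906), (4, 2360), (0, 2585), (7, 629), (6, 3934), (8, 5105), (8, 2040), (7, 7777), (8, 409), (6, 4918), (1, 3480),
  (6, 249), (3, 4399), (7, 2040), (3, 5772), (6, 1411), (3, 821), (7, 2858), (6, 514), (8, 1661), (5, 4195), (0, 3666), (8, 241),
  (8, 118), (8, 2959), (0, 2736), (6, 2311), (5, 1361), (6, 78), (7, 5802), (3, 3040), (3, 1719), (4, 3600), (5, 6983), (0, 6878),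
  (2, 2201), (2, 2542), (0, 7887), (3, 3561), (4, 6576), (8, 6511), (8, 172), (7, 686), (3, 6934), (4, 4695), (3, 6797), (5, 2812),
  (7, 237), (4, 4205), (5, 7239), (2, 2473), (7, 6871), (5, 7566), (8, 7216), (8, 5368), (3, 5282), (8, 2254), (3, 7831), (8, 3182),
  (3, 3229), (4, 4678), (5, 7356), (3, 6857), (4, 6723), (3, 5236), (3, 6664), (5, 4265), (5, 1440), (8, 577), (8, 7888), (6, 2579),
  (8, 3400), (2, 2329), (8, 574), (8, 3826), (3, 5807), (8, 629), (3, 6621), (3, 1476), (3, 2139), (0, 2765), (5, 5563), (0, 5686),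
  (1, 7129), (3, 1528), (4, 4417), (3, 6532), (5, 4875), (6, 2963), (8, 5177), (6, 3024), (2, 6969), (4, 4632), (4, 4500), (8, 4763),
  (0, 2218), (8, 122), (8, 401), (7, 603), (5, 7869), (5, 4219), (5, 7266), (6, 393), (5, 7575), (8, 5307), (3, 3754), (7, 710),
  (4, 3820), (8, 1091), (4, 4555), (3, 3864), (3, 3036), (4, 1398), (5, 7724), (6, 241), (3, 6637), (6, 574), (8, 716), (4, 4007),
  (3, 5304), (7, 3734), (3, 1296), (4, 4775), (5, 1332), (7, 2924), (7, 985), (2, 3150), (7, 275), (3, 5931), (8, 7180), (6, 1335),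
  (0, 7248), (5, 7391), (6, 87), (8, 5892), (7, 4064), (8, 3200), (7, 348), (4, 4703), (3, 5186), (6, 7227), (8, 7834), (0, 6220),
  (4, 2272), (3, 3746), (2, 5796), (2, 7111), (0, 2567), (0, 5929), (3, 2652), (5, 4214), (3, 3089), (8, 618), (5, 7897), (8, 4841),
  (4, 4643), (3, 850), (3, 3453), (3, 3569), (6, 1349), (5, 891), (6, 427), (8, 3295), (3, 2907), (7, 6014), (8, 5087), (0, 4911),
  (6, 703), (5, 7638), (8, 3909), (3, 2187), (8, 2942), (4, 1372), (3, 720), (5, 5520), (4, 4511), (8, 1226), (7, 427), (6, 2282),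
  (0, 6868), (8, 434), (4, 5581), (4, 1440), (8, 4917), (5, 1829), (3, 4871), (4, 4299), (7, 5675), (3, 3376), (4, 4433), (8, 892),
  (2, 7739), (5, 1456), (7, 3932), (8, 691), (4, 4598), (5, 7201), (7, 311), (8, 6656), (7, 3544), (7, 642), (8, 5250), (6, 1276),
  (6, 3806), (3, 7184), (1, 6754), (3, 1308), (8, 212), (7, 7891), (8, 265), (0, 3229), (5, 3942), (6, 352), (6, 977), (3, 6843),
  (7, 334), (8, 5260), (4, 4176), (3, 6578), (8, 249), (5, 7881), (3, 2946), (4, 1038), (6, 1338), (6, 667), (4, 4278), (5, 6614),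
  (2, 2481), (3, 3082), (3, 1885), (6, 319), (3, 6872), (6, 381), (3, 3271), (5, 7624), (6, 3736), (6, 2005), (4, 1637), (2, 2562),
  (5, 4076), (8, 565), (3, 5890), (4, 4618), (7, 4918), (5, 6915), (3, 7228), (7, 6198), (0, 2549), (5, 7692), (5, 7222), (5, 3891),
  (3, 3836), (3, 7197), (0, 3639), (0, 2370), (3, 6061), (0, 2172), (4, 1696), (6, 1612), (7, 2670), (8, 7173), (8, 584), (7, 2854),
  (2, 6548), (8, 4615), (8, 1121), (8, 4414), (1, 4342), (8, 103), (8, 686), (8, 187), (6, 6035), (8, 7258), (7, 577), (7, 703),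
  (0, 2772), (8, 7105), (3, 3587), (4, 4758), (8, 371), (4, 4493), (7, 103), (5, 970), (3, 1858), (4, 7164), (8, 2980), (3, 792),
  (0, 2427), (0, 4830), (2, 4824), (0, 2848), (0, 5018), (0, 2871), (1, 5199), (0, 2643), (0, 6984), (4, 7012), (3, 3011), (0, 6620),
  (3, 7047), (4, 6390), (0, 2380), (4, 3730), (4, 6339), (2, 1735), (5, 7444), (2, 6132), (5, 7459), (0, 2394), (4, 5035), (1, 3883),
  (3, 2438), (0, 2946), (0, 2410), (5, 7423), (0, 2406), (5, 7471), (3, 5074), (5, 3734), (5, 5043), (2, 5218), (0, 4619), (0, 6996),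
  (0, 7290), (3, 7024), (4, 7027), (3, 2993), (3, 6997), (4, 6407), (3, 7014), (5, 7435), (3, 7002), (0, 2626), (1, 5190), (0, 2838),
  (0, 2610), (3, 5012), (4, 3708), (2, 2935), (5, 7484), (2, 5202), (0, 4874), (3, 7018), (3, 2963), (4, 4993), (3, 3689), (5, 7454),
  (1, 5808), (0, 7364), (3, 3019), (0, 4888), (5, 3710), (2, 5214), (0, 2826), (3, 7035), (0, 2812), (2, 5247), (4, 4989), (3, 2973),
  (3, 3404), (6, 2666), (3, 6561), (3, 5868), (7, 6855), (0, 7145), (8, 3344), (8, 5128), (7, 6563), (8, 598), (0, 2578), (7, 151),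
  (3, 2265), (8, 6131), (6, 686), (4, 4050), (2, 2489), (5, 7889), (4, 4829), (4, 4802), (2, 2547), (0, 2279), (5, 1865), (1, 2728),
  (8, 4168), (3, 3595), (6, 6054), (5, 2101), (3, 5825), (4, 4522), (8, 4518), (5, 4900), (3, 891), (3, 6675), (6, 603), (8, 7501),
  (7, 352), (8, 477), (3, 2168), (0, 2189), (4, 6474), (5, 6444), (5, 6595), (8, 1444), (2, 5760), (7, 371), (8, 3278), (7, 618),
  (3, 2888), (6, 3812), (4, 3612), (4, 4730), (3, 7646), (8, 506), (6, 283), (5, 1398), (7, 265), (4, 2169), (7, 5649), (8, 199),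
  (8, 3212), (6, 371), (3, 3060), (0, 4475), (5, 4319), (5, 6302), (8, 5379), (4, 4459), (3, 3213), (8, 393), (3, 1343), (6, 132),
  (8, 283), (8, 549), (8, 4240), (3, 6642), (3, 1354), (8, 3171), (2, 1947), (3, 3821), (6, 3549), (8, 3007), (0, 3756), (5, 7185),
  (3, 4924), (8, 4811), (7, 7815), (6, 2902), (3, 3024), (5, 6408), (0, 5593), (4, 4480), (1, 7194), (3, 3327), (0, 2225), (3, 5261),
  (4, 4861), (2, 3295), (5, 4151), (7, 852), (7, 294), (3, 3255), (3, 1592), (7, 3575), (6, 3799), (4, 949), (3, 6608), (6, 5624),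
  (4, 4812), (5, 3830), (3, 6897), (8, 5663), (7, 409), (6, 3082), (5, 2772), (5, 6944), (8, 182), (8, 5206), (0, 2783), (5, 1402),
  (8, 3572), (6, 227), (8, 467), (6, 6889), (4, 7352), (5, 5685), (4, 4403), (2, 2515), (4, 3846), (0, 3653), (3, 6780), (6, 2263),
  (8, 615), (7, 2473), (7, 2193), (8, 655), (8, 385), (8, 7301), (5, 7297), (3, 7819), (7, 1031), (4, 5450), (4, 7650), (3, 3539),
  (4, 720), (0, 3923), (7, 574), (3, 1080), (6, 3393), (8, 294), (5, 7490), (3, 5508), (6, 456), (3, 4748), (0, 2478), (2, 2839),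
  (8, 348), (7, 506), (8, 338), (8, 303), (7, 539), (3, 3103), (3, 7865), (5, 7533), (4, 2706), (2, 2823), (7, 5933), (7, 565),
  (3, 7074), (8, 4380), (0, 2482), (3, 7880), (7, 514), (3, 7096), (8, 334), (6, 6227), (5, 7512), (8, 5718), (5, 7558), (5, 7523),
  (0, 7557), (7, 5335), (6, 484), (8, 319), (3, 4178), (8, 7589), (3, 4228), (8, 311), (4, 4347), (3, 3164), (3, 7119), (5, 7549),
  (6, 7724), (8, 4343), (4, 7076), (4, 2081), (8, 6415), (4, 4321), (7, 549), (0, 2461), (5, 7540), (0, 2499), (3, 5989), (2, 7538),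
  (0, 3246), (4, 4386), (3, 2063), (0, 2511), (3, 4237), (6, 1942), (5, 7498), (2, 1587), (4, 7082), (3, 1127), (6, 1874), (6, 442),
  (7, 6004), (8, 275), (6, 907), (0, 2343), (8, 427), (3, 3372), (8, 703), (2, 2325), (3, 4824), (4, 6306), (0, 4942), (4, 5564),
  (0, 2176), (0, 2801), (4, 1528), (3, 6978), (8, 5681), (8, 5013), (2, 2586), (7, 1058), (6, 237), (8, 6945), (3, 2199), (0, 2520),
  (3, 1071), (4, 3665), (5, 5234), (8, 5040), (3, 2106), (5, 2511), (7, 249), (7, 385), (6, 7624), (8, 3185), (8, 603), (4, 4413),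
  (6, 2688), (2, 7798), (4, 4464), (5, 7242), (8, 1665), (5, 4753), (3, 5355), (7, 584), (4, 891), (7, 212), (3, 7520), (5, 5440),
  (3, 1440), (8, 3518), (3, 1650), (6, 348), (5, 5509), (4, 4816), (8, 132), (5, 3596), (6, 95), (4, 6483), (5, 2585), (5, 4204),
  (8, 5429), (8, 163), (3, 3389), (3, 2919), (6, 7478), (8, 528), (3, 5618), (1, 7181), (7, 5531), (6, 655), (3, 5166), (7, 132),
  (6, 6074), (3, 1360), (5, 739), (4, 5756), (3, 6139), (2, 2480), (6, 7408), (6, 621), (5, 1893), (4, 4179), (8, 5257), (3, 2949),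
  (4, 4452), (7, 335), (3, 6581), (8, 5879), (8, 4415), (2, 2208), (8, 98), (1, 5910), (8, 4610), (8, 687), (8, 188), (8, 6115),
  (3, 6661), (5, 5414), (7, 98), (4, 4494), (8, 372), (4, 3480), (8, 3426), (3, 6526), (3, 3588), (8, 3223), (0, 3140), (4, 4759),
  (7, 576), (8, 4792), (6, 6036), (7, 4168), (6, 169), (3, 3195), (8, 7174), (7, 4087), (0, 2169), (8, 587), (7, 494), (4, 1411),
  (5, 2606), (3, 2089), (6, 1286), (6, 3739), (6, 382), (4, 4687), (2, 2754), (3, 3266), (5, 7223), (0, 3322), (0, 2550), (3, 909),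
  (0, 2296), (5, 4283), (3, 4417), (5, 5987), (5, 4178), (8, 566), (3, 2229), (4, 6861), (7, 6938), (7, 5250), (3, 5893), (5, 6916),
  (0, 2866), (2, 2882), (0, 5197), (1, 7111), (0, 2644), (0, 2428), (0, 2851), (0, 2419), (4, 3021), (1, 2403), (0, 2593), (3, 6339),
  (5, 7455), (3, 2984), (0, 2822), (3, 5023), (3, 7021), (0, 7330), (2, 7484), (4, 5040), (2, 2040), (5, 2377), (3, 2976), (0, 4842),
  (0, 5315), (0, 2390), (4, 7453), (3, 7042), (4, 7447), (0, 2377), (4, 3736), (3, 3012), (3, 7036), (5, 3737), (2, 1791), (0, 2809),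
  (2, 2381), (4, 4990), (3, 3687), (0, 2829), (0, 2606), (0, 2407), (5, 5038), (3, 2439), (5, 7418), (0, 5015), (5, 5096), (3, 3000),
  (2, 2642), (0, 2635), (3, 2992), (5, 7479), (0, 2434), (0, 2860), (3, 7027), (4, 4980), (5, 7436), (3, 6998), (0, 4881), (3, 7005),
  (4, 6402), (1, 5075), (0, 2839), (3, 7015), (1, 5000), (4, 3006), (2, 7464), (5, 1742), (0, 2397), (5, 7460), (2, 2631), (4, 1765),
  (8, 7040), (3, 2925), (4, 1554), (3, 6079), (8, 711), (5, 7353), (3, 1369), (3, 887), (7, 4283), (8, 240), (6, 692), (5, 4196),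
  (0, 4953), (6, 2677), (8, 494), (3, 6516), (7, 420), (3, 3845), (6, 248), (3, 5576), (6, 7570), (8, 408), (7, 6959), (1, 6827),
  (6, 7340), (8, 119), (6, 5119), (5, 7658), (8, 2954), (7, 5805), (3, 5328), (0, 3121), (5, 7567), (5, 7234), (4, 4069), (8, 5515),
  (8, 5371), (7, 238), (2, 2472), (7, 119), (3, 6667), (6, 420), (4, 4762), (8, 576), (8, 5017), (5, 4264), (5, 2523), (3, 5851),
  (3, 3560), (0, 2202), (0, 5629), (5, 7774), (2, 2543), (2, 2200), (4, 4285), (3, 7543), (0, 2584), (4, 4538), (6, 335), (7, 4178),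
  (4, 4424), (8, 5104), (8, 517), (4, 4841), (3, 1573), (4, 1612), (3, 7580), (5, 5210), (8, 169), (8, 7164), (4, 4528), (7, 4823),
  (3, 6966), (1, 7151), (6, 3560), (8, 4995), (3, 7187), (6, 5967), (7, 5018), (7, 228), (2, 2496), (4, 1618), (0, 2755), (0, 2562),
  (3, 3173), (3, 1864), (5, 4391), (2, 4088), (6, 3365), (4, 6598), (8, 2468), (0, 6865), (8, 553), (4, 5525), (4, 4799), (7, 428),
  (8, 5082), (7, 673), (3, 4787), (0, 7780), (6, 7418), (5, 7710), (6, 5670), (8, 6924), (3, 5790), (8, 139), (8, 4918), (3, 3379),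
  (4, 6040), (4, 5152), (7, 6480), (5, 3235), (3, 967), (6, 5018), (4, 4883), (8, 6722), (5, 7639), (3, 2830), (5, 1039), (8, 3910),
  (5, 7200), (7, 169), (5, 2539), (7, 3050), (8, 3594), (2, 2574), (8, 692), (4, 4599), (6, 256), (6, 1795), (5, 4123), (3, 6844),
  (8, 5850), (7, 2508), (8, 3821), (0, 2163), (4, 4644), (8, 7453), (5, 5951), (8, 621), (3, 3998), (3, 6542), (3, 3454), (3, 3568),
  (3, 3250), (5, 4867), (2, 2711), (3, 6551), (7, 7645), (4, 5974), (7, 668), (7, 5760), (8, 550), (3, 6923), (3, 3413), (8, 3640),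
  (3, 6645), (8, 2423), (8, 3172), (2, 3387), (3, 2880), (0, 6482), (4, 4483), (0, 2539), (3, 3322), (1, 6889), (5, 7586), (3, 3027),
  (6, 194), (4, 2102), (3, 2256), (6, 587), (4, 4809), (8, 4673), (3, 784), (5, 4241), (7, 164), (8, 5461), (3, 3204), (6, 298),
  (0, 3365), (8, 3414), (6, 6310), (5, 7184), (0, 2293), (8, 610), (8, 650), (4, 5399), (6, 98), (3, 6777), (7, 7850), (7, 5701),
  (3, 3540), (4, 4737), (3, 2510), (5, 7296), (4, 5453), (7, 5640), (8, 5059), (8, 384), (8, 468), (2, 2516), (8, 3500), (5, 2479),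
  (4, 4404), (6, 4728), (4, 4613), (6, 228), (7, 2065), (6, 711), (0, 2778), (5, 2163), (8, 1773), (5, 7228), (5, 7377), (8, 5207),
  (5, 3455), (6, 345), (3, 2567), (8, 3583), (3, 7179), (4, 6696), (8, 2386), (5, 7733), (6, 5685), (8, 3184), (4, 7525), (4, 4414),
  (6, 531), (5, 7245), (8, 604), (2, 2172), (6, 90), (4, 4875), (3, 3390), (5, 4201), (8, 5430), (3, 2914), (5, 7340), (8, 2844),
  (5, 5443), (3, 7523), (7, 587), (3, 5356), (7, 209), (4, 4747), (5, 4168), (8, 3784), (0, 2179), (4, 4021), (0, 6194), (4, 4580),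
  (3, 3297), (0, 3116), (4, 4670), (3, 2734), (5, 3120), (5, 5971), (4, 3874), (7, 248), (7, 5123), (3, 1842), (8, 5145), (3, 6855),
  (7, 713), (8, 3632), (8, 698), (0, 2338), (8, 428), (2, 2508), (6, 188), (3, 3369), (6, 238), (7, 459), (2, 2589), (8, 7879),
  (8, 7795), (8, 6606), (3, 2194), (0, 2523), (1, 7182), (6, 384), (6, 650), (7, 314), (8, 531), (3, 3550), (7, 129), (3, 5621),
  (8, 509), (4, 3609), (6, 4529), (6, 284), (5, 7254), (3, 2891), (4, 6077), (3, 6493), (7, 1891), (3, 3319), (3, 750), (6, 509),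
  (3, 6244), (0, 2745), (8, 7141), (8, 5131), (8, 5899), (4, 4657), (7, 5157), (2, 2220), (5, 7617), (8, 3387), (7, 621), (5, 6596),
  (3, 6906), (7, 7799), (0, 2581), (8, 599), (7, 845), (8, 79), (6, 1407), (4, 5529), (2, 5932), (5, 7888), (5, 5816), (4, 4805),
  (2, 2548), (1, 3299), (4, 4830), (0, 3600), (5, 2193), (3, 3214), (6, 129), (5, 4314), (4, 4460), (8, 5380), (8, 3948), (3, 1338),
  (4, 7546), (6, 295), (3, 5949), (8, 5293), (5, 4239), (8, 673), (5, 7642), (3, 5824), (3, 3057), (6, 372), (8, 7116), (0, 2315),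
  (7, 6534), (4, 4601), (7, 264), (8, 194), (3, 7134), (3, 6676), (3, 973), (8, 4956), (7, 355), (0, 2190), (6, 604), (8, 478),
  (8, 6447), (7, 509), (8, 345), (8, 298), (0, 7496), (3, 4203), (6, 459), (2, 1599), (4, 4320), (4, 4343), (8, 5702), (7, 4576),
  (0, 5536), (6, 478), (4, 4374), (8, 355), (3, 4743), (3, 4225), (8, 7593), (3, 7114), (5, 7550), (3, 3121), (8, 2616), (4, 4348),
  (5, 7534), (7, 540), (2, 6028), (4, 4365), (3, 4222), (7, 7188), (7, 7775), (3, 1113), (3, 3159), (5, 7493), (3, 2323), (7, 575),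
  (8, 1875), (6, 494), (0, 3287), (4, 4331), (3, 7889), (4, 7107), (0, 6784), (0, 5533), (3, 4724), (0, 6834), (5, 7537), (2, 4215),
  (6, 481), (7, 531), (0, 6317), (8, 1201), (5, 7559), (8, 5719), (5, 7515), (5, 6198), (3, 2337), (8, 5709), (8, 335), (3, 2019),
  (7, 517), (6, 4788), (0, 6274), (3, 7863), (3, 3135), (6, 503), (6, 4757), (2, 4178), (4, 3574), (6, 6925), (5, 7501), (3, 7057),
  (5, 1122), (6, 576), (7, 468), (5, 4495), (8, 668), (0, 2797), (8, 540), (5, 7607), (7, 692), (5, 4948), (4, 4440), (3, 1449),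
  (3, 3054), (2, 2520), (7, 5864), (7, 400), (3, 6507), (0, 2193), (7, 188), (8, 3112), (2, 2460), (8, 5039), (8, 5154), (6, 119),
  (3, 3258), (7, 610), (3, 2645), (3, 2934), (6, 713), (8, 4859), (8, 3532), (0, 4504), (8, 228), (1, 7679), (4, 4575), (8, 5419),
  (8, 645), (4, 933), (5, 6524), (5, 7763), (5, 7211), (3, 1315), (8, 6980), (4, 2333), (3, 2254), (3, 4074), (8, 3804), (3, 3576),
  (3, 3217), (7, 1646), (4, 4473), (5, 3456), (8, 90), (0, 6257), (6, 5304), (3, 6558), (0, 2529), (8, 207), (4, 4654), (6, 4860),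
  (4, 4778), (4, 4306), (8, 382), (7, 298), (4, 5457), (3, 3435), (6, 400), (6, 5943), (3, 6810), (2, 2717), (5, 937), (6, 6066),
  (0, 2766), (1, 7128), (3, 6529), (3, 7768), (0, 4496), (5, 762), (3, 988), (4, 6681), (3, 4946), (3, 5408), (5, 6783), (8, 2498),
  (4, 4556), (7, 810), (4, 3817), (8, 5212), (4, 4635), (8, 5073), (6, 5204), (4, 4497), (8, 5403), (5, 4010), (6, 7153), (2, 2743),
  (3, 7815), (3, 6622), (8, 146), (8, 575), (8, 630), (3, 3293), (2, 2470), (8, 3403), (5, 7183), (7, 4993), (8, 400), (8, 125),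
  (0, 7917), (5, 4098), (5, 7269), (6, 392), (3, 4096), (4, 4698), (7, 345), (8, 2900), (7, 392), (6, 6101), (8, 7474), (0, 4922),
  (6, 3322), (5, 7386), (0, 2553), (8, 238), (8, 3544), (3, 3552), (7, 276), (6, 5650), (4, 6521), (3, 7337), (4, 4075), (3, 3033),
  (6, 240), (5, 2169), (6, 4175), (8, 713), (7, 503), (3, 6946), (7, 3735), (7, 207), (2, 2671), (3, 4756), (4, 1501), (5, 7679),
  (3, 4913), (0, 3086), (0, 2756), (4, 4722), (2, 4171), (3, 6685), (5, 4918), (2, 5792), (4, 4509), (8, 552), (7, 4737), (6, 3366),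
  (0, 2329), (8, 1686), (4, 4238), (4, 7280), (5, 7899), (3, 3571), (4, 4641), (3, 1639), (3, 3827), (8, 622), (3, 3091), (8, 5389),
  (8, 1765), (7, 2505), (8, 1021), (0, 2164), (5, 4124), (6, 356), (6, 6739), (3, 2289), (7, 480), (4, 5314), (4, 4435), (5, 7375),
  (8, 4919), (8, 1830), (3, 3308), (3, 3380), (6, 425), (0, 2240), (3, 6457), (7, 672), (8, 4590), (5, 7711), (6, 631), (8, 6809),
  (8, 3227), (3, 6830), (3, 6591), (5, 7634), (6, 7181), (5, 6475), (8, 417), (4, 6499), (2, 5616), (5, 1460), (7, 168), (8, 689),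
  (4, 4594), (5, 2329), (7, 309), (8, 3597), (6, 202), (6, 552), (1, 6433), (7, 646), (7, 225), (3, 1304), (8, 5254), (3, 1485),
  (7, 613), (6, 6472), (0, 2359), (3, 3644), (3, 2935), (3, 1831), (8, 7442), (8, 3480), (8, 646), (8, 5420), (4, 4570), (1, 7174),
  (8, 1010), (4, 4709), (5, 3139), (5, 7764), (8, 6785), (3, 5941), (5, 7212), (3, 5250), (8, 2453), (4, 3434), (3, 6880), (3, 7613),
  (8, 202), (4, 4781), (7, 301), (0, 6023), (6, 537), (4, 7347), (4, 3662), (8, 383), (6, 309), (5, 7348), (6, 1618), (6, 403),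
  (2, 7801), (3, 1579), (3, 5471), (4, 5551), (6, 267), (0, 6256), (8, 4178), (3, 1671), (4, 6558), (7, 1426), (3, 3216), (5, 7295),
  (0, 2192), (2, 2457), (6, 3354), (3, 1587), (8, 3237), (7, 185), (8, 5271), (8, 7362), (6, 579), (8, 6255), (5, 3432), (5, 7857),
  (5, 4839), (7, 6459), (0, 2798), (8, 537), (4, 4443), (7, 4101), (7, 6029), (2, 2790), (7, 93), (3, 7800), (3, 3055), (5, 4229),
  (1, 6552), (0, 6557), (0, 2425), (0, 4837), (2, 2885), (0, 2852), (0, 2420), (0, 2653), (3, 6984), (0, 4866), (0, 5010), (5, 5059),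
  (0, 7015), (5, 7469), (3, 3003), (5, 3725), (0, 2830), (3, 2975), (0, 2808), (2, 6569), (4, 4991), (2, 2382), (5, 3736), (3, 7033),
  (3, 1754), (5, 1766), (1, 2626), (4, 5003), (3, 6999), (0, 2834), (3, 1789), (0, 2898), (5, 7480), (2, 2597), (0, 2618), (3, 5040),
  (0, 7114), (3, 7022), (4, 3704), (2, 7349), (3, 2961), (4, 1167), (3, 2987), (5, 2425), (1, 4895), (0, 2823), (3, 5018), (0, 2592),
  (5, 7440), (1, 7474), (5, 7457), (0, 2398), (4, 6346), (2, 2626), (4, 1766), (2, 2404), (3, 1772), (0, 2846), (0, 2376), (4, 7008),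
  (0, 5040), (4, 3676), (3, 3009), (4, 5011), (5, 7474), (2, 7378), (0, 2857), (0, 7478), (0, 7294), (3, 7456), (4, 4977), (3, 2995),
  (4, 3575), (2, 5998), (6, 6198), (6, 498), (3, 3130), (6, 446), (5, 7502), (3, 7056), (6, 465), (8, 330), (8, 5710), (0, 2486),
  (3, 7100), (3, 7078), (3, 7071), (7, 2626), (5, 7536), (0, 6837), (3, 3113), (2, 5360), (0, 2492), (4, 7108), (3, 7105), (0, 7518),
  (3, 7094), (4, 724), (3, 4190), (6, 1215), (0, 6320), (7, 1200), (8, 290), (5, 824), (7, 567), (7, 552), (3, 6020), (3, 2047),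
  (2, 3313), (7, 2633), (5, 7535), (4, 4366), (8, 5688), (4, 2689), (3, 3160), (3, 4182), (8, 309), (3, 7117), (5, 7073), (3, 3137),
  (8, 317), (6, 7756), (8, 7605), (5, 7554), (7, 7718), (5, 7061), (5, 7521), (0, 2470), (8, 1218), (4, 5847), (7, 551), (8, 4341),
  (6, 4799), (0, 5539), (4, 2036), (4, 4323), (8, 342), (7, 5971), (6, 4060), (8, 301), (0, 3261), (2, 4234), (8, 344), (3, 4744),
  (3, 6152), (5, 6837), (0, 7207), (4, 4484), (1, 4806), (3, 4040), (0, 2227), (3, 2883), (8, 3169), (8, 6171), (3, 1034), (2, 4937),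
  (3, 3414), (3, 2671), (8, 551), (8, 281), (8, 613), (6, 101), (7, 594), (0, 2294), (4, 5121), (8, 653), (3, 6776), (7, 4871),
  (2, 6521), (7, 290), (3, 3253), (4, 4863), (7, 665), (3, 6546), (7, 259), (5, 4307), (4, 5454), (5, 752), (3, 7817), (4, 6100),
  (3, 3537), (7, 1716), (8, 7390), (8, 387), (6, 5957), (4, 4589), (3, 6612), (6, 2748), (4, 4808), (5, 4240), (3, 6899), (8, 5350),
  (5, 7376), (5, 7225), (8, 1774), (8, 7632), (0, 7716), (6, 5026), (7, 411), (5, 2164), (8, 4931), (0, 6464), (5, 1088), (7, 6925),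
  (6, 6061), (3, 3201), (8, 3415), (6, 551), (6, 225), (4, 4614), (5, 6497), (8, 3568), (6, 411), (4, 4401), (2, 2513), (8, 465),
  (8, 498), (5, 4258), (3, 3069), (7, 1440), (4, 4748), (7, 6141), (3, 7524), (5, 962), (8, 5196), (6, 1679), (8, 3392), (8, 7796),
  (7, 6431), (3, 6800), (0, 2524), (2, 2749), (6, 6292), (4, 4415), (4, 6566), (8, 3187), (6, 2806), (5, 1602), (8, 601), (2, 2169),
  (6, 185), (2, 3480), (8, 987), (3, 3368), (8, 701), (8, 273), (7, 6579), (0, 4491), (4, 2343), (8, 5498), (8, 161), (6, 5133),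
  (5, 3658), (3, 3887), (3, 2917), (5, 5585), (8, 6693), (5, 5511), (4, 4820), (3, 7180), (6, 3944), (8, 2389), (5, 7734), (3, 6486),
  (7, 387), (7, 251), (4, 3877), (5, 3088), (5, 1300), (3, 1845), (8, 4557), (3, 6850), (3, 3600), (4, 4577), (0, 2263), (4, 4047),
  (0, 2180), (0, 2803), (4, 4671), (3, 1916), (3, 5162), (6, 653), (6, 3987), (7, 128), (3, 3234), (1, 4754), (7, 5529), (8, 532),
  (5, 7661), (6, 149), (7, 342), (8, 6564), (8, 114), (3, 3044), (0, 2740), (6, 6554), (0, 2350), (3, 6604), (3, 3563), (2, 1712),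
  (4, 3888), (5, 6981), (2, 2538), (0, 2205), (5, 2808), (3, 1574), (8, 3509), (8, 168), (4, 2254), (4, 4531), (7, 682), (3, 1898),
  (3, 3231), (8, 3165), (5, 1808), (8, 6239), (3, 3934), (3, 6859), (3, 7144), (4, 4674), (8, 5317), (8, 579), (4, 3202), (6, 417),
  (3, 2660), (5, 4444), (5, 7323), (3, 4063), (5, 2618), (5, 7237), (2, 2475), (8, 4817), (8, 5372), (7, 114), (4, 5246), (7, 239),
  (8, 1663), (6, 518), (0, 2264), (3, 1602), (6, 689), (8, 243), (7, 446), (5, 4033), (7, 631), (0, 2587), (8, 5107), (4, 4427),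
  (4, 4541), (8, 518), (4, 5911), (6, 330), (3, 3282), (7, 3425), (8, 3931), (6, 4194), (3, 3395), (7, 5310), (1, 6510), (6, 251),
  (4, 3949), (7, 706), (4, 2149), (8, 4974), (5, 6778), (3, 5411), (3, 3182), (8, 446), (3, 5929), (0, 2552), (5, 7389), (7, 273),
  (6, 613), (6, 805), (8, 3657), (8, 6522), (6, 2502), (7, 344), (4, 6059), (8, 5647), (0, 2236), (3, 3366), (8, 6764), (7, 6275),
  (4, 4496), (4, 3064), (5, 4298), (8, 5487), (8, 5072), (6, 672), (2, 2738), (6, 161), (4, 4419), (3, 985), (3, 2275), (3, 6528),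
  (5, 7315), (0, 2322), (1, 4748), (0, 5913), (6, 7050), (5, 6288), (6, 243), (8, 712), (4, 4005), (3, 1008), (4, 1682), (3, 3032),
  (5, 7270), (5, 4217), (0, 2222), (6, 395), (8, 403), (7, 601), (5, 1147), (8, 126), (3, 7158), (3, 6623), (2, 2471), (8, 570),
  (8, 631), (8, 3404), (8, 149), (3, 3294), (7, 498), (3, 1300), (4, 4773), (7, 4966), (2, 2666), (5, 7674), (7, 2491), (3, 4753),
  (4, 3831), (5, 7255), (3, 2541), (8, 4096), (6, 281), (6, 3808), (3, 2892), (4, 1654), (3, 4052), (3, 3876), (8, 7276), (7, 74),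
  (6, 6270), (3, 2865), (0, 2744), (8, 3473), (4, 6884), (5, 2592), (5, 787), (8, 1440), (2, 2217), (7, 369), (8, 6589), (7, 4240),
  (7, 149), (7, 7285), (4, 5442), (3, 2126), (8, 594), (0, 2582), (8, 74), (6, 5002), (5, 5958), (2, 1984), (0, 2277), (2, 2491),
  (4, 4806), (5, 7411), (1, 4213), (4, 5956), (3, 3215), (4, 6692), (3, 1341), (5, 876), (5, 4001), (6, 1568), (8, 4666), (8, 395),
  (6, 4610), (5, 4681), (3, 5609), (4, 1831), (8, 5031), (3, 3593), (8, 672), (5, 7645), (6, 3113), (7, 7473), (8, 1798), (3, 3056),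
  (0, 2316), (8, 3208), (4, 4600), (7, 7695), (3, 7296), (7, 2765), (8, 479), (3, 1502), (8, 4775), (3, 2172), (0, 2191), (6, 1321),
  (7, 383), (6, 168), (8, 588), (0, 2168), (3, 3196), (7, 6465), (4, 5964), (8, 6683), (8, 7399), (2, 5440), (8, 185), (1, 4110),
  (8, 5366), (8, 1716), (8, 101), (8, 6198), (8, 3218), (7, 579), (7, 5082), (3, 3585), (4, 4754), (0, 5131), (8, 5467), (6, 273),
  (2, 2483), (5, 2552), (3, 1887), (6, 665), (6, 3242), (6, 1037), (4, 4274), (3, 3086), (5, 7218), (0, 3325), (3, 3832), (3, 1471),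
  (0, 4950), (5, 7688), (0, 2551), (5, 4284), (5, 1008), (3, 6876), (2, 4960), (6, 140), (6, 383), (3, 3269), (6, 4167), (4, 4682),
  (7, 3725), (3, 6527), (3, 1057), (4, 4560), (8, 3257), (4, 800), (8, 369), (5, 7364), (3, 2950), (5, 2830), (7, 1783), (4, 4449),
  (4, 4180), (3, 7507), (8, 251), (8, 4533), (5, 2222), (3, 5894), (4, 6862), (3, 6772), (7, 3624), (7, 197), (8, 567), (5, 4368)]

def m11certB : List (List (ℕ × ℕ)) := [
  [(6602, 11), (2589, 1291)],
  [(0, 4), (144, 443), (6480, 5188)],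
  [(539, 183), (1297, 6618)],
  [(359, 83), (6501, 3445)],
  [(4, 92), (7251, 5462)],
  [(6, 136), (3667, 6233)],
  [(0, 720)],
  [(99, 1524), (5708, 6646)],
  [(5581, 1471), (361, 4525)]]

def m11certC1 : List (List (ℕ × ℕ)) := [
  [],
  [(0, 720)],
  [(59, 746), (5767, 4161)],
  [(0, 720), (0, 720)],
  [(5386, 950), (5884, 7482)],
  [(2880, 3600)],
  [(415, 4320)],
  [(0, 720), (261, 3480)],
  [(71, 742), (679, 7264)],
  [(4920, 6480)],
  [(4391, 988), (406, 4508)]]

def m11certC2 : List (List (ℕ × ℕ)) := [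
  [],
  [(48, 728), (646, 6634)],
  [(60, 818), (2135, 7528)],
  [(35, 727), (699, 7312)],
  [(31, 721), (2118, 3568)],
  [(64, 885), (5721, 5364)],
  [(44, 826), (6608, 6279)],
  [(55, 839), (2448, 5347)],
  [(0, 720), (483, 5616)],
  [(31, 721), (261, 3480)]]

def m11certC3 : List (List (ℕ × ℕ)) := [
  [],
  [(29, 799), (2910, 2401)],
  [(44, 826), (4444, 6340)],
  [(31, 721), (5463, 2981)],
  [(31, 721), (286, 2969)],
  [(31, 721), (4486, 3011)],
  [(29, 799), (201, 2438)],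
  [(0, 720), (463, 5096)],
  [(29, 799), (5795, 2445)]]

def m11certC4 : List (List (ℕ × ℕ)) := [
  [],
  [(62, 907), (84, 1756)],
  [(59, 746), (4358, 6384)],
  [(48, 728), (578, 7032)],
  [(182, 2193), (691, 7265)],
  [(18, 777), (4534, 3743)],
  [(5180, 850), (606, 6997)],
  [(71, 742), (394, 4972)]]


/-- every pair `(h, y)` has `h * src = y * h`. -/
def m11conjOK (src : ℕ) (pairs : List (ℕ × ℕ)) : Bool :=
  pairs.all (fun p => m11same [p.1, src] [p.2, p.1])

theorem m11certA_length : m11certA.length = 7920 := by decide +kernel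

theorem m11certA_ok : m11certA.zipIdx.all (fun p => (p.2 == 0) ||
    (decide (p.1.1 < 9) && m11same [p.1.2, p.2] [m11reps.getD p.1.1 0, p.1.2])) = true := by
  decide +kernel

theorem m11certB_ok : (List.range 9).all (fun c =>
    m11conjOK (m11reps.getD c 0) (m11certB.getD c []) &&
      m11same ((m11certB.getD c []).map Prod.snd) [m11r11]) = true := by
  decide +kernel

/-- the tables of a level are products of conjugates of the element of order 11. -/
def m11chkC (lev : List (List ℕ × List ℕ × List ℕ)) (cert : List (List (ℕ × ℕ))) : Bool :=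
  decide (lev.length = cert.length) &&
  (lev.zip cert).all (fun q => m11conjOK m11r11 q.2 &&
    (q.2.map Prod.snd).all (fun e => decide (e < 7920)) &&
    [1, 2, 3, 4].all (fun i => m11Wact (q.2.map Prod.snd) i == q.1.1.getD i 0))

theorem m11certC1_ok : m11chkC m11lev1 m11certC1 = true := by decide +kernel
theorem m11certC2_ok : m11chkC m11lev2 m11certC2 = true := by decide +kernel
theorem m11certC3_ok : m11chkC m11lev3 m11certC3 = true := by decide +kernel
theorem m11certC4_ok : m11chkC m11lev4 m11certC4 = true := by decide +kernel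

theorem m11r11_ne : m11act m11r11 1 ≠ 1 := by decide +kernel
theorem m11r11_lt : m11r11 < 7920 := by decide
theorem m11act_zero : ∀ i ∈ [1, 2, 3, 4], m11act 0 i = i := by decide +kernel


end Cfsg.Agent.Lib.Helper93
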