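import Cfsg.Agent.Lib.Helper93.M11Data

/-!
The stabiliser `Cfsg.Spor.M12` of the dodecad of squares is 3-transitive on the dodecad: tables
moving `0` to every point of the dodecad, together with the first two levels of the chain of
`M11`.
-/

set_option autoImplicit false

namespace Cfsg.Agent.Lib.Helper93

open Cfsg Cfsg.Agent.Lib.Helper10
open scoped Pointwise

/-- tables of elements of the stabiliser of the dodecad of squares moving `0` to each of its points. -/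
def m12lev0 : List (List ℕ × List ℕ × List ℕ) := [
  ([0, 1, 2, 3, 4, 5, 6, 7, 8, 9, 10, 11, 12, 13, 14, 15, 16, 17, 18, 19, 20, 21, 22, 23],
   [0, 1, 2, 3, 4, 5, 6, 7, 8, 9, 10, 11, 12, 13, 14, 15, 16, 17, 18, 19, 20, 21, 22, 23],
   [340831, 681662, 1363324, 2726648, 5453296, 2517985, 5035970, 1683333, 3366666, 6733332, 5078057, 1767507, 3535014, 7070028, 5751449, 3114291, 6228582, 4068557, 8137114, 7885621, 7382635, 6376663, 4364719, 16777215]),
  ([1, 2, 6, 8, 18, 7, 16, 22, 0, 9, 19, 5, 13, 3, 10, 14, 4, 11, 12, 20, 17, 21, 23, 15],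
   [8, 0, 1, 13, 16, 11, 2, 5, 3, 9, 14, 17, 18, 12, 15, 23, 6, 20, 4, 10, 19, 21, 7, 22],
   [340831, 6033356, 1005025, 7693232, 13576345, 6364843, 14251525, 5915259, 2764597, 11303528, 9975226, 1535022, 6452444, 11619673, 13000466, 3954839, 9640692, 8075586, 16126253, 11937475, 11223950, 15533174, 12610023, 16777215]),
  ([2, 9, 16, 4, 8, 11, 18, 14, 0, 12, 19, 10, 13, 1, 22, 15, 6, 21, 3, 7, 20, 17, 23, 5],
   [8, 13, 0, 18, 3, 23, 16, 19, 4, 1, 11, 5, 9, 12, 7, 15, 2, 21, 6, 10, 20, 17, 14, 22],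
   [340831, 6904722, 6130969, 458192, 12347715, 6708239, 13431433, 1692871, 8009297, 11253002, 13118686, 7645062, 5499466, 15171795, 15782236, 2788301, 11869896, 4153500, 9586587, 13842821, 10394134, 13584196, 10612245, 16777215]),
  ([3, 2, 1, 6, 12, 5, 4, 21, 0, 18, 17, 15, 8, 13, 10, 11, 9, 20, 16, 22, 7, 14, 23, 19],
   [8, 2, 1, 0, 6, 5, 3, 20, 12, 16, 14, 15, 4, 13, 21, 11, 18, 10, 9, 23, 17, 7, 19, 22],
   [340831, 7746662, 236787, 6609776, 11678641, 3531833, 15142165, 6728331, 1492933, 9959682, 12822376, 5291420, 2191270, 13659731, 11869896, 5462573, 13992630, 7553498, 14807237, 12866987, 8808700, 10671646, 11569519, 16777215]),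
  ([4, 18, 9, 8, 16, 22, 13, 5, 0, 1, 15, 20, 3, 2, 21, 7, 12, 19, 6, 14, 17, 11, 23, 10],
   [8, 9, 13, 12, 0, 7, 18, 15, 3, 2, 23, 21, 16, 6, 19, 10, 4, 20, 1, 17, 11, 14, 5, 22],
   [340831, 7193382, 7578561, 5339562, 13348909, 7874679, 10805483, 1233591, 4102411, 10062542, 15782236, 4153500, 6691564, 11041669, 11211250, 5101777, 14578242, 715640, 9914725, 14895643, 13019542, 11909680, 14418873, 16777215]),
  ([6, 4, 2, 12, 1, 10, 8, 19, 0, 13, 11, 7, 16, 3, 20, 22, 18, 17, 9, 21, 14, 5, 23, 15],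
   [8, 4, 2, 13, 1, 21, 0, 11, 6, 18, 5, 10, 3, 9, 20, 23, 12, 17, 16, 7, 14, 19, 15, 22],
   [340831, 3816478, 5267335, 7157154, 9391371, 1714153, 16329489, 7104717, 1538225, 12790446, 11869896, 7553498, 6112828, 16126253, 14578242, 6688371, 10905492, 2841444, 11031227, 11625575, 12615032, 10226166, 13309141, 16777215]),
  ([8, 12, 18, 2, 16, 10, 1, 14, 9, 0, 15, 23, 6, 4, 17, 5, 13, 7, 3, 21, 19, 20, 11, 22],
   [9, 6, 3, 18, 13, 15, 12, 17, 0, 8, 5, 22, 1, 16, 7, 10, 4, 14, 2, 20, 21, 19, 23, 11],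
   [340831, 2610325, 9405998, 11625575, 650962, 9586587, 2284139, 11330353, 10138309, 9799929, 10661212, 11211250, 1995896, 3549878, 747949, 3258280, 11287691, 3981774, 12147228, 4132673, 1613111, 9959682, 8675300, 16777215]),
  ([9, 6, 3, 18, 13, 15, 12, 17, 0, 8, 5, 22, 1, 16, 7, 10, 4, 14, 2, 20, 21, 19, 23, 11],
   [8, 12, 18, 2, 16, 10, 1, 14, 9, 0, 15, 23, 6, 4, 17, 5, 13, 7, 3, 21, 19, 20, 11, 22],
   [340831, 1565160, 6599853, 6206738, 10743859, 4969349, 9573863, 7538489, 7094771, 13198638, 13992630, 7435970, 2852062, 10310809, 10905492, 1631861, 15782236, 4084270, 16719941, 12100491, 11376480, 13251320, 13026891, 16777215]),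
  ([12, 1, 3, 4, 9, 15, 8, 11, 0, 16, 21, 14, 18, 13, 5, 7, 2, 17, 6, 10, 20, 22, 23, 19],
   [8, 1, 16, 2, 3, 14, 18, 15, 6, 4, 19, 7, 0, 13, 11, 5, 9, 17, 12, 23, 20, 10, 21, 22],
   [340831, 2338362, 3195897, 4575124, 11971333, 4454753, 10816995, 3243149, 7815223, 15164104, 10810484, 1472418, 5548270, 12723645, 9640692, 6461127, 9684302, 7740760, 13659731, 13997609, 15839634, 14703406, 8837275, 16777215]),
  ([13, 1, 12, 3, 6, 14, 2, 22, 0, 9, 20, 19, 4, 18, 5, 17, 16, 10, 8, 11, 15, 7, 23, 21],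
   [8, 1, 6, 3, 12, 14, 4, 21, 18, 9, 17, 19, 2, 0, 5, 20, 16, 15, 13, 11, 10, 23, 7, 22],
   [340831, 5529194, 1757549, 4934364, 14009429, 5007269, 13765431, 6273537, 1672891, 10360784, 10316088, 961654, 4706738, 8854701, 12822376, 1273283, 9035526, 5291420, 13404619, 8452849, 9888398, 14233830, 13267995, 16777215]),
  ([16, 3, 13, 9, 18, 19, 6, 20, 0, 4, 14, 11, 12, 8, 15, 5, 2, 7, 1, 10, 22, 21, 23, 17],
   [8, 18, 16, 1, 9, 15, 6, 17, 13, 3, 19, 11, 12, 2, 10, 14, 0, 23, 4, 5, 7, 21, 20, 22],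
   [340831, 1894296, 5040739, 3939956, 14438853, 3770835, 9491579, 5336373, 6347421, 10779058, 9035526, 4562408, 7909678, 10528741, 13992630, 2966703, 13118686, 7435970, 15994635, 15578129, 15287160, 11921484, 10042025, 16777215]),
  ([18, 12, 6, 13, 3, 7, 1, 11, 0, 16, 10, 21, 2, 9, 14, 20, 8, 5, 4, 17, 19, 15, 23, 22],
   [8, 6, 12, 4, 18, 17, 2, 5, 16, 13, 10, 7, 1, 3, 14, 21, 9, 19, 0, 20, 15, 11, 23, 22],
   [340831, 229096, 3695835, 3385742, 8916911, 2476723, 9657367, 4132673, 2749733, 11634300, 10905492, 4084270, 1629140, 9626467, 10316088, 1480121, 11211250, 961654, 11188761, 9421005, 10335874, 10804554, 11811045, 16777215])]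

theorem perm_apply_inv {α : Type*} (f : Equiv.Perm α) (x : α) : f (f⁻¹ x) = x := by
  rw [Equiv.Perm.coe_inv, Equiv.apply_symm_apply]

theorem m12_sift0 : siftOk sqMask [] 0 m12lev0 = true := by decide +kernel

/-- the tables of a level reach every allowed index. -/
theorem sift_cover {S : ℕ} {F : List ℕ} {b : ℕ} {T : List (List ℕ × List ℕ × List ℕ)}
    (h : siftOk S F b T = true) {a : ℕ} (ha : a < 24) (hS : S.testBit a = true) (hF : a ∉ F) :
    ∃ x ∈ T, x.1.getD b 0 = a := by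
  simp only [siftOk, Bool.and_eq_true, List.all_eq_true] at h
  have hc := h.2 a (List.mem_range.mpr ha)
  have hF' : F.contains a = false := by
    rw [Bool.eq_false_iff]
    intro hcon
    exact hF (by simpa using hcon)
  rw [hS, hF'] at hc
  simp only [Bool.not_false, Bool.and_self, Bool.not_true, Bool.false_or, List.any_eq_true,
    beq_iff_eq] at hc
  exact hc

theorem mem_M12_iff {g : Equiv.Perm GolayPt} : g ∈ Spor.M12 ↔ g ∈ stabG sqMask [] := by
  unfold Spor.M12 stabG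
  rw [Subgroup.mem_inf, Subgroup.mem_inf, fixG_nil, squareDodecad_eq]

theorem mem_sq_iff (p : GolayPt) : p ∈ Spor.squareDodecad ↔ sqMask.testBit (idx p) = true := by
  rw [squareDodecad_eq, mem_support_vec]

theorem stabG_le_M12 (F : List ℕ) : stabG sqMask F ≤ Spor.M12 := by
  intro g hg
  rw [mem_M12_iff]
  exact stabG_anti' hg
where
  stabG_anti' {g : Equiv.Perm GolayPt} (hg : g ∈ stabG sqMask F) : g ∈ stabG sqMask [] := by
    rw [mem_stabG] at hg ⊢
    exact ⟨hg.1, hg.2.1, fun i hi => absurd hi (by simp)⟩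

theorem mem_sq_of_M12 {g : Equiv.Perm GolayPt} (hg : g ∈ Spor.M12) (p : GolayPt) :
    g p ∈ Spor.squareDodecad ↔ p ∈ Spor.squareDodecad := by
  rw [mem_M12_iff, mem_stabG] at hg
  rw [mem_sq_iff, mem_sq_iff, hg.2.1 p]

/-- `M12` is 3-transitive on the dodecad of squares. -/
theorem m12_three (a b e : GolayPt) (ha : a ∈ Spor.squareDodecad) (hb : b ∈ Spor.squareDodecad)
    (he : e ∈ Spor.squareDodecad) (hab : a ≠ b) (hae : a ≠ e) (hbe : b ≠ e) :
    ∃ t ∈ Spor.M12, t (pt 0) = a ∧ t (pt 1) = b ∧ t (pt 2) = e := by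
  -- level 0
  obtain ⟨x0, hx0, e0⟩ := sift_cover m12_sift0 (idx_lt a) ((mem_sq_iff a).mp ha) (by simp)
  obtain ⟨ok0, m0⟩ := sift_mem m12_sift0 hx0
  have hm0 : tabPerm x0.1 x0.2.1 ∈ Spor.M12 := stabG_le_M12 _ m0
  have u0 : tabPerm x0.1 x0.2.1 (pt 0) = a := by
    apply idx_injective
    rw [idx_tabPerm ok0, idx_pt (by norm_num), e0]
  -- level 1
  set b' := (tabPerm x0.1 x0.2.1)⁻¹ b with hb'
  have hb'D : b' ∈ Spor.squareDodecad := (mem_sq_of_M12 (Spor.M12.inv_mem hm0) b).mpr hb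
  have hb'0 : idx b' ∉ [0] := by
    intro h
    rw [List.mem_singleton] at h
    have : b' = pt 0 := by rw [← pt_idx b', h]
    rw [hb', Equiv.Perm.inv_eq_iff_eq, u0] at this
    exact hab this.symm
  obtain ⟨x1, hx1, e1⟩ := sift_cover m11_sift1 (idx_lt b') ((mem_sq_iff b').mp hb'D) hb'0
  obtain ⟨ok1, m1⟩ := sift_mem m11_sift1 hx1
  have hm1 : tabPerm x1.1 x1.2.1 ∈ Spor.M12 := stabG_le_M12 _ m1
  have u1 : tabPerm x1.1 x1.2.1 (pt 1) = b' := by
    apply idx_injective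
    rw [idx_tabPerm ok1, idx_pt (by norm_num), e1]
  have f1 : tabPerm x1.1 x1.2.1 (pt 0) = pt 0 := (mem_stabG.mp m1).2.2 0 (by simp)
  -- level 2
  set e' := (tabPerm x1.1 x1.2.1)⁻¹ ((tabPerm x0.1 x0.2.1)⁻¹ e) with he'
  have he'D : e' ∈ Spor.squareDodecad :=
    (mem_sq_of_M12 (Spor.M12.inv_mem hm1) _).mpr ((mem_sq_of_M12 (Spor.M12.inv_mem hm0) e).mpr he)
  have he'F : idx e' ∉ [1, 0] := by
    intro h
    simp only [List.mem_cons, List.not_mem_nil, or_false] at h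
    rcases h with h | h
    · have : e' = pt 1 := by rw [← pt_idx e', h]
      rw [he', Equiv.Perm.inv_eq_iff_eq, u1, hb', Equiv.Perm.inv_eq_iff_eq,
        perm_apply_inv] at this
      exact hbe this.symm
    · have : e' = pt 0 := by rw [← pt_idx e', h]
      rw [he', Equiv.Perm.inv_eq_iff_eq, f1, Equiv.Perm.inv_eq_iff_eq, u0] at this
      exact hae this.symm
  obtain ⟨x2, hx2, e2⟩ := sift_cover m11_sift2 (idx_lt e') ((mem_sq_iff e').mp he'D) he'F
  obtain ⟨ok2, m2⟩ := sift_mem m11_sift2 hx2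
  have hm2 : tabPerm x2.1 x2.2.1 ∈ Spor.M12 := stabG_le_M12 _ m2
  have u2 : tabPerm x2.1 x2.2.1 (pt 2) = e' := by
    apply idx_injective
    rw [idx_tabPerm ok2, idx_pt (by norm_num), e2]
  have f20 : tabPerm x2.1 x2.2.1 (pt 0) = pt 0 := (mem_stabG.mp m2).2.2 0 (by simp)
  have f21 : tabPerm x2.1 x2.2.1 (pt 1) = pt 1 := (mem_stabG.mp m2).2.2 1 (by simp)
  refine ⟨tabPerm x0.1 x0.2.1 * tabPerm x1.1 x1.2.1 * tabPerm x2.1 x2.2.1,
    Spor.M12.mul_mem (Spor.M12.mul_mem hm0 hm1) hm2, ?_, ?_, ?_⟩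
  · simp only [Equiv.Perm.mul_apply, f20, f1, u0]
  · simp only [Equiv.Perm.mul_apply, f21, u1, hb', perm_apply_inv]
  · simp only [Equiv.Perm.mul_apply, u2, he', perm_apply_inv]

theorem some_zero_eq : (some 0 : GolayPt) = pt 0 := by decide

/-- `M12` is transitive on the dodecad of squares. -/
theorem m12_trans0 (q : GolayPt) (hq : q ∈ Spor.squareDodecad) :
    ∃ t ∈ Spor.M12, t (some 0) = q := by
  obtain ⟨x0, hx0, e0⟩ := sift_cover m12_sift0 (idx_lt q) ((mem_sq_iff q).mp hq) (by simp)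
  obtain ⟨ok0, m0⟩ := sift_mem m12_sift0 hx0
  refine ⟨tabPerm x0.1 x0.2.1, stabG_le_M12 _ m0, ?_⟩
  rw [some_zero_eq]
  apply idx_injective
  rw [idx_tabPerm ok0, idx_pt (by norm_num), e0]

end Cfsg.Agent.Lib.Helper93
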