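import Cfsg.Agent.Lib.Helper93.M21SimpleData

/-!
The stabiliser of `0, 1, 2` in `Cfsg.M24` is simple, from the certificates of `M21SimpleData`.
-/

set_option autoImplicit false

namespace Cfsg.Agent.Lib.Helper93

open Cfsg Cfsg.Agent.Lib.Helper10
open scoped Pointwise

/-- the stabiliser of `0, 1, 2`. -/
abbrev m21G : Subgroup (Equiv.Perm GolayPt) := fixG [2, 1, 0]

/-! ### Simplicity -/

section
variable (N : Subgroup (Equiv.Perm GolayPt))
  (hconj : ∀ h ∈ m21G, ∀ n ∈ N, h * n * h⁻¹ ∈ N)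
include hconj

theorem m21_conj_mem {src : ℕ} {pairs : List (ℕ × ℕ)} (hs : m21el src ∈ N)
    (hok : m21conjOK src pairs = true) : ∀ p ∈ pairs, m21el p.2 ∈ N := by
  intro p hp
  have h := (List.all_eq_true.mp hok) p hp
  have hlt : p.1 < 20160 := by
    simp only [m21same, Bool.and_eq_true, List.all_eq_true, decide_eq_true_eq] at h
    exact h.1.1 p.1 (by simp)
  have e := m21W_eq_of_same h
  rw [m21W_pair, m21W_pair] at e
  have : m21el p.2 = m21el p.1 * m21el src * (m21el p.1)⁻¹ := by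
    rw [e]; group
  rw [this]
  exact hconj _ (m21el_mem hlt) _ hs

theorem m21_prod_mem {src : ℕ} {pairs : List (ℕ × ℕ)} (hs : m21el src ∈ N)
    (hok : m21conjOK src pairs = true) : m21W (pairs.map Prod.snd) ∈ N := by
  unfold m21W
  apply Subgroup.list_prod_mem
  intro x hx
  simp only [List.mem_map] at hx
  obtain ⟨e, ⟨p, hp, rfl⟩, rfl⟩ := hx
  exact m21_conj_mem N hconj hs hok p hp

theorem m21_r11_mem {e : ℕ} (he : e < 20160) (he0 : e ≠ 0) (hN : m21el e ∈ N) :
    m21el m21hub ∈ N := by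
  have hlen : e < m21certA.length := by rw [m21certA_length]; exact he
  have hmem : (m21certA[e], e) ∈ m21certA.zipIdx := by
    rw [List.mem_zipIdx_iff_getElem?]
    simp [List.getElem?_eq_getElem hlen]
  have h := (List.all_eq_true.mp m21certA_ok) _ hmem
  simp only [Bool.or_eq_true, beq_iff_eq, Bool.and_eq_true, decide_eq_true_eq] at h
  rcases h with h | ⟨hc, h⟩
  · exact absurd h he0
  -- the representative lies in N
  set c := (m21certA[e]).1 with hcdef
  set hh := (m21certA[e]).2 with hhdef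
  have hlt : hh < 20160 := by
    simp only [m21same, Bool.and_eq_true, List.all_eq_true, decide_eq_true_eq] at h
    exact h.1.1 hh (by simp)
  have e1 := m21W_eq_of_same h
  rw [m21W_pair, m21W_pair] at e1
  have hrep : m21el (m21reps.getD c 0) ∈ N := by
    have : m21el (m21reps.getD c 0) = m21el hh * m21el e * (m21el hh)⁻¹ := by
      rw [e1]; group
    rw [this]
    exact hconj _ (m21el_mem hlt) _ hN
  have hB := (List.all_eq_true.mp m21certB_ok) c (List.mem_range.mpr hc)
  rw [Bool.and_eq_true] at hB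
  have hp := m21_prod_mem N hconj hrep hB.1
  rw [m21W_eq_of_same hB.2, m21W_singleton] at hp
  exact hp

theorem m21_lev_mem (hN : m21el m21hub ∈ N) {lev : List (List ℕ × List ℕ × List ℕ)}
    {cert : List (List (ℕ × ℕ))} (hc : m21chkC lev cert = true)
    (hlev : ∀ x ∈ lev, tabOk x.1 x.2.1 = true ∧ tabPerm x.1 x.2.1 ∈ m21G)
    {x : List ℕ × List ℕ × List ℕ} (hx : x ∈ lev) : tabPerm x.1 x.2.1 ∈ N := by
  unfold m21chkC at hc
  rw [Bool.and_eq_true, decide_eq_true_eq] at hc
  obtain ⟨hlen, hall⟩ := hc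
  obtain ⟨i, hi, rfl⟩ := List.getElem_of_mem hx
  have hi' : i < cert.length := by rw [← hlen]; exact hi
  have hmem : (lev[i], cert[i]) ∈ lev.zip cert := by
    rw [List.mem_iff_getElem]
    refine ⟨i, by simp [hi, hi'], by simp⟩
  have h := (List.all_eq_true.mp hall) _ hmem
  simp only [Bool.and_eq_true, List.all_eq_true, decide_eq_true_eq, beq_iff_eq] at h
  obtain ⟨⟨h1, h2⟩, h3⟩ := h
  have hp := m21_prod_mem N hconj hN h1
  have heq : m21W (cert[i].map Prod.snd) = tabPerm lev[i].1 lev[i].2.1 := by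
    apply m21_eq_of_base (m21W_mem _ h2) (hlev _ hx).2
    intro j hj
    apply idx_injective
    have hj24 : j < 24 := by
      simp only [List.mem_cons, List.not_mem_nil, or_false] at hj
      omega
    rw [idx_m21W _ h2, idx_tabPerm (hlev _ hx).1, idx_pt hj24, ← (m21WactP_eq _ h2 hj24).1]
    exact h3 j hj
  rw [← heq]
  exact hp

end

/-- a nontrivial subgroup of the group closed under conjugation by the group is the group. -/
theorem m21_normal_eq (N : Subgroup (Equiv.Perm GolayPt)) (hle : N ≤ m21G)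
    (hconj : ∀ h ∈ m21G, ∀ n ∈ N, h * n * h⁻¹ ∈ N) (hne : N ≠ ⊥) : N = m21G := by
  apply le_antisymm hle
  obtain ⟨g, hg1⟩ := (Subgroup.ne_bot_iff_exists_ne_one).mp hne
  obtain ⟨e, he, hge⟩ := m21_surj (hle g.2)
  have he0 : e ≠ 0 := by
    rintro rfl
    apply hg1
    apply Subtype.ext
    rw [hge]
    show m21el 0 = 1
    apply m21_eq_of_base (m21el_mem (by norm_num)) (Subgroup.one_mem _)
    intro i hi
    apply idx_injective
    have hi24 : i < 24 := by
      simp only [List.mem_cons, List.not_mem_nil, or_false] at hi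
      omega
    rw [idx_m21el (by norm_num), idx_pt hi24, ← m21actP_eq (by norm_num) hi24, m21act_zero i hi,
      Equiv.Perm.one_apply, idx_pt hi24]
  have hN : m21el e ∈ N := by rw [← hge]; exact g.2
  have h11 := m21_r11_mem N hconj he he0 hN
  intro x hx
  obtain ⟨x1, hx1, x2, hx2, x3, hx3, x4, hx4, rfl⟩ := m21_factor hx
  have l1 := m21_lev_mem N hconj h11 m21certC1_ok
    (fun x hx => ⟨(sift_mem m21_sift1 hx).1, fixG_of_stabG (by simp) (sift_mem m21_sift1 hx).2⟩) hx1
  have l2 := m21_lev_mem N hconj h11 m21certC2_ok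
    (fun x hx => ⟨(sift_mem m21_sift2 hx).1, fixG_of_stabG (by simp) (sift_mem m21_sift2 hx).2⟩) hx2
  have l3 := m21_lev_mem N hconj h11 m21certC3_ok
    (fun x hx => ⟨(sift_mem m21_sift3 hx).1, fixG_of_stabG (by simp) (sift_mem m21_sift3 hx).2⟩) hx3
  have l4 := m21_lev_mem N hconj h11 m21certC4_ok
    (fun x hx => ⟨(sift_mem m21_sift4 hx).1, fixG_of_stabG (by simp) (sift_mem m21_sift4 hx).2⟩) hx4
  exact N.mul_mem (N.mul_mem (N.mul_mem l1 l2) l3) l4

theorem m21_nontrivial : Nontrivial ↥m21G := by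
  refine ⟨⟨⟨m21el m21hub, m21el_mem m21hub_lt⟩, 1, ?_⟩⟩
  intro h
  have h1 : m21el m21hub = 1 := congrArg Subtype.val h
  have h2 := idx_m21el m21hub_lt (pt 3)
  rw [h1, idx_pt (by norm_num), ← m21actP_eq m21hub_lt (by norm_num)] at h2
  exact m21hub_ne h2.symm

/-- the stabiliser of `0, 1, 2` in `M24` is simple. -/
theorem m21_isSimpleGroup : IsSimpleGroup ↥m21G := by
  have := m21_nontrivial
  refine ⟨fun K hK => ?_⟩
  by_cases hbot : K = ⊥
  · exact Or.inl hbot
  right
  have hle : K.map (Subgroup.subtype m21G) ≤ m21G := by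
    rintro _ ⟨k, _, rfl⟩
    exact k.2
  have hconj : ∀ h ∈ m21G, ∀ n ∈ K.map (Subgroup.subtype m21G), h * n * h⁻¹ ∈ K.map (Subgroup.subtype m21G) := by
    rintro h hh _ ⟨k, hk, rfl⟩
    exact ⟨⟨h, hh⟩ * k * ⟨h, hh⟩⁻¹, hK.conj_mem k hk ⟨h, hh⟩, rfl⟩
  have hne : K.map (Subgroup.subtype m21G) ≠ ⊥ := by
    intro h
    apply hbot
    rw [Subgroup.map_eq_bot_iff_of_injective _ (Subgroup.subtype_injective _)] at h
    exact h
  have heq := m21_normal_eq _ hle hconj hne
  rw [eq_top_iff]
  intro k _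
  have : (k : Equiv.Perm GolayPt) ∈ K.map (Subgroup.subtype m21G) := by rw [heq]; exact k.2
  obtain ⟨k', hk', e⟩ := this
  have : k' = k := Subtype.ext e
  rw [← this]
  exact hk'

end Cfsg.Agent.Lib.Helper93
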