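import Cfsg.Agent.Lib.Helper93.Chain

/-!
A stabiliser chain for `Cfsg.M24` along the points with indices `0, 1, ..., 6`: twelve strong
generators (tables, inverse tables, images of the 24 generating words of the code), and for every
level words carrying the base point to each point of its orbit. Orbit lengths 24, 23, 22, 21, 20,
16, 3, whence `244823040 ≤ |M24|`.
-/

set_option autoImplicit false

namespace Cfsg.Agent.Lib.Helper93

open Cfsg Cfsg.Agent.Lib.Helper10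

def sgTab : List (List ℕ × List ℕ) := [
  ([1, 2, 3, 4, 5, 6, 7, 8, 9, 10, 11, 12, 13, 14, 15, 16, 17, 18, 19, 20, 21, 22, 0, 23], [22, 0, 1, 2, 3, 4, 5, 6, 7, 8, 9, 10, 11, 12, 13, 14, 15, 16, 17, 18, 19, 20, 21, 23]),
  ([0, 2, 4, 6, 8, 10, 12, 14, 16, 18, 20, 22, 1, 3, 5, 7, 9, 11, 13, 15, 17, 19, 21, 23], [0, 12, 1, 13, 2, 14, 3, 15, 4, 16, 5, 17, 6, 18, 7, 19, 8, 20, 9, 21, 10, 22, 11, 23]),
  ([23, 22, 11, 15, 17, 9, 19, 13, 20, 5, 16, 2, 21, 7, 18, 3, 10, 4, 14, 6, 8, 12, 1, 0], [23, 22, 11, 15, 17, 9, 19, 13, 20, 5, 16, 2, 21, 7, 18, 3, 10, 4, 14, 6, 8, 12, 1, 0]),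
  ([0, 18, 6, 3, 2, 21, 1, 5, 16, 12, 7, 19, 8, 9, 17, 15, 13, 11, 4, 22, 10, 20, 14, 23], [0, 6, 4, 3, 18, 7, 2, 10, 12, 13, 20, 17, 9, 16, 22, 15, 8, 14, 1, 11, 21, 5, 19, 23]),
  ([0, 1, 8, 4, 18, 5, 9, 22, 6, 16, 17, 10, 3, 12, 15, 20, 2, 7, 13, 14, 21, 19, 11, 23], [0, 1, 16, 12, 3, 5, 8, 17, 2, 6, 11, 22, 13, 18, 19, 14, 9, 10, 4, 21, 15, 20, 7, 23]),
  ([0, 23, 21, 10, 14, 16, 8, 18, 12, 19, 4, 15, 1, 20, 6, 17, 2, 9, 3, 13, 5, 7, 11, 22], [0, 12, 16, 18, 10, 20, 14, 21, 6, 17, 3, 22, 8, 19, 4, 11, 5, 15, 7, 9, 13, 2, 23, 1]),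
  ([0, 1, 2, 3, 19, 22, 5, 15, 4, 17, 16, 14, 8, 21, 9, 10, 7, 11, 20, 12, 18, 13, 23, 6], [0, 1, 2, 3, 8, 6, 23, 16, 12, 14, 15, 17, 19, 21, 11, 7, 10, 9, 20, 4, 18, 13, 5, 22]),
  ([0, 1, 2, 4, 12, 11, 5, 10, 6, 18, 3, 19, 7, 16, 15, 20, 14, 17, 23, 8, 13, 22, 9, 21], [0, 1, 2, 10, 3, 6, 8, 12, 19, 22, 7, 5, 4, 20, 16, 14, 13, 17, 9, 11, 15, 23, 21, 18]),
  ([0, 1, 2, 3, 10, 21, 9, 4, 23, 22, 7, 11, 12, 16, 20, 14, 17, 13, 8, 5, 15, 19, 6, 18], [0, 1, 2, 3, 7, 19, 22, 10, 18, 6, 4, 11, 12, 17, 15, 20, 13, 16, 23, 21, 14, 5, 9, 8]),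
  ([0, 1, 2, 3, 4, 18, 22, 10, 23, 9, 12, 6, 7, 15, 13, 14, 17, 20, 19, 5, 16, 8, 11, 21], [0, 1, 2, 3, 4, 19, 11, 12, 21, 9, 7, 22, 10, 14, 15, 13, 20, 16, 5, 18, 17, 23, 6, 8]),
  ([0, 1, 2, 3, 4, 17, 22, 7, 16, 11, 10, 9, 12, 20, 23, 19, 8, 5, 21, 15, 13, 18, 6, 14], [0, 1, 2, 3, 4, 17, 22, 7, 16, 11, 10, 9, 12, 20, 23, 19, 8, 5, 21, 15, 13, 18, 6, 14]),
  ([0, 1, 2, 3, 4, 5, 16, 10, 13, 19, 12, 8, 7, 11, 23, 20, 21, 14, 9, 18, 22, 6, 15, 17], [0, 1, 2, 3, 4, 5, 21, 12, 11, 18, 7, 13, 10, 8, 17, 22, 6, 23, 19, 9, 15, 16, 20, 14])]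

def sgImg : List (List ℕ) := [
  [681662, 1363324, 2726648, 5453296, 2517985, 5035970, 1683333, 3366666, 6733332, 5078057, 1767507, 3535014, 7070028, 5751449, 3114291, 6228582, 4068557, 8137114, 7885621, 7382635, 6376663, 4364719, 340831, 16777215],
  [340831, 1363324, 5453296, 5035970, 3366666, 5078057, 3535014, 5751449, 6228582, 8137114, 7382635, 4364719, 681662, 2726648, 2517985, 1683333, 6733332, 1767507, 7070028, 3114291, 4068557, 7885621, 6376663, 16777215],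
  [16436384, 4696816, 2083596, 2799212, 3876754, 10252980, 8216682, 9514476, 7705908, 2316478, 10864326, 15598044, 6586248, 1875162, 8840506, 13850200, 4738934, 11139408, 5435846, 11934562, 13210538, 13581318, 15772190, 16777215],
  [340831, 6691564, 2852062, 7909678, 2191270, 3873331, 4706738, 4830945, 2047368, 1629140, 6972313, 5148423, 3581808, 5499466, 195645, 7710869, 7109714, 5246459, 6112828, 7558469, 3462795, 1990887, 3000681, 16777215],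
  [340831, 4706738, 3581808, 6112828, 6691564, 4830945, 5499466, 7558469, 2852062, 2047368, 195645, 3462795, 7909678, 1629140, 7710869, 1990887, 2191270, 6972313, 7109714, 3000681, 3873331, 5148423, 5246459, 16777215],
  [12080399, 12412496, 2348408, 1041798, 1399606, 1938377, 9320794, 4108341, 8951542, 3852954, 1158239, 9626467, 11993326, 3293124, 937581, 8614557, 11119404, 2369467, 9764008, 2717923, 10161585, 10799573, 10984963, 16777215],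
  [3801535, 7051790, 6112828, 4912552, 15567280, 7531057, 9672498, 2610325, 486298, 12283140, 15815561, 2907939, 7645062, 10501820, 10391177, 5848211, 14047398, 1423661, 12382234, 13513493, 15148075, 9036455, 12635423, 16777215],
  [8737015, 498974, 10008700, 6053296, 229096, 13601889, 9734122, 1926477, 5169370, 14619276, 9030553, 1814947, 13757574, 5489524, 9893393, 13785419, 9333542, 12723645, 13186898, 4504517, 5581371, 4773423, 1707735, 16777215],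
  [12785423, 7414974, 11587468, 6970936, 10729168, 16329489, 13652978, 12830901, 14334090, 4816324, 3348969, 1179171, 3920150, 10183276, 5432665, 11167139, 6466406, 570301, 9014650, 16290917, 6931147, 1707735, 10516575, 16777215],
  [13271711, 1357374, 13463644, 4605944, 14130320, 14460737, 13139618, 8640101, 9647050, 1629140, 964841, 5366003, 1041798, 13822252, 1797657, 10375475, 6228582, 5838253, 9014650, 8727477, 4578059, 4341079, 9718991, 16777215],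
  [7411999, 9604286, 15410716, 5151640, 5453296, 16190113, 15310018, 1683333, 8732458, 3939956, 11704137, 14201395, 12464518, 14516588, 11020793, 3114291, 6466406, 6599853, 3515098, 8894549, 6171723, 12847063, 725743, 16777215],
  [2697887, 9198654, 13710140, 3999224, 6421680, 9006945, 10335874, 8142085, 15233482, 1629140, 10787753, 13978003, 15732454, 11921484, 16303641, 3437171, 7193382, 4544205, 4501338, 13410549, 5871723, 10589527, 1107375, 16777215]]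

def lvl0 : List (ℕ × List ℕ) := [
  (0, []),
  (1, [0]),
  (2, [0, 0]),
  (3, [0, 0, 0]),
  (4, [1, 0, 0]),
  (5, [0, 1, 0, 0]),
  (6, [3, 0, 0]),
  (7, [0, 3, 0, 0]),
  (8, [1, 1, 0, 0]),
  (9, [3, 1, 3, 0]),
  (10, [1, 0, 1, 0, 0]),
  (11, [2, 0, 0]),
  (12, [0, 2, 0, 0]),
  (13, [1, 3, 0]),
  (14, [3, 2, 0]),
  (15, [2, 0, 0, 0]),
  (16, [0, 2, 0, 0, 0]),
  (17, [2, 1, 0, 0]),
  (18, [3, 0]),
  (19, [0, 3, 0]),
  (20, [3, 1, 2, 0]),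
  (21, [1, 2, 0]),
  (22, [2, 0]),
  (23, [2])]

def lvl1 : List (ℕ × List ℕ) := [
  (1, []),
  (2, [1]),
  (3, [5, 4, 1, 1]),
  (4, [1, 1]),
  (5, [1, 5, 1, 1]),
  (6, [4, 4, 1]),
  (7, [5, 5, 1]),
  (8, [4, 1]),
  (9, [1, 1, 4, 1]),
  (10, [4, 4, 5, 5]),
  (11, [4, 5, 5]),
  (12, [5, 4, 1]),
  (13, [1, 4, 1, 1]),
  (14, [5, 1, 1]),
  (15, [4, 5, 1, 1]),
  (16, [1, 4, 1]),
  (17, [5, 4, 5, 1, 1]),
  (18, [4, 1, 1]),
  (19, [1, 5, 1]),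
  (20, [5, 1, 4, 1, 1]),
  (21, [5, 1]),
  (22, [5, 5]),
  (23, [5])]

def lvl2 : List (ℕ × List ℕ) := [
  (2, []),
  (3, [4, 6, 6, 6, 4]),
  (4, [6, 4]),
  (5, [6, 4, 4]),
  (6, [4, 4]),
  (7, [6, 4, 4, 4, 4]),
  (8, [4]),
  (9, [4, 4, 4]),
  (10, [4, 6, 6, 4, 4, 4]),
  (11, [6, 6, 4, 4, 4]),
  (12, [6, 6, 6, 4]),
  (13, [4, 4, 6, 4]),
  (14, [4, 6, 6, 4]),
  (15, [4, 4, 6, 6, 4]),
  (16, [4, 4, 4, 4]),
  (17, [6, 4, 4, 4]),
  (18, [4, 6, 4]),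
  (19, [6, 6, 4]),
  (20, [6, 4, 6, 4]),
  (21, [6, 4, 4, 6, 4]),
  (22, [6, 6, 4, 4]),
  (23, [6, 6, 6, 4, 4])]

def lvl3 : List (ℕ × List ℕ) := [
  (3, []),
  (4, [7]),
  (5, [6, 7, 7, 6, 7]),
  (6, [7, 7, 6, 7]),
  (7, [7, 7, 7]),
  (8, [7, 6, 7]),
  (9, [7, 6, 6, 7, 7, 6, 7]),
  (10, [7, 7, 7, 7]),
  (11, [7, 6, 7, 7, 6, 7]),
  (12, [7, 7]),
  (13, [7, 7, 6, 7, 7, 7]),
  (14, [7, 6, 7, 7, 7, 7]),
  (15, [6, 7, 7, 7]),
  (16, [6, 7, 7, 7, 7]),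
  (17, [6, 7, 6, 6, 7, 7, 6, 7]),
  (18, [6, 7, 6, 7, 7, 7]),
  (19, [6, 7]),
  (20, [7, 6, 7, 7, 7]),
  (21, [6, 7, 7, 6, 7, 7, 7]),
  (22, [6, 6, 7, 7, 6, 7]),
  (23, [6, 6, 6, 7, 7, 6, 7])]

def lvl4 : List (ℕ × List ℕ) := [
  (4, []),
  (5, [8, 6]),
  (6, [8, 6, 8, 6]),
  (7, [8, 8]),
  (8, [6, 6, 6]),
  (9, [8, 8, 6, 8, 6]),
  (10, [8]),
  (11, [6, 8, 6, 8]),
  (12, [6, 6]),
  (13, [6, 8, 8, 6]),
  (14, [8, 6, 8, 8]),
  (15, [6, 8, 8]),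
  (16, [6, 8]),
  (17, [8, 6, 8]),
  (18, [8, 8, 6, 6, 6]),
  (19, [6]),
  (20, [8, 8, 6, 8, 8]),
  (21, [8, 8, 6]),
  (22, [6, 8, 6]),
  (23, [8, 6, 6, 6])]

def lvl5 : List (ℕ × List ℕ) := [
  (5, []),
  (6, [11, 10, 9]),
  (8, [9, 10, 9]),
  (9, [11, 9]),
  (11, [10, 11, 9]),
  (13, [10, 9, 10]),
  (14, [11, 10]),
  (15, [10, 9, 9]),
  (16, [9, 9, 10]),
  (17, [10]),
  (18, [9]),
  (19, [9, 9]),
  (20, [9, 10]),
  (21, [10, 9]),
  (22, [11, 9, 10]),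
  (23, [10, 11, 10])]

def lvl6 : List (ℕ × List ℕ) := [
  (6, []),
  (16, [11]),
  (21, [11, 11])]

theorem sg_ok : ∀ x ∈ sgTab, tabOk x.1 x.2 = true := by
  have h : sgTab.all (fun x => tabOk x.1 x.2) = true := by decide +kernel
  exact fun x hx => (List.all_eq_true.mp h) x hx

theorem sg_img_ok :
    (List.range sgTab.length).all (fun j => imgOk (sgTab.getD j ([], [])).1 (sgImg.getD j [])) = true := by
  decide +kernel

theorem sg_mem : ∀ x ∈ sgTab, tabPerm x.1 x.2 ∈ M24 := all_mem_M24 sgTab sgImg sg_ok sg_img_ok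

theorem lvl0_card : 24 * Nat.card ↥(fixG [0]) ≤ Nat.card ↥(fixG []) :=
  level_card sgTab sg_ok sg_mem [] 0 lvl0 (by decide +kernel) (by decide +kernel)

theorem lvl1_card : 23 * Nat.card ↥(fixG [1, 0]) ≤ Nat.card ↥(fixG [0]) :=
  level_card sgTab sg_ok sg_mem [0] 1 lvl1 (by decide +kernel) (by decide +kernel)

theorem lvl2_card : 22 * Nat.card ↥(fixG [2, 1, 0]) ≤ Nat.card ↥(fixG [1, 0]) :=
  level_card sgTab sg_ok sg_mem [1, 0] 2 lvl2 (by decide +kernel) (by decide +kernel)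

theorem lvl3_card : 21 * Nat.card ↥(fixG [3, 2, 1, 0]) ≤ Nat.card ↥(fixG [2, 1, 0]) :=
  level_card sgTab sg_ok sg_mem [2, 1, 0] 3 lvl3 (by decide +kernel) (by decide +kernel)

theorem lvl4_card : 20 * Nat.card ↥(fixG [4, 3, 2, 1, 0]) ≤ Nat.card ↥(fixG [3, 2, 1, 0]) :=
  level_card sgTab sg_ok sg_mem [3, 2, 1, 0] 4 lvl4 (by decide +kernel) (by decide +kernel)

theorem lvl5_card : 16 * Nat.card ↥(fixG [5, 4, 3, 2, 1, 0]) ≤ Nat.card ↥(fixG [4, 3, 2, 1, 0]) :=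
  level_card sgTab sg_ok sg_mem [4, 3, 2, 1, 0] 5 lvl5 (by decide +kernel) (by decide +kernel)

theorem lvl6_card :
    3 * Nat.card ↥(fixG [6, 5, 4, 3, 2, 1, 0]) ≤ Nat.card ↥(fixG [5, 4, 3, 2, 1, 0]) :=
  level_card sgTab sg_ok sg_mem [5, 4, 3, 2, 1, 0] 6 lvl6 (by decide +kernel) (by decide +kernel)

/-- the lower bound for the order of the group of the length-24 code. -/
theorem card_M24_ge : 244823040 ≤ Nat.card ↥M24 := by
  have h7 : 1 ≤ Nat.card ↥(fixG [6, 5, 4, 3, 2, 1, 0]) := Nat.card_pos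
  have h0 := lvl0_card
  have h1 := lvl1_card
  have h2 := lvl2_card
  have h3 := lvl3_card
  have h4 := lvl4_card
  have h5 := lvl5_card
  have h6 := lvl6_card
  rw [fixG_nil] at h0
  omega

end Cfsg.Agent.Lib.Helper93
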