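import Mathlib
import Cfsg.Agent.Lib.Helper05.N3Defs

/-! K-N3-A4 (S4004 pack, keystone 400406): all primes in one class is impossible. -/

set_option autoImplicit false

namespace Cfsg.Agent.Lib.Helper93.N3

open Cfsg.Agent.Lib.Helper05.N3 Cfsg.Agent.Lib.Helper22.Nse

/-- a product of distinct primes is squarefree. -/
theorem sqf_prod (s : Finset ℕ) (hs : ∀ x ∈ s, x.Prime) : Squarefree (∏ x ∈ s, x) := by
  classical
  induction s using Finset.induction_on with
  | empty => simp
  | insert a s ha ih =>
    rw [Finset.prod_insert ha, Nat.squarefree_mul_iff]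
    refine ⟨?_, (hs a (Finset.mem_insert_self a s)).prime.squarefree,
      ih (fun x hx => hs x (Finset.mem_insert_of_mem hx))⟩
    apply Nat.Coprime.prod_right
    intro x hx
    rw [Nat.coprime_primes (hs a (Finset.mem_insert_self a s)) (hs x (Finset.mem_insert_of_mem hx))]
    rintro rfl
    exact ha hx

theorem one_class_false {N : ℕ} {S : ℕ → ℕ} {m n : ℕ} (C : Ctx N S m n) {p q : ℕ} (hp : p.Prime) (hq : q.Prime)
    (hpq : p ≠ q) (hpN : p ∣ N) (hqN : q ∣ N) (hall : ∀ t : ℕ, t.Prime → t ∣ N → S t = m)
    (hsq : ∀ k, S k ≠ 0 → Squarefree k)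
    (hval : ∀ D, D ∣ N → Squarefree D → D ≠ 1 → S D = if Even D.primeFactors.card then n else m) : False := by
  classical
  have hN0 : N ≠ 0 := C.H.pos.ne'
  -- key: for every prime t | N, t ^ v_t(N) ∣ m + n
  have key : ∀ t, t.Prime → t ∣ N → t ^ N.factorization t ∣ m + n := by
    intro t ht htN
    have htmem : t ∈ N.primeFactors := Nat.mem_primeFactors.2 ⟨ht, htN, hN0⟩
    have hsprime : ∀ x ∈ N.primeFactors.erase t, x.Prime :=
      fun x hx => Nat.prime_of_mem_primeFactors (Finset.mem_of_mem_erase hx)
    obtain ⟨D, hD⟩ : ∃ D, D = ∏ x ∈ N.primeFactors.erase t, x := ⟨_, rfl⟩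
    have hDsq : Squarefree D := hD ▸ sqf_prod _ hsprime
    have hD0 : 0 < D := Nat.pos_of_ne_zero hDsq.ne_zero
    have hDpf : D.primeFactors = N.primeFactors.erase t := hD ▸ Nat.primeFactors_prod hsprime
    have htD : ¬ t ∣ D := by
      intro h
      have : t ∈ D.primeFactors := Nat.mem_primeFactors.2 ⟨ht, h, hDsq.ne_zero⟩
      rw [hDpf] at this
      exact Finset.notMem_erase t _ this
    have hR : t * D = ∏ x ∈ N.primeFactors, x := by
      rw [hD]
      exact Finset.mul_prod_erase N.primeFactors (fun x => x) htmem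
    have hRN : t * D ∣ N := hR ▸ Nat.prod_primeFactors_dvd N
    have hDN : D ∣ N := (dvd_mul_left D t).trans hRN
    have hRsq : Squarefree (t * D) := by
      rw [Nat.squarefree_mul_iff]
      exact ⟨(Nat.Prime.coprime_iff_not_dvd ht).2 htD, ht.prime.squarefree, hDsq⟩
    have hRpf : (t * D).primeFactors = N.primeFactors := by
      rw [hR]; exact Nat.primeFactors_prod_primeFactors N
    have hD1 : D ≠ 1 := by
      intro h1
      have : ∃ u, u.Prime ∧ u ∣ N ∧ u ≠ t := by
        by_cases h : p = t
        · exact ⟨q, hq, hqN, fun h' => hpq (h.trans h'.symm)⟩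
        · exact ⟨p, hp, hpN, h⟩
      obtain ⟨u, hu, huN, hut⟩ := this
      have hus : u ∈ N.primeFactors.erase t :=
        Finset.mem_erase.2 ⟨hut, Nat.mem_primeFactors.2 ⟨hu, huN, hN0⟩⟩
      have hud : u ∣ D := hD ▸ Finset.dvd_prod_of_mem _ hus
      rw [h1] at hud
      exact hu.one_lt.ne' (Nat.dvd_one.1 hud)
    have hR1 : t * D ≠ 1 := by
      intro h
      have h1 : t ∣ 1 := h ▸ dvd_mul_right t D
      exact ht.one_lt.ne' (Nat.dvd_one.1 h1)
    have hcard : (t * D).primeFactors.card = D.primeFactors.card + 1 := by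
      rw [hRpf, hDpf, Finset.card_erase_of_mem htmem]
      have : 0 < N.primeFactors.card := Finset.card_pos.2 ⟨t, htmem⟩
      omega
    have hsum : S D + S (t * D) = m + n := by
      rw [hval D hDN hDsq hD1, hval (t * D) hRN hRsq hR1, hcard]
      by_cases he : Even D.primeFactors.card
      · have hne : ¬ Even (D.primeFactors.card + 1) := by
          rw [Nat.even_add_one]; exact not_not.2 he
        rw [if_pos he, if_neg hne]; ring
      · have hee : Even (D.primeFactors.card + 1) := by
          rw [Nat.even_add_one]; exact he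
        rw [if_neg he, if_pos hee]
    have hW := C.W D (t ^ N.factorization t) hD0 (Nat.ordProj_dvd N t)
      (Nat.Coprime.pow_left _ ((Nat.Prime.coprime_iff_not_dvd ht).2 htD))
    have hsumW : ∑ k ∈ N.divisors.filter (fun k => D ∣ k), S k = S D + S (t * D) := by
      have hne : D ≠ t * D := by
        intro h
        have h' : 1 * D = t * D := by rw [one_mul]; exact h
        have := Nat.eq_of_mul_eq_mul_right hD0 h'
        exact ht.one_lt.ne this
      rw [← Finset.sum_pair hne]
      symm
      apply Finset.sum_subset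
      · intro x hx
        rw [Finset.mem_insert, Finset.mem_singleton] at hx
        rw [Finset.mem_filter, Nat.mem_divisors]
        rcases hx with rfl | rfl
        · exact ⟨⟨hDN, hN0⟩, dvd_rfl⟩
        · exact ⟨⟨hRN, hN0⟩, dvd_mul_left _ t⟩
      · intro k hk hknot
        rw [Finset.mem_filter, Nat.mem_divisors] at hk
        obtain ⟨⟨hkN, _⟩, hDk⟩ := hk
        by_contra hSk
        have hksq := hsq k hSk
        have hkR : k ∣ t * D := by
          rw [hR, ← Nat.prod_primeFactors_of_squarefree hksq]
          apply Finset.prod_dvd_prod_of_subset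
          exact Nat.primeFactors_mono hkN hN0
        obtain ⟨e, rfl⟩ := hDk
        have h2 : D * e ∣ D * t := by rw [mul_comm D t]; exact hkR
        have het : e ∣ t := Nat.dvd_of_mul_dvd_mul_left hD0 h2
        rcases (Nat.dvd_prime ht).1 het with rfl | rfl
        · apply hknot; simp
        · apply hknot; rw [mul_comm]; simp
    rw [hsumW, hsum] at hW
    exact hW
  have hNdvd : N ∣ m + n := by
    rw [Nat.dvd_iff_prime_pow_dvd_dvd]
    intro t k ht htk
    by_cases hk : k = 0
    · subst hk; simp
    have htN : t ∣ N := (dvd_pow_self t hk).trans htk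
    have hle : k ≤ N.factorization t := (ht.pow_dvd_iff_le_factorization hN0).1 htk
    exact (pow_dvd_pow t hle).trans (key t ht htN)
  have hm0 : m ≠ 0 := by
    have := C.H.cauchy p hp hpN
    rwa [hall p hp hpN] at this
  have hle : N ≤ m + n := Nat.le_of_dvd (by omega) hNdvd
  have hcop : Nat.Coprime p q := (Nat.coprime_primes hp hq).2 hpq
  have hpqN : p * q ∣ N := hcop.mul_dvd_of_dvd_of_dvd hpN hqN
  have hpqsq : Squarefree (p * q) := by
    rw [Nat.squarefree_mul_iff]
    exact ⟨hcop, hp.prime.squarefree, hq.prime.squarefree⟩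
  have hpq1 : p * q ≠ 1 := by
    intro h
    have h1 : p ∣ 1 := h ▸ dvd_mul_right p q
    exact hp.one_lt.ne' (Nat.dvd_one.1 h1)
  have hpf : (p * q).primeFactors.card = 2 := by
    rw [Nat.primeFactors_mul hp.ne_zero hq.ne_zero, hp.primeFactors, hq.primeFactors,
      ← Finset.insert_eq, Finset.card_pair hpq]
  have h2 : S (p * q) = n := by
    rw [hval (p * q) hpqN hpqsq hpq1, hpf, if_pos (by decide)]
  have hge : 1 + m + m + n ≤ N := by
    have h1 : ∑ d ∈ (p * q).divisors, S d ≤ ∑ d ∈ N.divisors, S d :=
      Finset.sum_le_sum_of_subset (Nat.divisors_subset_of_dvd hN0 hpqN)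
    rw [← C.H.total, Cfsg.Agent.S3995.sum_div_mul_primes hp hq hpq, C.H.one, hall p hp hpN,
      hall q hq hqN, h2] at h1
    exact h1
  omega

end Cfsg.Agent.Lib.Helper93.N3
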