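import Mathlib
import Cfsg.Agent.Lib.Helper56.NSE3Defs

/-! K-NSE3-L05b (S3996 pack, keystone 399606): abstract double pairing sum. -/

set_option autoImplicit false

namespace Cfsg.Agent.Lib.Helper93.NSE3

open Cfsg.Agent.S3995 (s)
open Cfsg.Agent.Lib.Helper56.NSE3 (Hyp)

/-- L05b abstract double pairing sum. -/
theorem sum_pair (N p q : ℕ) (hp : p.Prime) (hq : q.Prime) (hpq : p ≠ q) (hpN : p ∣ N)
    (hqN : q ∣ N) (hN : N ≠ 0) (f : ℕ → ℕ) (c : ℕ)
    (hsqp : ∀ k, p * p ∣ k → f k = 0) (hsqq : ∀ k, q * q ∣ k → f k = 0)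
    (hpair : ∀ k, k ∣ N → ¬ p ∣ k → ¬ q ∣ k →
      f (p * k) + f (p * q * k) = if f k = 0 then 0 else c) :
    ∑ k ∈ N.divisors.filter (fun k => p ∣ k), f k =
      c * ((N.divisors.filter (fun k => ¬ p ∣ k ∧ ¬ q ∣ k ∧ f k ≠ 0)).card) := by
  classical
  have hp0 : p ≠ 0 := hp.ne_zero
  have hq0 : q ≠ 0 := hq.ne_zero
  have hcop : Nat.Coprime p q := (Nat.coprime_primes hp hq).2 hpq
  have hpqN : p * q ∣ N := hcop.mul_dvd_of_dvd_of_dvd hpN hqN
  set K := N.divisors.filter (fun k => ¬ p ∣ k ∧ ¬ q ∣ k) with hK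
  have memK : ∀ k, k ∈ K ↔ k ∣ N ∧ ¬ p ∣ k ∧ ¬ q ∣ k := by
    intro k
    rw [hK, Finset.mem_filter, Nat.mem_divisors]
    constructor
    · rintro ⟨⟨h1, _⟩, h2⟩; exact ⟨h1, h2⟩
    · rintro ⟨h1, h2⟩; exact ⟨⟨h1, hN⟩, h2⟩
  -- coprimality facts for members of K
  have copK : ∀ k, ¬ p ∣ k → ¬ q ∣ k → Nat.Coprime (p * q) k := by
    intro k h1 h2
    exact Nat.Coprime.mul_left ((Nat.Prime.coprime_iff_not_dvd hp).2 h1)
      ((Nat.Prime.coprime_iff_not_dvd hq).2 h2)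
  set A := K.image (fun k => p * k) with hA
  set B := K.image (fun k => p * q * k) with hB
  have hAB : Disjoint A B := by
    rw [Finset.disjoint_left]
    intro x hxA hxB
    obtain ⟨k, hk, rfl⟩ := Finset.mem_image.1 hxA
    obtain ⟨k', hk', hkk⟩ := Finset.mem_image.1 hxB
    have h1 : q ∣ p * k := by
      rw [← hkk]; exact Dvd.dvd.mul_right (dvd_mul_left q p) k'
    rcases (Nat.Prime.dvd_mul hq).1 h1 with h | h
    · exact hpq ((Nat.prime_dvd_prime_iff_eq hq hp).1 h).symm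
    · exact ((memK k).1 hk).2.2 h
  have hsub : A ∪ B ⊆ N.divisors.filter (fun k => p ∣ k) := by
    intro x hx
    rw [Finset.mem_filter, Nat.mem_divisors]
    rcases Finset.mem_union.1 hx with hxA | hxB
    · obtain ⟨k, hk, rfl⟩ := Finset.mem_image.1 hxA
      obtain ⟨h1, h2, h3⟩ := (memK k).1 hk
      refine ⟨⟨?_, hN⟩, dvd_mul_right p k⟩
      exact ((Nat.Prime.coprime_iff_not_dvd hp).2 h2).mul_dvd_of_dvd_of_dvd hpN h1
    · obtain ⟨k, hk, rfl⟩ := Finset.mem_image.1 hxB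
      obtain ⟨h1, h2, h3⟩ := (memK k).1 hk
      refine ⟨⟨?_, hN⟩, Dvd.dvd.mul_right (dvd_mul_right p q) k⟩
      exact (copK k h2 h3).mul_dvd_of_dvd_of_dvd hpqN h1
  have hzero : ∀ x ∈ N.divisors.filter (fun k => p ∣ k), x ∉ A ∪ B → f x = 0 := by
    intro x hx hnot
    rw [Finset.mem_filter, Nat.mem_divisors] at hx
    obtain ⟨⟨hxN, _⟩, k1, rfl⟩ := hx
    by_cases hp1 : p ∣ k1
    · exact hsqp _ (Nat.mul_dvd_mul_left p hp1)
    have hk1N : k1 ∣ N := (dvd_mul_left k1 p).trans hxN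
    by_cases hq1 : q ∣ k1
    · obtain ⟨k2, rfl⟩ := hq1
      by_cases hq2 : q ∣ k2
      · apply hsqq
        exact Dvd.dvd.mul_left (Nat.mul_dvd_mul_left q hq2) p
      have hp2 : ¬ p ∣ k2 := fun h => hp1 (Dvd.dvd.mul_left h q)
      have hk2N : k2 ∣ N := (dvd_mul_left k2 q).trans hk1N
      exfalso
      apply hnot
      apply Finset.mem_union_right
      rw [hB, Finset.mem_image]
      exact ⟨k2, (memK k2).2 ⟨hk2N, hp2, hq2⟩, by ring⟩
    · exfalso
      apply hnot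
      apply Finset.mem_union_left
      rw [hA, Finset.mem_image]
      exact ⟨k1, (memK k1).2 ⟨hk1N, hp1, hq1⟩, rfl⟩
  have inj1 : ∀ x ∈ K, ∀ y ∈ K, p * x = p * y → x = y := by
    intro x _ y _ h
    exact Nat.eq_of_mul_eq_mul_left hp.pos h
  have inj2 : ∀ x ∈ K, ∀ y ∈ K, p * q * x = p * q * y → x = y := by
    intro x _ y _ h
    exact Nat.eq_of_mul_eq_mul_left (Nat.mul_pos hp.pos hq.pos) h
  rw [← Finset.sum_subset hsub hzero, Finset.sum_union hAB, hA, hB,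
    Finset.sum_image inj1, Finset.sum_image inj2, ← Finset.sum_add_distrib]
  have hstep : ∀ k ∈ K, f (p * k) + f (p * q * k) = if f k = 0 then 0 else c := by
    intro k hk
    obtain ⟨h1, h2, h3⟩ := (memK k).1 hk
    exact hpair k h1 h2 h3
  rw [Finset.sum_congr rfl hstep, Finset.sum_ite, Finset.sum_const_zero, zero_add,
    Finset.sum_const, smul_eq_mul, mul_comm]
  congr 2
  ext k
  simp only [hK, Finset.mem_filter, and_assoc]

end Cfsg.Agent.Lib.Helper93.NSE3
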