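import Mathlib
import Cfsg.Agent.Lib.Helper22.NseDefs

set_option autoImplicit false
set_option maxHeartbeats 1000000

namespace Cfsg.Agent.Lib.Helper93.Nse

open Cfsg.Agent.Lib.Helper22.Nse

lemma sum_div (S : ℕ → ℕ) (m : ℕ) (L : List ℕ) (hL : L.Nodup) (h : m.divisors = L.toFinset) :
    ∑ d ∈ m.divisors, S d = (L.map S).sum := by rw [h, List.sum_toFinset _ hL]

section
variable {N : ℕ} {S : ℕ → ℕ}

lemma le144 (B : A6Basic N S) (m : ℕ) (hm : 3 ≤ m) : S m ≤ 144 := by
  rcases B.val m hm with h | h | h | h <;> omega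

lemma val4 (H : NseHyp N S {1, 45, 80, 90, 144}) (B : A6Basic N S) (m : ℕ) (hm : 3 ≤ m)
    (h4 : 4 ∣ Nat.totient m) : S m = 0 ∨ S m = 80 ∨ S m = 144 := by
  have hphi := H.phi m
  rcases B.val m hm with h | h | h | h
  · exact Or.inl h
  · exact Or.inr (Or.inl h)
  · exfalso
    have : 4 ∣ S m := h4.trans hphi
    omega
  · exact Or.inr (Or.inr h)

lemma closed0 (H : NseHyp N S {1, 45, 80, 90, 144}) (d m : ℕ) (hdm : d ∣ m) (hd : S d = 0) :
    S m = 0 := by
  by_contra h
  exact H.closed m d h hdm hd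

end

variable {S : ℕ → ℕ}

lemma no180 (H : NseHyp 180 S {1, 45, 80, 90, 144}) (B : A6Basic 180 S) (P : A6Parts 180 S) :
    False := by
  have hS1 : S 1 = 1 := H.one
  have hS2 : S 2 = 45 := B.two
  have hS5 : S 5 = 144 := B.five (by norm_num)
  have hS3 : S 3 = 80 := B.three (by norm_num)
  have hS4 : S 4 = 90 := P.four (by norm_num)
  have htot := H.total
  rw [sum_div S 180 [1, 2, 3, 4, 5, 6, 9, 10, 12, 15, 18, 20, 30, 36, 45, 60, 90, 180]
    (by decide) (by decide +kernel)] at htot
  simp only [List.map, List.sum_cons, List.sum_nil] at htot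
  omega

lemma no540 (H : NseHyp 540 S {1, 45, 80, 90, 144}) (B : A6Basic 540 S) (P : A6Parts 540 S) :
    False := by
  have hS1 : S 1 = 1 := H.one
  have hS2 : S 2 = 45 := B.two
  have hS5 : S 5 = 144 := B.five (by norm_num)
  have hS3 : S 3 = 80 := B.three (by norm_num)
  have hS4 : S 4 = 90 := P.four (by norm_num)
  have hS9 : S 9 = 0 := P.nine (by norm_num)
  have z9 : ∀ m, 9 ∣ m → S m = 0 := fun m hm => closed0 H 9 m hm hS9
  have htot := H.total
  rw [sum_div S 540 [1, 2, 3, 4, 5, 6, 9, 10, 12, 15, 18, 20, 27, 30, 36, 45, 54, 60, 90, 108, 135, 180, 270, 540]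
    (by decide) (by decide +kernel)] at htot
  simp only [List.map, List.sum_cons, List.sum_nil] at htot
  rw [z9 18 (by norm_num), z9 27 (by norm_num), z9 36 (by norm_num), z9 45 (by norm_num),
    z9 54 (by norm_num), z9 90 (by norm_num), z9 108 (by norm_num), z9 135 (by norm_num),
    z9 180 (by norm_num), z9 270 (by norm_num), z9 540 (by norm_num), hS9] at htot
  have e10 : S 10 % 16 = 0 := by
    rcases val4 H B 10 (by norm_num) (by decide +kernel) with h | h | h <;> omega
  have e12 : S 12 % 16 = 0 := by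
    rcases val4 H B 12 (by norm_num) (by decide +kernel) with h | h | h <;> omega
  have e15 : S 15 % 16 = 0 := by
    rcases val4 H B 15 (by norm_num) (by decide +kernel) with h | h | h <;> omega
  have e20 : S 20 % 16 = 0 := by
    rcases val4 H B 20 (by norm_num) (by decide +kernel) with h | h | h <;> omega
  have e30 : S 30 % 16 = 0 := by
    rcases val4 H B 30 (by norm_num) (by decide +kernel) with h | h | h <;> omega
  have e60 : S 60 % 16 = 0 := by
    rcases val4 H B 60 (by norm_num) (by decide +kernel) with h | h | h <;> omega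
  rcases B.val 6 (by norm_num) with h | h | h | h <;> omega

lemma no1620 (H : NseHyp 1620 S {1, 45, 80, 90, 144}) (B : A6Basic 1620 S) (P : A6Parts 1620 S) :
    False := by
  have hS1 : S 1 = 1 := H.one
  have hS2 : S 2 = 45 := B.two
  have hS5 : S 5 = 144 := B.five (by norm_num)
  have hS3 : S 3 = 80 := B.three (by norm_num)
  have hS4 : S 4 = 90 := P.four (by norm_num)
  have hS9 : S 9 = 0 := P.nine (by norm_num)
  have z9 : ∀ m, 9 ∣ m → S m = 0 := fun m hm => closed0 H 9 m hm hS9
  have htot := H.total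
  rw [sum_div S 1620 [1, 2, 3, 4, 5, 6, 9, 10, 12, 15, 18, 20, 27, 30, 36, 45, 54, 60, 81, 90, 108, 135, 162, 180, 270, 324, 405, 540, 810, 1620]
    (by decide) (by decide +kernel)] at htot
  simp only [List.map, List.sum_cons, List.sum_nil] at htot
  rw [z9 18 (by norm_num), z9 27 (by norm_num), z9 36 (by norm_num), z9 45 (by norm_num),
    z9 54 (by norm_num), z9 81 (by norm_num), z9 90 (by norm_num), z9 108 (by norm_num), z9 135 (by norm_num),
    z9 162 (by norm_num), z9 180 (by norm_num), z9 270 (by norm_num), z9 324 (by norm_num),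
    z9 405 (by norm_num), z9 540 (by norm_num), z9 810 (by norm_num), z9 1620 (by norm_num), hS9] at htot
  have := le144 B 6 (by norm_num)
  have := le144 B 10 (by norm_num)
  have := le144 B 12 (by norm_num)
  have := le144 B 15 (by norm_num)
  have := le144 B 20 (by norm_num)
  have := le144 B 30 (by norm_num)
  have := le144 B 60 (by norm_num)
  omega

lemma no3240 (H : NseHyp 3240 S {1, 45, 80, 90, 144}) (B : A6Basic 3240 S) (P : A6Parts 3240 S) :
    False := by
  have hS1 : S 1 = 1 := H.one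
  have hS2 : S 2 = 45 := B.two
  have hS5 : S 5 = 144 := B.five (by norm_num)
  have hS3 : S 3 = 80 := B.three (by norm_num)
  have hS4 : S 4 = 90 := P.four (by norm_num)
  have hS9 : S 9 = 0 := P.nine (by norm_num)
  have z9 : ∀ m, 9 ∣ m → S m = 0 := fun m hm => closed0 H 9 m hm hS9
  have htot := H.total
  rw [sum_div S 3240 [1, 2, 3, 4, 5, 6, 8, 9, 10, 12, 15, 18, 20, 24, 27, 30, 36, 40, 45, 54, 60, 72, 81, 90, 108, 120, 135, 162, 180, 216, 270, 324, 360, 405, 540, 648, 810, 1080, 1620, 3240]
    (by decide) (by decide +kernel)] at htot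
  simp only [List.map, List.sum_cons, List.sum_nil] at htot
  rw [z9 18 (by norm_num), z9 27 (by norm_num), z9 36 (by norm_num), z9 45 (by norm_num),
    z9 54 (by norm_num), z9 72 (by norm_num), z9 81 (by norm_num), z9 90 (by norm_num), z9 108 (by norm_num),
    z9 135 (by norm_num), z9 162 (by norm_num), z9 180 (by norm_num), z9 216 (by norm_num),
    z9 270 (by norm_num), z9 324 (by norm_num), z9 360 (by norm_num), z9 405 (by norm_num),
    z9 540 (by norm_num), z9 648 (by norm_num), z9 810 (by norm_num), z9 1080 (by norm_num),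
    z9 1620 (by norm_num), z9 3240 (by norm_num), hS9] at htot
  have := le144 B 6 (by norm_num)
  have := le144 B 8 (by norm_num)
  have := le144 B 10 (by norm_num)
  have := le144 B 12 (by norm_num)
  have := le144 B 15 (by norm_num)
  have := le144 B 20 (by norm_num)
  have := le144 B 24 (by norm_num)
  have := le144 B 30 (by norm_num)
  have := le144 B 40 (by norm_num)
  have := le144 B 60 (by norm_num)
  have := le144 B 120 (by norm_num)
  omega

lemma case360 (H : NseHyp 360 S {1, 45, 80, 90, 144}) (B : A6Basic 360 S) (P : A6Parts 360 S) :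
    ∀ m, S m ≠ 0 → m ≤ 5 := by
  have hS1 : S 1 = 1 := H.one
  have hS2 : S 2 = 45 := B.two
  have hS5 : S 5 = 144 := B.five (by norm_num)
  have hS3 : S 3 = 80 := B.three (by norm_num)
  have hS4 : S 4 = 90 := P.four (by norm_num)
  have hdiv : (360 : ℕ).divisors = [1, 2, 3, 4, 5, 6, 8, 9, 10, 12, 15, 18, 20, 24, 30, 36, 40, 45, 60, 72, 90, 120, 180, 360].toFinset := by
    decide +kernel
  have htot := H.total
  rw [sum_div S 360 [1, 2, 3, 4, 5, 6, 8, 9, 10, 12, 15, 18, 20, 24, 30, 36, 40, 45, 60, 72, 90, 120, 180, 360]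
    (by decide) hdiv] at htot
  simp only [List.map, List.sum_cons, List.sum_nil] at htot
  intro m hm
  have hmd : m ∈ (360 : ℕ).divisors := Nat.mem_divisors.mpr ⟨H.dvd m hm, by norm_num⟩
  rw [hdiv, List.mem_toFinset] at hmd
  fin_cases hmd <;> omega

lemma no1080 (H : NseHyp 1080 S {1, 45, 80, 90, 144}) (B : A6Basic 1080 S) (P : A6Parts 1080 S) :
    False := by
  have hS1 : S 1 = 1 := H.one
  have hS2 : S 2 = 45 := B.two
  have hS5 : S 5 = 144 := B.five (by norm_num)
  have hS3 : S 3 = 80 := B.three (by norm_num)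
  have hS4 : S 4 = 90 := P.four (by norm_num)
  have hS9 : S 9 = 0 := P.nine (by norm_num)
  have z9 : ∀ m, 9 ∣ m → S m = 0 := fun m hm => closed0 H 9 m hm hS9
  have htot := H.total
  rw [sum_div S 1080 [1, 2, 3, 4, 5, 6, 8, 9, 10, 12, 15, 18, 20, 24, 27, 30, 36, 40, 45, 54, 60, 72, 90, 108, 120, 135, 180, 216, 270, 360, 540, 1080]
    (by decide) (by decide +kernel)] at htot
  simp only [List.map, List.sum_cons, List.sum_nil] at htot
  rw [z9 18 (by norm_num), z9 27 (by norm_num), z9 36 (by norm_num), z9 45 (by norm_num),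
    z9 54 (by norm_num), z9 72 (by norm_num), z9 90 (by norm_num), z9 108 (by norm_num), z9 135 (by norm_num),
    z9 180 (by norm_num), z9 216 (by norm_num), z9 270 (by norm_num), z9 360 (by norm_num),
    z9 540 (by norm_num), z9 1080 (by norm_num), hS9] at htot
  -- Frobenius at 15
  have f15 := H.frob 15 (by norm_num)
  rw [sum_div S 15 [1, 3, 5, 15] (by decide) (by decide +kernel)] at f15
  simp only [List.map, List.sum_cons, List.sum_nil] at f15
  have hS15 : S 15 = 0 := by
    rcases val4 H B 15 (by norm_num) (by decide +kernel) with h | h | h <;> omega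
  have hS30 : S 30 = 0 := closed0 H 15 30 (by norm_num) hS15
  have hS60 : S 60 = 0 := closed0 H 15 60 (by norm_num) hS15
  have hS120 : S 120 = 0 := closed0 H 15 120 (by norm_num) hS15
  -- Frobenius at 10
  have f10 := H.frob 10 (by norm_num)
  rw [sum_div S 10 [1, 2, 5, 10] (by decide) (by decide +kernel)] at f10
  simp only [List.map, List.sum_cons, List.sum_nil] at f10
  have hS10 : S 10 = 0 ∨ S 10 = 80 := by
    rcases val4 H B 10 (by norm_num) (by decide +kernel) with h | h | h <;> omega
  -- Frobenius at 20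
  have f20 := H.frob 20 (by norm_num)
  rw [sum_div S 20 [1, 2, 4, 5, 10, 20] (by decide) (by decide +kernel)] at f20
  simp only [List.map, List.sum_cons, List.sum_nil] at f20
  have hS20 : S 20 = 0 ∨ S 20 = 80 := by
    rcases val4 H B 20 (by norm_num) (by decide +kernel) with h | h | h <;>
      rcases hS10 with h' | h' <;> omega
  -- Frobenius at 12
  have f12 := H.frob 12 (by norm_num)
  rw [sum_div S 12 [1, 2, 3, 4, 6, 12] (by decide) (by decide +kernel)] at f12
  simp only [List.map, List.sum_cons, List.sum_nil] at f12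
  have h12 := val4 H B 12 (by norm_num) (by decide +kernel)
  have h6 := B.val 6 (by norm_num)
  have hS6 : S 6 = 0 ∨ S 6 = 144 := by
    rcases h12 with h | h | h <;> rcases h6 with h' | h' | h' | h' <;> omega
  have hS12 : S 12 = 0 ∨ S 12 = 144 := by
    rcases h12 with h | h | h <;> rcases h6 with h' | h' | h' | h' <;> omega
  -- Frobenius at 40
  have f40 := H.frob 40 (by norm_num)
  rw [sum_div S 40 [1, 2, 4, 5, 8, 10, 20, 40] (by decide) (by decide +kernel)] at f40
  simp only [List.map, List.sum_cons, List.sum_nil] at f40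
  have h8 := val4 H B 8 (by norm_num) (by decide +kernel)
  have h40 := val4 H B 40 (by norm_num) (by decide +kernel)
  have hS8' : S 8 = 0 ∨ S 8 = 80 := by
    rcases h8 with h | h | h <;> rcases h40 with h2 | h2 | h2 <;>
      rcases hS10 with h' | h' <;> rcases hS20 with h'' | h'' <;> omega
  -- Frobenius at 24
  have f24 := H.frob 24 (by norm_num)
  rw [sum_div S 24 [1, 2, 3, 4, 6, 8, 12, 24] (by decide) (by decide +kernel)] at f24
  simp only [List.map, List.sum_cons, List.sum_nil] at f24
  have h24 := val4 H B 24 (by norm_num) (by decide +kernel)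
  have hS8 : S 8 = 0 := by
    rcases hS8' with h | h <;> rcases h24 with h2 | h2 | h2 <;>
      rcases hS6 with h' | h' <;> rcases hS12 with h'' | h'' <;> omega
  have hS24 : S 24 = 0 := closed0 H 8 24 (by norm_num) hS8
  have hS40 : S 40 = 0 := closed0 H 8 40 (by norm_num) hS8
  rcases hS6 with h' | h' <;> rcases hS12 with h'' | h'' <;> rcases hS10 with h3 | h3 <;>
    rcases hS20 with h4 | h4 <;> omega

theorem a6_final {N : ℕ} {S : ℕ → ℕ} (H : NseHyp N S {1, 45, 80, 90, 144}) (hs : SylowHyp N S)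
    (B : A6Basic N S) (P : A6Parts N S) (h5 : 5 ∣ N) : N = 360 ∧ ∀ m, S m ≠ 0 → m ≤ 5 := by
  have hS5 : S 5 = 144 := B.five h5
  -- Sylow 5
  have h36 : 36 ∣ N := by
    obtain ⟨n, hn1, hn2, hn3⟩ := hs 5 1 (by norm_num) (by norm_num) (by simpa using h5)
      (by simpa using P.not25) (by simp [hS5])
    have ht : Nat.totient (5 ^ 1) = 4 := by decide +kernel
    rw [ht, pow_one, hS5] at hn1
    have : n = 36 := by omega
    rwa [this] at hn3
  have h180 : 180 ∣ N := by
    have : (36 * 5) ∣ N := Nat.Coprime.mul_dvd_of_dvd_of_dvd (by norm_num) h36 h5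
    simpa using this
  obtain ⟨k, hk⟩ := h180
  have hk0 : k ≠ 0 := by
    rintro rfl
    have := H.pos
    omega
  obtain ⟨a, k1, hk1, hka⟩ := Nat.exists_eq_pow_mul_and_not_dvd hk0 2 (by norm_num)
  have hk10 : k1 ≠ 0 := by rintro rfl; simp at hka; exact hk0 hka
  obtain ⟨b, k2, hk2, hkb⟩ := Nat.exists_eq_pow_mul_and_not_dvd hk10 3 (by norm_num)
  have hk2N : k2 ∣ N := by
    rw [hk, hka, hkb]
    exact Dvd.dvd.mul_left (Dvd.dvd.mul_left (Dvd.dvd.mul_left dvd_rfl _) _) _
  have hk2one : k2 = 1 := by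
    by_contra hne
    obtain ⟨p, hp, hpk⟩ := Nat.exists_prime_and_dvd hne
    rcases B.primes p hp (hpk.trans hk2N) with rfl | rfl | rfl | rfl
    · exact hk1 (by rw [hkb]; exact Dvd.dvd.mul_left hpk _)
    · exact hk2 hpk
    · apply P.not25
      obtain ⟨c, hc⟩ := hpk
      rw [hk, hka, hkb, hc]
      exact ⟨36 * (2 ^ a * (3 ^ b * c)), by ring⟩
    · exact P.not7 (hpk.trans hk2N)
  have ha : a ≤ 1 := by
    by_contra hlt
    apply P.not16
    obtain ⟨a', rfl⟩ : ∃ a', a = a' + 2 := ⟨a - 2, by omega⟩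
    rw [hk, hka]
    exact ⟨45 * (2 ^ a' * k1), by ring⟩
  have hb : b ≤ 2 := by
    by_contra hlt
    apply P.not243
    obtain ⟨b', rfl⟩ : ∃ b', b = b' + 3 := ⟨b - 3, by omega⟩
    rw [hk, hka, hkb]
    exact ⟨20 * (2 ^ a * (3 ^ b' * k2)), by ring⟩
  have hNk : N = 180 * (2 ^ a * 3 ^ b) := by rw [hk, hka, hkb, hk2one, mul_one]
  interval_cases a <;> interval_cases b <;> norm_num at hNk <;> subst hNk
  · exact (no180 H B P).elim
  · exact (no540 H B P).elim
  · exact (no1620 H B P).elim
  · exact ⟨rfl, case360 H B P⟩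
  · exact (no1080 H B P).elim
  · exact (no3240 H B P).elim

end Cfsg.Agent.Lib.Helper93.Nse
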