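import Mathlib
import Cfsg.Prelude.Def_Solvable

/-! K-OTF-NS5a (S3999 pack, keystone 399908): `SL(2,5)` has exactly 24 elements of order 5. -/

set_option autoImplicit false
open Cfsg

namespace Cfsg.Agent.Lib.Helper93.OTF

set_option maxRecDepth 100000 in
theorem sl25_count_aux :
    Fintype.card {x : Matrix.SpecialLinearGroup (Fin 2) (ZMod 5) // x ^ 5 = 1 ∧ x ≠ 1} = 24 := by
  decide +kernel

set_option maxRecDepth 100000 in
theorem sl25_card_aux : Fintype.card (Matrix.SpecialLinearGroup (Fin 2) (ZMod 5)) = 120 := by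
  decide +kernel

theorem sl25_card_order_five :
    Nat.card {x : Matrix.SpecialLinearGroup (Fin 2) (ZMod 5) // orderOf x = 5} = 24 ∧
      Nat.card (Matrix.SpecialLinearGroup (Fin 2) (ZMod 5)) = 120 := by
  constructor
  · rw [← sl25_count_aux, ← Nat.card_eq_fintype_card]
    have hp5 : Fact (Nat.Prime 5) := ⟨by norm_num⟩
    refine Nat.card_congr (Equiv.subtypeEquivRight (fun x => ?_))
    constructor
    · intro hx
      refine ⟨by have := pow_orderOf_eq_one x; rwa [hx] at this, ?_⟩
      intro h1
      rw [h1, orderOf_one] at hx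
      omega
    · rintro ⟨h5, h1⟩
      exact orderOf_eq_prime h5 h1
  · rw [Nat.card_eq_fintype_card, sl25_card_aux]

end Cfsg.Agent.Lib.Helper93.OTF
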