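import Mathlib
import Cfsg.Prelude.Def_Solvable

/-! K-OTF-NS5b (S3999 pack, keystone 399909), core part with NS5a as hypotheses. -/

set_option autoImplicit false
open Cfsg

namespace Cfsg.Agent.Lib.Helper93.OTF

/-- elements of the join of two elementwise commuting subgroups are products. -/
theorem mem_sup_of_commute {C : Type*} [Group C] {S M : Subgroup C}
    (hcomm : ∀ s ∈ S, ∀ x ∈ M, s * x = x * s) {g : C} (hg : g ∈ S ⊔ M) :
    ∃ s ∈ S, ∃ y ∈ M, g = s * y := by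
  let T : Subgroup C :=
    { carrier := {g | ∃ s ∈ S, ∃ y ∈ M, g = s * y}
      one_mem' := ⟨1, S.one_mem, 1, M.one_mem, by simp⟩
      mul_mem' := by
        rintro a b ⟨s, hs, y, hy, rfl⟩ ⟨s', hs', y', hy', rfl⟩
        refine ⟨s * s', S.mul_mem hs hs', y * y', M.mul_mem hy hy', ?_⟩
        have h := hcomm s' hs' y hy
        calc s * y * (s' * y') = s * (y * s') * y' := by group
          _ = s * (s' * y) * y' := by rw [h]
          _ = s * s' * (y * y') := by group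
      inv_mem' := by
        rintro a ⟨s, hs, y, hy, rfl⟩
        refine ⟨s⁻¹, S.inv_mem hs, y⁻¹, M.inv_mem hy, ?_⟩
        have h := hcomm s⁻¹ (S.inv_mem hs) y⁻¹ (M.inv_mem hy)
        rw [mul_inv_rev, h] }
  have hle : S ⊔ M ≤ T := by
    refine sup_le ?_ ?_
    · intro s hs
      exact ⟨s, hs, 1, M.one_mem, by simp⟩
    · intro y hy
      exact ⟨1, S.one_mem, y, hy, by simp⟩
  exact hle hg

/-- the order of the join of two elementwise commuting subgroups meeting trivially. -/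
theorem card_sup_of_commute {C : Type*} [Group C] [Finite C] {S M : Subgroup C}
    (hcomm : ∀ s ∈ S, ∀ x ∈ M, s * x = x * s) (hinf : S ⊓ M = ⊥) :
    Nat.card (S ⊔ M : Subgroup C) = Nat.card S * Nat.card M := by
  rw [← Nat.card_prod]
  symm
  let f : S × M → (S ⊔ M : Subgroup C) := fun q =>
    ⟨q.1.1 * q.2.1, mul_mem ((le_sup_left : S ≤ S ⊔ M) q.1.2) ((le_sup_right : M ≤ S ⊔ M) q.2.2)⟩
  refine Nat.card_congr (Equiv.ofBijective f ⟨?_, ?_⟩)
  · rintro ⟨⟨s, hs⟩, ⟨y, hy⟩⟩ ⟨⟨s', hs'⟩, ⟨y', hy'⟩⟩ hq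
    have h1 : s * y = s' * y' := congrArg Subtype.val hq
    have h2 : s'⁻¹ * s = y' * y⁻¹ := by
      calc s'⁻¹ * s = s'⁻¹ * (s * y) * y⁻¹ := by group
        _ = s'⁻¹ * (s' * y') * y⁻¹ := by rw [h1]
        _ = y' * y⁻¹ := by group
    have h3 : s'⁻¹ * s ∈ S ⊓ M :=
      ⟨S.mul_mem (S.inv_mem hs') hs, h2 ▸ M.mul_mem hy' (M.inv_mem hy)⟩
    rw [hinf, Subgroup.mem_bot] at h3
    have h4 : s = s' := by
      have := inv_mul_eq_one.mp h3
      exact this.symm
    have h5 : y = y' := by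
      rw [h4] at h1
      exact mul_left_cancel h1
    subst h4; subst h5; rfl
  · rintro ⟨g, hg⟩
    obtain ⟨s, hs, y, hy, rfl⟩ := mem_sup_of_commute hcomm hg
    exact ⟨(⟨s, hs⟩, ⟨y, hy⟩), rfl⟩

/-- an element of order 5 lies in `S`. -/
theorem mem_of_orderOf_eq_five {C : Type*} [Group C] [Finite C]
    (G₀ : Subgroup C) (hn : G₀.Normal) (hidx : G₀.index = 1 ∨ G₀.index = 2)
    (S M : Subgroup C) (hsup : S ⊔ M = G₀) (hinf : S ⊓ M = ⊥)
    (hcomm : ∀ s ∈ S, ∀ x ∈ M, s * x = x * s) (hM : (Nat.card M).Coprime 30)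
    (x : C) (hx : orderOf x = 5) : x ∈ S := by
  have hx5 : x ^ 5 = 1 := by rw [← hx]; exact pow_orderOf_eq_one x
  have hxG : x ∈ G₀ := by
    have := hn
    have h := Subgroup.pow_index_mem G₀ x
    rcases hidx with h1 | h2
    · rw [h1, pow_one] at h; exact h
    · rw [h2] at h
      have h6 : x = (x ^ 2) ^ 3 := by
        rw [← pow_mul]
        calc x = x ^ 5 * x := by rw [hx5, one_mul]
          _ = x ^ (2 * 3) := by rw [← pow_succ]
      rw [h6]
      exact G₀.pow_mem h 3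
  rw [← hsup] at hxG
  obtain ⟨s, hs, y, hy, rfl⟩ := mem_sup_of_commute hcomm hxG
  have hc : Commute s y := hcomm s hs y hy
  have h1 : s ^ 5 * y ^ 5 = 1 := by rw [← hc.mul_pow]; exact hx5
  have h2 : s ^ 5 = (y ^ 5)⁻¹ := eq_inv_of_mul_eq_one_left h1
  have h3 : s ^ 5 ∈ S ⊓ M := ⟨S.pow_mem hs 5, h2 ▸ M.inv_mem (M.pow_mem hy 5)⟩
  rw [hinf, Subgroup.mem_bot] at h3
  have h4 : y ^ 5 = 1 := by rw [h3, one_mul] at h1; exact h1
  have h5 : orderOf y ∣ 5 := orderOf_dvd_of_pow_eq_one h4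
  have h6 : orderOf y ∣ Nat.card M := by
    have := orderOf_dvd_natCard (⟨y, hy⟩ : M)
    rwa [← Subgroup.orderOf_coe] at this
  have h7 : orderOf y ∣ 30 := h5.trans (by norm_num)
  have h8 : orderOf y = 1 := Nat.eq_one_of_dvd_coprimes hM h6 h7
  rw [orderOf_eq_one_iff] at h8
  rw [h8, mul_one]
  exact hs

theorem card_order_five_of_structure_aux
    (h24 : Nat.card {x : Matrix.SpecialLinearGroup (Fin 2) (ZMod 5) // orderOf x = 5} = 24)
    (h120 : Nat.card (Matrix.SpecialLinearGroup (Fin 2) (ZMod 5)) = 120)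
    {C : Type*} [Group C] [Finite C]
    (h : ∃ G₀ : Subgroup C, G₀.Normal ∧ (G₀.index = 1 ∨ G₀.index = 2) ∧
      ∃ S M : Subgroup C, S ⊔ M = G₀ ∧ S ⊓ M = ⊥ ∧ (∀ s ∈ S, ∀ x ∈ M, s * x = x * s) ∧
        Nonempty (S ≃* Matrix.SpecialLinearGroup (Fin 2) (ZMod 5)) ∧
        (∀ (p : ℕ) [Fact p.Prime] (P : Sylow p M), IsCyclic P) ∧ (Nat.card M).Coprime 30) :
    (Nat.card C).factorization 5 = 1 ∧ Nat.card {x : C // orderOf x = 5} = 24 := by
  obtain ⟨G₀, hn, hidx, S, M, hsup, hinf, hcomm, ⟨e⟩, -, hM⟩ := h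
  constructor
  · have hcS : Nat.card S = 120 := by rw [Nat.card_congr e.toEquiv, h120]
    have hcG : Nat.card G₀ = 120 * Nat.card M := by
      rw [← hsup, card_sup_of_commute hcomm hinf, hcS]
    have hcC : Nat.card C = 5 * (G₀.index * 24 * Nat.card M) := by
      rw [← Subgroup.index_mul_card G₀, hcG]; ring
    have h5 : ¬ (5 ∣ G₀.index * 24 * Nat.card M) := by
      intro hd
      have hp5 : Nat.Prime 5 := by norm_num
      rcases (hp5.dvd_mul).mp hd with hd | hd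
      · rcases (hp5.dvd_mul).mp hd with hd | hd
        · rcases hidx with h1 | h2
          · rw [h1] at hd; omega
          · rw [h2] at hd; omega
        · omega
      · have h30 : (5 : ℕ) ∣ 30 := by norm_num
        have := Nat.eq_one_of_dvd_coprimes hM hd h30
        omega
    have hne : G₀.index * 24 * Nat.card M ≠ 0 := by
      intro h0; rw [h0] at h5; exact h5 (dvd_zero 5)
    rw [hcC, Nat.factorization_mul (by norm_num) hne, Finsupp.add_apply,
      Nat.Prime.factorization_self (by norm_num), Nat.factorization_eq_zero_of_not_dvd h5]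
  · rw [← h24]
    have e1 : {x : S // orderOf x = 5} ≃
        {x : Matrix.SpecialLinearGroup (Fin 2) (ZMod 5) // orderOf x = 5} :=
      e.toEquiv.subtypeEquiv (fun x => by
        show orderOf x = 5 ↔ orderOf (e x) = 5
        rw [MulEquiv.orderOf_eq])
    rw [← Nat.card_congr e1]
    symm
    let f : {x : S // orderOf x = 5} → {x : C // orderOf x = 5} := fun x =>
      ⟨x.1.1, by rw [Subgroup.orderOf_coe]; exact x.2⟩
    refine Nat.card_congr (Equiv.ofBijective f ⟨?_, ?_⟩)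
    · rintro ⟨⟨x, hx⟩, hx5⟩ ⟨⟨y, hy⟩, hy5⟩ hxy
      have : x = y := congrArg Subtype.val hxy
      subst this; rfl
    · rintro ⟨x, hx⟩
      have hxS := mem_of_orderOf_eq_five G₀ hn hidx S M hsup hinf hcomm hM x hx
      refine ⟨⟨⟨x, hxS⟩, ?_⟩, rfl⟩
      rw [← Subgroup.orderOf_coe]; exact hx

end Cfsg.Agent.Lib.Helper93.OTF
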