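import Mathlib
import Cfsg.Prelude.Def_Solvable
import Cfsg.Agent.Lib.Helper93.OTFNS5a
import Cfsg.Agent.Lib.Helper93.OTFNS5bAux

/-! K-OTF-NS5b (S3999 pack, keystone 399909), exact spec signature. -/

set_option autoImplicit false
open Cfsg

namespace Cfsg.Agent.Lib.Helper93.OTF

theorem card_order_five_of_structure {C : Type*} [Group C] [Finite C]
    (h : ∃ G₀ : Subgroup C, G₀.Normal ∧ (G₀.index = 1 ∨ G₀.index = 2) ∧
      ∃ S M : Subgroup C, S ⊔ M = G₀ ∧ S ⊓ M = ⊥ ∧ (∀ s ∈ S, ∀ x ∈ M, s * x = x * s) ∧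
        Nonempty (S ≃* Matrix.SpecialLinearGroup (Fin 2) (ZMod 5)) ∧
        (∀ (p : ℕ) [Fact p.Prime] (P : Sylow p M), IsCyclic P) ∧ (Nat.card M).Coprime 30) :
    (Nat.card C).factorization 5 = 1 ∧ Nat.card {x : C // orderOf x = 5} = 24 :=
  card_order_five_of_structure_aux sl25_card_order_five.1 sl25_card_order_five.2 h

end Cfsg.Agent.Lib.Helper93.OTF
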