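import Mathlib
import Cfsg.Prelude.Def_Characters
import Cfsg.Prelude.Def_Blocks
import Cfsg.Prelude.Def_CharExt
import Cfsg.Agent.Lib.Helper34.PSLDefs
import Cfsg.Agent.Lib.Helper80.DetCanon
import Cfsg.Agent.Lib.Helper80.GaloisChar
import Cfsg.Agent.Lib.Helper84.DetGalois
import Cfsg.Agent.Lib.Helper05.PRat
import Cfsg.Agent.Lib.Helper05.CharDegree
import Cfsg.Agent.Lib.Helper83.Quotient
import Cfsg.Agent.S4488

/-!
# S4472 keystone K3: the primitive case (canonical extension is `p`-rational + Schur's bound)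
-/

set_option autoImplicit false
set_option linter.style.haveILetI false

namespace Cfsg.Agent.Lib.Helper93.PSL

open Cfsg Cfsg.Agent.Lib.Helper34.PSL Cfsg.Agent.Lib.Helper83

universe u

/-- **K-S4472-3** (primitive case). -/
theorem primitive_bound {X : Type u} [Group X] [Finite X] (p : ℕ) [Fact p.Prime] (H : Subgroup X)
    [hHn : H.Normal] (hH : (Nat.card H).Coprime p) (hXH : ∃ k : ℕ, H.index = p ^ k) {θ : H → ℂ}
    (hθ : IsIrrCharacter H θ)
    (hinv : ∀ (g : X) (h : H), θ ⟨g * h * g⁻¹, hHn.conj_mem h h.2 g⟩ = θ h) (d : ℕ) (hd : θ 1 = d)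
    (K : Subgroup X) [K.Normal] (hK : ∀ h : H, θ h = θ 1 → (h : X) ∈ K) :
    ((cenQuot H K).index).factorization p ≤ lam p d := by
  classical
  have hp : p.Prime := Fact.out
  letI : Fintype X := Fintype.ofFinite X
  obtain ⟨k₀, hk₀⟩ := hXH
  -- coprimality for the canonical extension
  have hcop : Nat.Coprime H.index (Cfsg.detOrder θ * d) := by
    rw [hk₀]
    apply Nat.Coprime.pow_left
    apply Nat.Coprime.mul_right
    · exact (hH.coprime_dvd_left (Cfsg.Agent.Lib.Helper80.detOrder_dvd_card θ)).symm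
    · obtain ⟨d', _, hd'1, hd'2⟩ := Cfsg.Agent.Lib.Helper05.exists_degree_dvd hθ
      have : d' = d := by
        have h1 : ((d' : ℕ) : ℂ) = (d : ℂ) := by rw [← hd'1, hd]
        exact_mod_cast h1
      rw [← this]
      exact (hH.coprime_dvd_left hd'2).symm
  obtain ⟨χ, ⟨hχ, hχres, hχord⟩, huniq⟩ :=
    Cfsg.Agent.Lib.Helper80.exists_canonical_ext H θ hθ hinv d hd hcop
  have hχc : IsCharacter X χ := isCharacter_of_irr hχ
  -- the canonical extension is `p`-rational
  have hHdvd : Nat.card H ∣ ordCompl[p] (Nat.card X) := by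
    have h1 : Nat.card H ∣ Nat.card X := Subgroup.card_subgroup_dvd_card H
    have h2 : Nat.card H ∣ p ^ (Nat.card X).factorization p * ordCompl[p] (Nat.card X) := by
      rw [Nat.ordProj_mul_ordCompl_eq_self]; exact h1
    exact (Nat.Coprime.pow_right _ hH).dvd_of_dvd_mul_left h2
  have hPR : Cfsg.Agent.Lib.Helper05.PRat.PR p χ := by
    intro k hk hk1 g
    have hk1' : k ≡ 1 [MOD Nat.card H] := hk1.of_dvd hHdvd
    have hσ : ∀ n : H, θ (n ^ k) = θ n := by
      intro n
      have h1 : n ^ k = n ^ 1 :=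
        pow_eq_pow_iff_modEq.mpr (hk1'.of_dvd (orderOf_dvd_natCard n))
      rw [h1, pow_one]
    have h1 : IsIrrCharacter X (fun g => χ (g ^ k)) :=
      Cfsg.Agent.Lib.Helper80.isIrrCharacter_pow_coprime hχ k hk
    have h2 : ∀ n : H, (fun g => χ (g ^ k)) (n : X) = θ n := by
      intro n
      have h3 : ((n : X) ^ k) = ((n ^ k : H) : X) := by simp
      show χ ((n : X) ^ k) = θ n
      rw [h3, hχres, hσ]
    have h3 : Nat.Coprime H.index (Cfsg.detOrder (fun g => χ (g ^ k))) := by
      apply Nat.Coprime.coprime_dvd_right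
        (Cfsg.Agent.Lib.Helper84.detOrder_pow_coprime_dvd hχc k hk)
      rw [hχord]
      exact Nat.Coprime.coprime_mul_right_right hcop
    have h4 := huniq _ h1 h2 h3
    exact congrFun h4 g
  have hval := Cfsg.Agent.Lib.Helper05.PRat.mem_adjoin_of_pr p hχc hPR
  -- deflate to the quotient by the kernel
  set N : Subgroup X := charKer hχc with hN
  obtain ⟨ψ, hψ, hψmk⟩ := exists_isIrrCharacter_quotient N hχ
    (fun n hn => (mem_charKer hχc n).mp hn)
  have hψc : IsCharacter (X ⧸ N) ψ := isCharacter_of_irr hψ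
  have hψ1 : ψ 1 = χ 1 := by
    have := hψmk 1
    rwa [QuotientGroup.mk_one] at this
  have hχ1 : χ 1 = d := by
    have := hχres 1
    rw [Subgroup.coe_one] at this
    rw [this, hd]
  have hfaith : ∀ q : X ⧸ N, ψ q = ψ 1 → q = 1 := by
    intro q hq
    obtain ⟨g, rfl⟩ := QuotientGroup.mk_surjective q
    rw [hψmk, hψ1] at hq
    exact (QuotientGroup.eq_one_iff g).mpr ((mem_charKer hχc g).mpr hq)
  have hcard0 : Nat.card X ≠ 0 := Nat.card_pos.ne'
  have hrat : ∃ r : ℕ, 0 < r ∧ ¬ p ∣ r ∧ ∀ q : X ⧸ N, ψ q ∈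
      IntermediateField.adjoin ℚ ({Complex.exp (2 * Real.pi * Complex.I / r)} : Set ℂ) := by
    refine ⟨ordCompl[p] (Nat.card X), Nat.ordCompl_pos p hcard0, Nat.not_dvd_ordCompl hp hcard0, ?_⟩
    intro q
    obtain ⟨g, rfl⟩ := QuotientGroup.mk_surjective q
    rw [hψmk]
    exact hval g
  have hdeg : Cfsg.charDegree ψ = d := by
    unfold Cfsg.charDegree
    rw [hψ1, hχ1]
    simp
  have hS := Cfsg.Agent.S4488.result p hp ψ hψc hfaith hrat d hdeg
  -- the kernel acts trivially on `H` mod `K`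
  have hNle : N ≤ cenQuot H K := by
    apply le_cenQuot_of_inf_le H K N
    rintro x ⟨hxN, hxH⟩
    have h1 : χ x = χ 1 := (mem_charKer hχc x).mp hxN
    have h2 : θ ⟨x, hxH⟩ = θ 1 := by
      rw [← hχres ⟨x, hxH⟩, hd, ← hχ1]
      exact h1
    exact hK ⟨x, hxH⟩ h2
  have hdvd : (cenQuot H K).index ∣ N.index := Subgroup.index_dvd_of_le hNle
  have hle : ((cenQuot H K).index).factorization p ≤ (N.index).factorization p :=
    (Nat.factorization_le_iff_dvd Subgroup.index_ne_zero_of_finite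
      Subgroup.index_ne_zero_of_finite).mpr hdvd p
  rw [Subgroup.index_eq_card] at hle
  exact hle.trans hS

end Cfsg.Agent.Lib.Helper93.PSL
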