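import Mathlib
import Cfsg.Agent.Lib.Helper48.RSpDefs2

/-!
# K-RSp pack (S2281), leaf E2 (228115): closure properties of the set `TG G` of transvection centres
-/

set_option autoImplicit false
set_option linter.unusedVariables false

namespace Cfsg.Agent.Lib.Helper93.RSp

open Matrix Cfsg.Agent.Lib.Helper48.RSp Cfsg.Agent.Lib.Helper18

theorem TG_zero {m : ℕ} {F : Type*} [Field F] (G : Subgroup (SpG m F)) :
    (0 : Fin (m + 2) ⊕ Fin (m + 2) → F) ∈ TG G := by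
  intro a
  rw [Cfsg.Agent.Lib.Helper11.SpPerfect.tv_zero_left]
  exact G.one_mem

theorem TG_mulVec {m : ℕ} {F : Type*} [Field F] {G : Subgroup (SpG m F)}
    {v : Fin (m + 2) ⊕ Fin (m + 2) → F} (hv : v ∈ TG G) (g : SpG m F) (hg : g ∈ G) :
    (g : BM m F) *ᵥ v ∈ TG G := by
  intro a
  rw [← Cfsg.Agent.Lib.Helper11.SpPerfect.conj_tv]
  exact G.mul_mem (G.mul_mem hg (hv a)) (G.inv_mem hg)

theorem TG_hyp {m : ℕ} {F : Type*} [Field F] {G : Subgroup (SpG m F)}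
    {v w : Fin (m + 2) ⊕ Fin (m + 2) → F} (hv : v ∈ TG G) (hw : w ∈ TG G)
    (h : Cfsg.sympForm (m + 2) F v w ≠ 0) (s : F) : v + s • w ∈ TG G := by
  have h1 := TG_mulVec hv (tv (m + 2) w (s / Cfsg.sympForm (m + 2) F v w))
    (hw (s / Cfsg.sympForm (m + 2) F v w))
  have h2 : ((tv (m + 2) w (s / Cfsg.sympForm (m + 2) F v w) : SpG m F) : BM m F) *ᵥ v =
      v + s • w := by
    have := Cfsg.Agent.Lib.Helper11.SpPerfect.tv_act (m + 2) w
      (s / Cfsg.sympForm (m + 2) F v w) v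
    rw [div_mul_cancel₀ _ h] at this
    exact this
  rw [h2] at h1
  exact h1

theorem TG_smul {m : ℕ} {F : Type*} [Field F] {G : Subgroup (SpG m F)}
    {v : Fin (m + 2) ⊕ Fin (m + 2) → F} (hv : v ∈ TG G) (a : F) : a • v ∈ TG G := by
  intro c
  rw [Cfsg.Agent.Lib.Helper11.SpPerfect.tv_smul]
  exact hv _

/-- if `g v ∈ T` then `v ∈ T` -/
theorem TG_of_mulVec {m : ℕ} {F : Type*} [Field F] {G : Subgroup (SpG m F)}
    {v : Fin (m + 2) ⊕ Fin (m + 2) → F} (g : SpG m F) (hg : g ∈ G)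
    (hv : (g : BM m F) *ᵥ v ∈ TG G) : v ∈ TG G := by
  have h1 := TG_mulVec hv g⁻¹ (G.inv_mem hg)
  rw [inv_mulVec_mulVec] at h1
  exact h1

end Cfsg.Agent.Lib.Helper93.RSp
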