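import Cfsg.Agent.Lib.Helper10.M24Mem

/-!
Rigidity certificates for the group `Cfsg.M24` of the length-24 code: an octad with at least five
points fixed by `g ∈ M24` is mapped onto itself by `g`; refining a partition of the 24 points into
`g`-invariant cells by such octads until all cells are singletons proves `g = 1`.
Masks follow `Cfsg.Agent.Lib.Helper10`: bit `i` is the residue `i`, bit `23` the extra point.
-/

set_option autoImplicit false

namespace Cfsg.Agent.Lib.Helper93

open Cfsg Cfsg.Agent.Lib.Helper10
open scoped Pointwise

/-! ### Counting bits -/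

/-- number of one bits among the lowest `n` bits. -/
def pc : ℕ → ℕ → ℕ
  | 0, _ => 0
  | k + 1, m => m % 2 + pc k (m / 2)

theorem pc_eq_sum (n m : ℕ) :
    pc n m = ∑ i ∈ Finset.range n, if m.testBit i then 1 else 0 := by
  induction n generalizing m with
  | zero => simp [pc]
  | succ k ih =>
    rw [pc, ih, Finset.sum_range_succ']
    simp only [Nat.testBit_succ, Nat.testBit_zero]
    have : m % 2 = if decide (m % 2 = 1) = true then 1 else 0 := by
      rcases Nat.mod_two_eq_zero_or_one m with h | h <;> simp [h]
    omega

theorem card_support_vec (m : ℕ) : (support₂ (vec m)).card = pc 24 m := by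
  rw [pc_eq_sum, ← Finset.card_filter, ← Finset.card_image_of_injective _ idx_injective]
  congr 1
  ext i
  simp only [Finset.mem_image, Finset.mem_filter, Finset.mem_range, mem_support₂, vec_apply]
  constructor
  · rintro ⟨p, hp, rfl⟩
    refine ⟨idx_lt p, ?_⟩
    by_contra h
    simp [h] at hp
  · rintro ⟨hi, h⟩
    refine ⟨pt i, ?_, idx_pt hi⟩
    rw [idx_pt hi, h]
    simp

theorem mem_support_vec (m : ℕ) (p : GolayPt) :
    p ∈ support₂ (vec m) ↔ m.testBit (idx p) = true := by
  rw [mem_support₂, vec_apply]
  by_cases h : m.testBit (idx p) = true <;> simp [h]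

/-! ### Minimum weight -/

theorem minWeight_masks :
    (List.range 4096).all (fun k => (enc k == 0) || decide (8 ≤ pc 24 (enc k))) = true := by
  decide +kernel

theorem wmask_eq_zero {w : GolayPt → ZMod 2} (h : wmask w = 0) : w = 0 := by
  rw [← vec_wmask w, h, vec_zero]

theorem minWeight {w : GolayPt → ZMod 2} (hw : w ∈ golayCode) (h0 : w ≠ 0) :
    8 ≤ (support₂ w).card := by
  have h := forall_code_bool (fun m => (m == 0) || decide (8 ≤ pc 24 m)) minWeight_masks w hw
  simp only [Bool.or_eq_true, beq_iff_eq, decide_eq_true_eq] at h
  rcases h with h | h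
  · exact absurd (wmask_eq_zero h) h0
  · rw [← vec_wmask w, card_support_vec]
    exact h

/-! ### Invariant and fixed masks -/

/-- the set of points with mask `m` is mapped onto itself by `g`. -/
def Inv (g : Equiv.Perm GolayPt) (m : ℕ) : Prop :=
  ∀ p : GolayPt, m.testBit (idx (g p)) = m.testBit (idx p)

/-- every point of the mask `F` is fixed by `g`. -/
def Fixed (g : Equiv.Perm GolayPt) (F : ℕ) : Prop :=
  ∀ p : GolayPt, F.testBit (idx p) = true → g p = p

theorem inv_and {g : Equiv.Perm GolayPt} {a b : ℕ} (ha : Inv g a) (hb : Inv g b) :
    Inv g (a &&& b) := by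
  intro p; rw [Nat.testBit_and, Nat.testBit_and, ha p, hb p]

theorem inv_xor {g : Equiv.Perm GolayPt} {a b : ℕ} (ha : Inv g a) (hb : Inv g b) :
    Inv g (a ^^^ b) := by
  intro p; rw [Nat.testBit_xor, Nat.testBit_xor, ha p, hb p]

theorem inv_full (g : Equiv.Perm GolayPt) : Inv g (2 ^ 24 - 1) := by
  intro p
  have h : ∀ q : GolayPt, (2 ^ 24 - 1 : ℕ).testBit (idx q) = true := by decide
  rw [h, h]

theorem inv_single {g : Equiv.Perm GolayPt} {p : GolayPt} (h : g p = p) : Inv g (2 ^ idx p) := by
  intro q
  rw [Nat.testBit_two_pow, Nat.testBit_two_pow]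
  congr 1
  apply propext
  constructor
  · intro e
    have : g p = g q := by rw [h]; exact idx_injective e
    exact congrArg idx (g.injective this)
  · intro e
    have : p = q := idx_injective e
    rw [← this, h]

theorem fixed_of_inv_single {g : Equiv.Perm GolayPt} {p : GolayPt} (h : Inv g (2 ^ idx p)) :
    g p = p := by
  have := h p
  rw [Nat.testBit_two_pow_self, Nat.testBit_two_pow] at this
  simp only [decide_eq_true_eq] at this
  exact (idx_injective this).symm

/-- the singleton cells among `cells`, as a mask of the lowest `n` bits. -/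
def fixedUpTo (cells : List ℕ) : ℕ → ℕ
  | 0 => 0
  | n + 1 => (if cells.contains (2 ^ n) then 2 ^ n else 0) ||| fixedUpTo cells n

theorem testBit_fixedUpTo (cells : List ℕ) (n i : ℕ) (h : (fixedUpTo cells n).testBit i = true) :
    2 ^ i ∈ cells := by
  induction n with
  | zero => simp [fixedUpTo] at h
  | succ k ih =>
    rw [fixedUpTo, Nat.testBit_or, Bool.or_eq_true] at h
    rcases h with h | h
    · split at h
      · rename_i hc
        rw [Nat.testBit_two_pow] at h
        simp only [decide_eq_true_eq] at h
        subst h
        simpa using hc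
      · simp at h
    · exact ih h

theorem fixed_of_cells {g : Equiv.Perm GolayPt} {cells : List ℕ} (h : ∀ c ∈ cells, Inv g c)
    (n : ℕ) : Fixed g (fixedUpTo cells n) := by
  intro p hp
  exact fixed_of_inv_single (h _ (testBit_fixedUpTo cells n _ hp))

/-! ### Octads with five fixed points -/

/-- `O` is the mask of a code word of weight 8 with at least five points in `F`. -/
def okOct (F O : ℕ) : Bool :=
  decide (O < 2 ^ 24) && (enc O == O) && (pc 24 O == 8) && decide (5 ≤ pc 24 (O &&& F))

theorem support₂_add (v w : GolayPt → ZMod 2) :
    support₂ (v + w) = symmDiff (support₂ v) (support₂ w) := by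
  ext p
  rw [Finset.mem_symmDiff, mem_support₂, mem_support₂, mem_support₂, Pi.add_apply]
  rcases zmod2_cases (v p) with h1 | h1 <;> rcases zmod2_cases (w p) with h2 | h2 <;>
    simp [h1, h2] <;> decide

theorem oct_inv {g : Equiv.Perm GolayPt} (hg : g ∈ M24) {F O : ℕ} (hF : Fixed g F)
    (hO : okOct F O = true) : Inv g O := by
  simp only [okOct, Bool.and_eq_true, decide_eq_true_eq, beq_iff_eq] at hO
  obtain ⟨⟨⟨hlt, henc⟩, hpc⟩, h5⟩ := hO
  have hw : vec O ∈ golayCode := (vec_mem_golayCode_iff hlt).mpr henc
  have hw' : permWord g (vec O) ∈ golayCode := permWord_mem_of_mem_M24 hg _ hw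
  have hs' : support₂ (permWord g (vec O)) = g • support₂ (vec O) := (smul_support₂ g _).symm
  have hc : (support₂ (vec O)).card = 8 := by rw [card_support_vec, hpc]
  have hc' : (support₂ (permWord g (vec O))).card = 8 := by
    rw [hs', Finset.card_smul_finset, hc]
  -- the common part
  have hT1 : support₂ (vec (O &&& F)) ⊆ support₂ (vec O) := by
    intro p hp
    rw [mem_support_vec, Nat.testBit_and, Bool.and_eq_true] at hp
    rw [mem_support_vec]
    exact hp.1
  have hT2 : support₂ (vec (O &&& F)) ⊆ support₂ (permWord g (vec O)) := by
    intro p hp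
    have hp1 := hT1 hp
    rw [mem_support_vec, Nat.testBit_and, Bool.and_eq_true] at hp
    have hgp : g p = p := hF p hp.2
    have hmem : g p ∈ g • support₂ (vec O) := Finset.smul_mem_smul_finset hp1
    rw [hs']
    rw [hgp] at hmem
    exact hmem
  have hT : 5 ≤ (support₂ (vec O) ∩ support₂ (permWord g (vec O))).card := by
    calc 5 ≤ (support₂ (vec (O &&& F))).card := by rw [card_support_vec]; exact h5
      _ ≤ _ := Finset.card_le_card (Finset.subset_inter hT1 hT2)
  -- the sum of the two words is a code word of weight at most 6
  have hsum : vec O + permWord g (vec O) = 0 := by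
    by_contra hne
    have h8 := minWeight (golayCode.add_mem hw hw') hne
    rw [support₂_add] at h8
    have hsd : (symmDiff (support₂ (vec O)) (support₂ (permWord g (vec O)))).card
        + 2 * (support₂ (vec O) ∩ support₂ (permWord g (vec O))).card = 16 := by
      have h1 := Finset.card_sdiff_add_card_inter (support₂ (vec O))
        (support₂ (permWord g (vec O)))
      have h2 := Finset.card_sdiff_add_card_inter (support₂ (permWord g (vec O)))
        (support₂ (vec O))
      have h3 : (symmDiff (support₂ (vec O)) (support₂ (permWord g (vec O)))).card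
          = (support₂ (vec O) \ support₂ (permWord g (vec O))).card
            + (support₂ (permWord g (vec O)) \ support₂ (vec O)).card := by
        rw [symmDiff_def, Finset.sup_eq_union]
        apply Finset.card_union_of_disjoint
        rw [Finset.disjoint_left]
        intro p hp1 hp2
        rw [Finset.mem_sdiff] at hp1 hp2
        exact hp1.2 hp2.1
      rw [Finset.inter_comm (support₂ (permWord g (vec O)))] at h2
      omega
    omega
  have heq : permWord g (vec O) = vec O := by
    have h := congrArg (fun x => x + vec O) hsum
    simp only [zero_add] at h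
    rw [add_comm (vec O), add_assoc] at h
    have h2 : vec O + vec O = 0 := by
      funext p
      rcases zmod2_cases (vec O p) with h1 | h1 <;> simp [h1] <;> decide
    rw [h2, add_zero] at h
    exact h
  intro p
  have := congrFun heq (g p)
  rw [permWord_apply, Equiv.symm_apply_apply, vec_apply, vec_apply] at this
  by_cases h1 : O.testBit (idx p) = true <;> by_cases h2 : O.testBit (idx (g p)) = true
  · rw [h1, h2]
  · simp [h1, h2] at this
  · simp [h1, h2] at this
  · simp only [Bool.not_eq_true] at h1 h2; rw [h1, h2]

/-! ### The refinement procedure -/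

/-- split every cell by the mask `O`. -/
def refine (cells : List ℕ) (O : ℕ) : List ℕ :=
  (cells.flatMap (fun c => [c &&& O, c ^^^ (c &&& O)])).filter (fun c => c != 0)

/-- refine by each octad of the list in turn, checking each time that five of its points are
already singleton cells. -/
def run : List ℕ → List ℕ → Option (List ℕ)
  | cells, [] => some cells
  | cells, O :: os => if okOct (fixedUpTo cells 24) O then run (refine cells O) os else none

theorem run_inv {g : Equiv.Perm GolayPt} (hg : g ∈ M24) (octs : List ℕ) :
    ∀ cells cells' : List ℕ, (∀ c ∈ cells, Inv g c) → run cells octs = some cells' →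
      ∀ c ∈ cells', Inv g c := by
  induction octs with
  | nil =>
    intro cells cells' h hr
    simp only [run, Option.some.injEq] at hr
    subst hr
    exact h
  | cons O os ih =>
    intro cells cells' h hr
    rw [run] at hr
    split at hr
    · rename_i hok
      have hO : Inv g O := oct_inv hg (fixed_of_cells h 24) hok
      apply ih (refine cells O) cells' _ hr
      intro c hc
      simp only [refine, List.mem_filter, List.mem_flatMap, List.mem_cons, List.not_mem_nil,
        or_false] at hc
      obtain ⟨⟨a, ha, rfl | rfl⟩, _⟩ := hc
      · exact inv_and (h a ha) hO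
      · exact inv_xor (h a ha) (inv_and (h a ha) hO)
    · exact absurd hr (by simp)

/-- **Rigidity certificate**: if the cells `cells` are invariant under `g ∈ M24` and refining them by
the octads `octs` ends with 24 singleton cells, then `g = 1`. -/
theorem eq_one_of_run {g : Equiv.Perm GolayPt} (hg : g ∈ M24) (cells octs cells' : List ℕ)
    (h : ∀ c ∈ cells, Inv g c) (hr : run cells octs = some cells')
    (hfull : fixedUpTo cells' 24 = 2 ^ 24 - 1) : g = 1 := by
  have hfix := fixed_of_cells (run_inv hg octs cells cells' h hr) 24
  rw [hfull] at hfix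
  ext p
  have h : ∀ q : GolayPt, (2 ^ 24 - 1 : ℕ).testBit (idx q) = true := by decide
  rw [hfix p (h p)]
  rfl

/-- Boolean form of the certificate. -/
def certOk (cells octs : List ℕ) : Bool :=
  match run cells octs with
  | some cells' => fixedUpTo cells' 24 == 2 ^ 24 - 1
  | none => false

theorem eq_one_of_cert {g : Equiv.Perm GolayPt} (hg : g ∈ M24) (cells octs : List ℕ)
    (h : ∀ c ∈ cells, Inv g c) (hc : certOk cells octs = true) : g = 1 := by
  unfold certOk at hc
  split at hc
  · rename_i cells' hr
    exact eq_one_of_run hg cells octs cells' h hr (by simpa using hc)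
  · exact absurd hc (by simp)

end Cfsg.Agent.Lib.Helper93
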