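import Cfsg.Agent.Lib.Helper93.Rigid

/-!
A second rule for rigidity certificates in `Cfsg.M24`: a code word which is the only code word
meeting each cell of a `g`-invariant partition in the given numbers of points is mapped to itself
by `g ∈ M24`.
-/

set_option autoImplicit false

namespace Cfsg.Agent.Lib.Helper93

open Cfsg Cfsg.Agent.Lib.Helper10
open scoped Pointwise

theorem inv_symm {g : Equiv.Perm GolayPt} {m : ℕ} (h : Inv g m) (p : GolayPt) :
    m.testBit (idx (g.symm p)) = m.testBit (idx p) := by
  have := h (g.symm p)
  rw [Equiv.apply_symm_apply] at this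
  exact this.symm

theorem smul_support_of_inv {g : Equiv.Perm GolayPt} {m : ℕ} (h : Inv g m) :
    g • support₂ (vec m) = support₂ (vec m) := by
  ext p
  rw [← Finset.inv_smul_mem_iff, mem_support_vec, mem_support_vec]
  have : g⁻¹ • p = g.symm p := rfl
  rw [this, inv_symm h]

theorem inv_of_smul_support {g : Equiv.Perm GolayPt} {m : ℕ}
    (h : g • support₂ (vec m) = support₂ (vec m)) : Inv g m := by
  intro p
  have h1 : g p ∈ g • support₂ (vec m) ↔ p ∈ support₂ (vec m) :=
    Finset.smul_mem_smul_finset_iff g
  rw [h, mem_support_vec, mem_support_vec] at h1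
  cases h2 : m.testBit (idx p) <;> cases h3 : m.testBit (idx (g p)) <;> simp_all

theorem inv_mul {g h : Equiv.Perm GolayPt} {m : ℕ} (hg : Inv g m) (hh : Inv h m) :
    Inv (g * h) m := by
  intro p
  rw [Equiv.Perm.mul_apply, hg, hh]

theorem inv_inv {g : Equiv.Perm GolayPt} {m : ℕ} (hg : Inv g m) : Inv g⁻¹ m := by
  intro p
  exact inv_symm hg p

/-- the image under `g` of the word with mask `m` meets an invariant cell in as many points as the
word does. -/
theorem pc_permWord_and {g : Equiv.Perm GolayPt} {c : ℕ} (hc : Inv g c) (m : ℕ) :
    pc 24 (wmask (permWord g (vec m)) &&& c) = pc 24 (m &&& c) := by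
  rw [← card_support_vec, ← card_support_vec]
  have : support₂ (vec (wmask (permWord g (vec m)) &&& c)) = g • support₂ (vec (m &&& c)) := by
    ext p
    rw [← Finset.inv_smul_mem_iff, mem_support_vec, mem_support_vec]
    have e : g⁻¹ • p = g.symm p := rfl
    rw [e, Nat.testBit_and, Nat.testBit_and, inv_symm hc, testBit_wmask, permWord_apply,
      vec_apply]
    cases m.testBit (idx (g.symm p)) <;> simp
  rw [this, Finset.card_smul_finset]

/-- `m` is the mask of a code word, the only one with its numbers of points in the cells. -/
def uniqOk (cells : List ℕ) (m : ℕ) : Bool :=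
  decide (m < 2 ^ 24) && (enc m == m) &&
    (List.range 4096).all (fun k =>
      !(cells.all (fun c => pc 24 (enc k &&& c) == pc 24 (m &&& c))) || (enc k == m))

theorem inv_of_permWord_eq {g : Equiv.Perm GolayPt} {m : ℕ} (heq : permWord g (vec m) = vec m) :
    Inv g m := by
  intro p
  have := congrFun heq (g p)
  rw [permWord_apply, Equiv.symm_apply_apply, vec_apply, vec_apply] at this
  by_cases h1 : m.testBit (idx p) = true <;> by_cases h2 : m.testBit (idx (g p)) = true
  · rw [h1, h2]
  · simp [h1, h2] at this
  · simp [h1, h2] at this
  · simp only [Bool.not_eq_true] at h1 h2; rw [h1, h2]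

theorem inv_of_uniq {g : Equiv.Perm GolayPt} (hg : g ∈ M24) {cells : List ℕ}
    (hc : ∀ c ∈ cells, Inv g c) {m : ℕ} (hm : uniqOk cells m = true) : Inv g m := by
  simp only [uniqOk, Bool.and_eq_true, decide_eq_true_eq, beq_iff_eq] at hm
  obtain ⟨⟨hlt, henc⟩, hall⟩ := hm
  have hw : vec m ∈ golayCode := (vec_mem_golayCode_iff hlt).mpr henc
  have hw' : permWord g (vec m) ∈ golayCode := permWord_mem_of_mem_M24 hg _ hw
  have h := forall_code_bool
    (fun x => !(cells.all (fun c => pc 24 (x &&& c) == pc 24 (m &&& c))) || (x == m)) hall _ hw'
  simp only [Bool.or_eq_true, Bool.not_eq_true', beq_iff_eq] at h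
  rcases h with h | h
  · exfalso
    have : cells.all (fun c => pc 24 (wmask (permWord g (vec m)) &&& c) == pc 24 (m &&& c))
        = true := by
      rw [List.all_eq_true]
      intro c hcc
      rw [beq_iff_eq]
      exact pc_permWord_and (hc c hcc) m
    rw [this] at h
    exact absurd h (by simp)
  · apply inv_of_permWord_eq
    rw [← vec_wmask (permWord g (vec m)), h]

/-- refine by each code word of the list in turn, each being either an octad with five points
that are already singleton cells, or the only code word with its numbers of points in the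
cells. -/
def run2 : List ℕ → List ℕ → Option (List ℕ)
  | cells, [] => some cells
  | cells, O :: os =>
    if okOct (fixedUpTo cells 24) O || uniqOk cells O then run2 (refine cells O) os else none

theorem run2_inv {g : Equiv.Perm GolayPt} (hg : g ∈ M24) (octs : List ℕ) :
    ∀ cells cells' : List ℕ, (∀ c ∈ cells, Inv g c) → run2 cells octs = some cells' →
      ∀ c ∈ cells', Inv g c := by
  induction octs with
  | nil =>
    intro cells cells' h hr
    simp only [run2, Option.some.injEq] at hr
    subst hr
    exact h
  | cons O os ih =>
    intro cells cells' h hr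
    rw [run2] at hr
    split at hr
    · rename_i hok
      have hO : Inv g O := by
        rw [Bool.or_eq_true] at hok
        rcases hok with hok | hok
        · exact oct_inv hg (fixed_of_cells h 24) hok
        · exact inv_of_uniq hg h hok
      apply ih (refine cells O) cells' _ hr
      intro c hc
      simp only [refine, List.mem_filter, List.mem_flatMap, List.mem_cons, List.not_mem_nil,
        or_false] at hc
      obtain ⟨⟨a, ha, rfl | rfl⟩, _⟩ := hc
      · exact inv_and (h a ha) hO
      · exact inv_xor (h a ha) (inv_and (h a ha) hO)
    · exact absurd hr (by simp)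

/-- Boolean form of the certificate with both rules. -/
def cert2Ok (cells octs : List ℕ) : Bool :=
  match run2 cells octs with
  | some cells' => fixedUpTo cells' 24 == 2 ^ 24 - 1
  | none => false

/-- **Rigidity certificate** with both rules. -/
theorem eq_one_of_cert2 {g : Equiv.Perm GolayPt} (hg : g ∈ M24) (cells octs : List ℕ)
    (h : ∀ c ∈ cells, Inv g c) (hc : cert2Ok cells octs = true) : g = 1 := by
  unfold cert2Ok at hc
  split at hc
  · rename_i cells' hr
    have hfix := fixed_of_cells (run2_inv hg octs cells cells' h hr) 24
    have hfull : fixedUpTo cells' 24 = 2 ^ 24 - 1 := by simpa using hc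
    rw [hfull] at hfix
    ext p
    have h : ∀ q : GolayPt, (2 ^ 24 - 1 : ℕ).testBit (idx q) = true := by decide
    rw [hfix p (h p)]
    rfl
  · exact absurd hc (by simp)

end Cfsg.Agent.Lib.Helper93
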