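import Mathlib
import Cfsg.Prelude.Def_JordanBlocks
import Cfsg.Agent.Lib.Helper73.UCDefs
import Cfsg.Agent.Lib.Helper73.SPCDefs

/-!
# K-SPC-C9 (keystone 267618): an element of the commutant of `nilM d F` with identity tops is unipotent
-/

set_option autoImplicit false

namespace Cfsg.Agent.Lib.Helper93.SPC

open Matrix Cfsg.Agent.Lib.Helper73.UC Cfsg.Agent.Lib.Helper73.SPC

/-- A matrix which strictly increases a rank function is nilpotent. -/
theorem isNilpotent_of_rank_lt {ι R : Type*} [Fintype ι] [DecidableEq ι] [Ring R]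
    (A : Matrix ι ι R) (r : ι → ℕ) (hA : ∀ i j, A i j ≠ 0 → r i < r j) : IsNilpotent A := by
  have key : ∀ n : ℕ, ∀ i j, (A ^ n) i j ≠ 0 → r i + n ≤ r j := by
    intro n
    induction n with
    | zero =>
      intro i j hij
      rw [pow_zero, Matrix.one_apply] at hij
      by_cases hh : i = j
      · subst hh; simp
      · rw [if_neg hh] at hij; exact absurd rfl hij
    | succ n ih =>
      intro i j hij
      rw [pow_succ, Matrix.mul_apply] at hij
      obtain ⟨k, _, hk⟩ := Finset.exists_ne_zero_of_sum_ne_zero hij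
      have h1 : (A ^ n) i k ≠ 0 := left_ne_zero_of_mul hk
      have h2 : A k j ≠ 0 := right_ne_zero_of_mul hk
      have := ih i k h1
      have := hA k j h2
      omega
  refine ⟨Finset.univ.sup r + 1, ?_⟩
  ext i j
  by_contra hne
  have h1 := key _ i j hne
  have h2 : r j ≤ Finset.univ.sup r := Finset.le_sup (Finset.mem_univ j)
  omega

variable {F : Type*} [Field F]

/-- LEAF C9 with the statement of C4 (for `h`) as a hypothesis. -/
theorem isNilpotent_sub_one_of_commute_of {t : ℕ} (d : Fin t → ℕ) (hd : ∀ k, 1 ≤ d k)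
    (h : Matrix (JI d) (JI d) F)
    (hC4 : ∀ (l k : Fin t) (b : Fin (d l)) (a : Fin (d k)),
      h ⟨l, b⟩ ⟨k, a⟩ =
        if hh : (a : ℕ) ≤ (b : ℕ) ∧ d l ≤ (b : ℕ) - (a : ℕ) + d k then
          h ⟨l, ⟨(b : ℕ) - (a : ℕ), by have := b.2; omega⟩⟩ ⟨k, ⟨0, by have := a.2; omega⟩⟩
        else 0)
    (htop : ∀ l k : Fin t, d l = d k →
      h ⟨l, ⟨0, hd l⟩⟩ ⟨k, ⟨0, hd k⟩⟩ = if l = k then 1 else 0) :
    IsNilpotent (h - 1) := by
  classical
  set M : ℕ := Finset.univ.sup d with hM
  have hdM : ∀ k, d k ≤ M := fun k => Finset.le_sup (Finset.mem_univ k)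
  refine isNilpotent_of_rank_lt (h - 1)
    (fun x : JI d => (d x.1 - (x.2 : ℕ)) * (M + 1) + (M - d x.1)) ?_
  rintro ⟨l, b⟩ ⟨k, a⟩ hne
  simp only
  have hb := b.2
  have ha := a.2
  have hl := hdM l
  have hk := hdM k
  rw [Matrix.sub_apply, hC4 l k b a] at hne
  by_cases hcond : (a : ℕ) ≤ (b : ℕ) ∧ d l ≤ (b : ℕ) - (a : ℕ) + d k
  · rw [dif_pos hcond] at hne
    obtain ⟨hab, hdl⟩ := hcond
    rcases Nat.lt_or_ge (d l - (b : ℕ)) (d k - (a : ℕ)) with hlt | hge
    · -- strictly smaller potential
      have h1 : (d l - (b : ℕ) + 1) * (M + 1) ≤ (d k - (a : ℕ)) * (M + 1) :=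
        Nat.mul_le_mul_right _ hlt
      rw [Nat.add_mul, Nat.one_mul] at h1
      omega
    · have heq : d l - (b : ℕ) = d k - (a : ℕ) := by omega
      rw [heq]
      rcases Nat.lt_or_ge (d k) (d l) with hlt | hge'
      · omega
      · exfalso
        have hdd : d l = d k := by omega
        have hba : (b : ℕ) = (a : ℕ) := by omega
        apply hne
        have e1 : (⟨(b : ℕ) - (a : ℕ), by omega⟩ : Fin (d l)) = ⟨0, hd l⟩ := by
          apply Fin.ext
          simp only
          omega
        have e2 : (⟨0, by omega⟩ : Fin (d k)) = ⟨0, hd k⟩ := rfl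
        rw [e1, htop l k hdd, Matrix.one_apply]
        by_cases hlk : l = k
        · subst hlk
          have : b = a := Fin.ext hba
          subst this
          simp
        · rw [if_neg hlk, if_neg]
          · simp
          · intro hcon
            apply hlk
            exact congrArg Sigma.fst hcon
  · rw [dif_neg hcond, Matrix.one_apply] at hne
    exfalso
    apply hne
    rw [if_neg]
    · simp
    · intro hcon
      apply hcond
      have h1 : l = k := congrArg Sigma.fst hcon
      subst h1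
      have h2 : b = a := eq_of_heq (Sigma.mk.inj hcon).2
      subst h2
      exact ⟨le_refl _, by omega⟩

end Cfsg.Agent.Lib.Helper93.SPC
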