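import Mathlib

/-!
# K-SPL-ISOQ (keystone 439411): a `p`-subgroup maps isomorphically into the quotient by a normal
`p'`-subgroup, and the generic cardinality formula for images (pure Mathlib).
-/

set_option autoImplicit false

namespace Cfsg.Agent.Lib.Helper93.SPL

theorem card_map_mul_card_inf_ker {G H : Type*} [Group G] [Group H] [Finite G] (f : G →* H)
    (Q : Subgroup G) : Nat.card (Q.map f) * Nat.card (Q ⊓ f.ker : Subgroup G) = Nat.card Q := by
  let g : ↥Q →* H := f.comp Q.subtype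
  have hrange : g.range = Q.map f := by
    ext y
    constructor
    · rintro ⟨x, rfl⟩
      exact ⟨x.1, x.2, rfl⟩
    · rintro ⟨x, hx, rfl⟩
      exact ⟨⟨x, hx⟩, rfl⟩
  have hker : Nat.card g.ker = Nat.card (Q ⊓ f.ker : Subgroup G) := by
    refine Nat.card_congr ⟨fun x => ⟨x.1.1, Subgroup.mem_inf.2 ⟨x.1.2, x.2⟩⟩,
      fun y => ⟨⟨y.1, (Subgroup.mem_inf.1 y.2).1⟩, (Subgroup.mem_inf.1 y.2).2⟩, ?_, ?_⟩
    · intro x; rfl
    · intro y; rfl
  have h1 : Nat.card ↥Q = Nat.card (↥Q ⧸ g.ker) * Nat.card g.ker :=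
    Subgroup.card_eq_card_quotient_mul_card_subgroup g.ker
  have h2 : Nat.card (↥Q ⧸ g.ker) = Nat.card g.range :=
    Nat.card_congr (QuotientGroup.quotientKerEquivRange g).toEquiv
  rw [h1, h2, hrange, hker]

theorem nonempty_mulEquiv_map_mk {G : Type*} [Group G] [Finite G] {p : ℕ} [Fact p.Prime] (N : Subgroup G)
    [N.Normal] (hN : (Nat.card N).Coprime p) (Q : Subgroup G) (hQ : IsPGroup p Q) :
    Nonempty (↥Q ≃* ↥(Q.map (QuotientGroup.mk' N))) := by
  have hdisj : Q ⊓ N = ⊥ := by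
    obtain ⟨n, hn⟩ := hQ.exists_card_eq
    have hcop : (Nat.card Q).Coprime (Nat.card N) := by
      rw [hn]
      exact (Nat.Coprime.pow_left n hN.symm)
    exact (Subgroup.disjoint_of_coprime_natCard hcop).eq_bot
  let φ : ↥Q →* ↥(Q.map (QuotientGroup.mk' N)) := (QuotientGroup.mk' N).subgroupMap Q
  have hsurj : Function.Surjective φ := (QuotientGroup.mk' N).subgroupMap_surjective Q
  have hinj : Function.Injective φ := by
    rw [injective_iff_map_eq_one]
    intro x hx
    have h1 : (QuotientGroup.mk' N) (x : G) = 1 := congrArg Subtype.val hx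
    have h2 : (x : G) ∈ N := by
      rwa [QuotientGroup.mk'_apply, QuotientGroup.eq_one_iff] at h1
    have h3 : (x : G) ∈ Q ⊓ N := Subgroup.mem_inf.2 ⟨x.2, h2⟩
    rw [hdisj, Subgroup.mem_bot] at h3
    exact Subtype.ext h3
  exact ⟨MulEquiv.ofBijective φ ⟨hinj, hsurj⟩⟩

end Cfsg.Agent.Lib.Helper93.SPL
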