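import Mathlib
import Cfsg.Prelude.Def_SolvableStructure
import Cfsg.Agent.Lib.Helper96.SS33Defs
import Cfsg.Agent.Lib.Helper12.Supersolvable
import Cfsg.Agent.Lib.Helper85.SS33A
import Cfsg.Agent.Lib.Helper78.SS33C
import Cfsg.Agent.Lib.Helper96.SS33D

/-!
# S3033, keystone E (glue): a minimal normal elementary abelian subgroup is cyclic

`isCyclic_of_hyp_of` is relative to the keystones A1 (lifting prime power elements), C
(quasi-scalar action) and D (`lin_main`), which enter as hypotheses; `isCyclic_of_hyp` plugs in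
the landed keystones.
-/

set_option autoImplicit false
set_option linter.style.haveILetI false
set_option linter.unusedSectionVars false

namespace Cfsg.Agent.Lib.Helper93.SS33

open Cfsg

universe u

section Setup

variable {G : Type u} [Group G] (N : Subgroup G) [hNn : N.Normal]

/-- conjugation by `g` on the normal subgroup `N` -/
def cjN (g : G) (n : ↥N) : ↥N := ⟨g * (n : G) * g⁻¹, hNn.conj_mem n n.2 g⟩

@[simp] theorem cjN_coe (g : G) (n : ↥N) : ((cjN N g n : ↥N) : G) = g * (n : G) * g⁻¹ := rfl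

theorem cjN_mul (g : G) (a b : ↥N) : cjN N g (a * b) = cjN N g a * cjN N g b := by
  apply Subtype.ext
  simp only [cjN_coe, Subgroup.coe_mul]
  group

theorem cjN_one_left (n : ↥N) : cjN N 1 n = n := by
  apply Subtype.ext
  simp

theorem cjN_mul_left (g h : G) (n : ↥N) : cjN N (g * h) n = cjN N g (cjN N h n) := by
  apply Subtype.ext
  simp only [cjN_coe]
  group

end Setup

section Core

variable {G : Type u} [Group G] [Finite G] (q : ℕ) [Fact q.Prime]
  (N : Subgroup G) [hNn : N.Normal]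
  {V : Type u} [AddCommGroup V] [Module (ZMod q) V] (e : ↥N ≃ V)

theorem e_one (he : ∀ a b : ↥N, e (a * b) = e a + e b) : e 1 = 0 := by
  have := he 1 1
  rw [mul_one] at this
  exact left_eq_add.mp this

theorem e_inv (he : ∀ a b : ↥N, e (a * b) = e a + e b) (a : ↥N) : e a⁻¹ = - e a := by
  have := he a a⁻¹
  rw [mul_inv_cancel, e_one N e he] at this
  exact eq_neg_of_add_eq_zero_right this.symm

theorem e_div (he : ∀ a b : ↥N, e (a * b) = e a + e b) (a b : ↥N) : e (a * b⁻¹) = e a - e b := by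
  rw [he, e_inv N e he, sub_eq_add_neg]

theorem e_pow (he : ∀ a b : ↥N, e (a * b) = e a + e b) (a : ↥N) (k : ℕ) : e (a ^ k) = k • e a := by
  induction k with
  | zero => rw [pow_zero, zero_smul]; exact e_one N e he
  | succ k ih => rw [pow_succ, he, ih, succ_nsmul]

theorem e_symm_add (he : ∀ a b : ↥N, e (a * b) = e a + e b) (v w : V) :
    e.symm (v + w) = e.symm v * e.symm w := by
  apply e.injective
  rw [he, Equiv.apply_symm_apply, Equiv.apply_symm_apply, Equiv.apply_symm_apply]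

/-- the conjugation action of `g` on `V`, as an additive map -/
def cjV (he : ∀ a b : ↥N, e (a * b) = e a + e b) (g : G) : V →+ V where
  toFun v := e (cjN N g (e.symm v))
  map_zero' := by
    have h0 : e.symm (0 : V) = 1 := by
      apply e.injective
      rw [Equiv.apply_symm_apply, e_one N e he]
    rw [h0]
    have : cjN N g 1 = 1 := by
      apply Subtype.ext
      simp
    rw [this, e_one N e he]
  map_add' v w := by
    rw [e_symm_add N e he, cjN_mul, he]

theorem cjV_apply (he : ∀ a b : ↥N, e (a * b) = e a + e b) (g : G) (v : V) :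
    cjV N e he g v = e (cjN N g (e.symm v)) := rfl

/-- the conjugation representation of `G` on `V` -/
def rho0 (he : ∀ a b : ↥N, e (a * b) = e a + e b) : G →* Module.End (ZMod q) V where
  toFun g := AddMonoidHom.toZModLinearMap q (cjV N e he g)
  map_one' := by
    apply LinearMap.ext
    intro v
    have e1 : (AddMonoidHom.toZModLinearMap q (cjV N e he 1)) v = e (cjN N 1 (e.symm v)) := rfl
    have e3 : e (cjN N 1 (e.symm v)) = v := by rw [cjN_one_left, Equiv.apply_symm_apply]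
    exact e1.trans e3
  map_mul' g h := by
    apply LinearMap.ext
    intro v
    have e1 : (AddMonoidHom.toZModLinearMap q (cjV N e he (g * h))) v =
        e (cjN N (g * h) (e.symm v)) := rfl
    have e3 : e (cjN N (g * h) (e.symm v)) =
        (AddMonoidHom.toZModLinearMap q (cjV N e he g))
          ((AddMonoidHom.toZModLinearMap q (cjV N e he h)) v) := by
      rw [cjN_mul_left]
      show _ = e (cjN N g (e.symm (e (cjN N h (e.symm v)))))
      rw [Equiv.symm_apply_apply]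
    exact e1.trans e3

theorem rho0_apply (he : ∀ a b : ↥N, e (a * b) = e a + e b) (g : G) (v : V) :
    rho0 q N e he g v = e (cjN N g (e.symm v)) := rfl

theorem isCyclic_core (hN : N ≠ ⊥) (he : ∀ a b : ↥N, e (a * b) = e a + e b)
    (hab : ∀ a ∈ N, ∀ b ∈ N, a * b = b * a)
    (hmin : ∀ B : Subgroup G, B.Normal → B ≤ N → B = ⊥ ∨ B = N)
    (hquot : IsSupersolvable (G ⧸ N))
    (hA1 : ∀ {H : Type u} [Group H] (f : G →* H), Function.Surjective f → ∀ (p : ℕ), p.Prime →
      ∀ (y : H) (a : ℕ), orderOf y = p ^ a → ∃ x : G, f x = y ∧ ∃ a' : ℕ, orderOf x = p ^ a')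
    (hC : ∀ (p : ℕ), p.Prime → p ≠ q → ∀ (x : G) (a : ℕ), orderOf x = p ^ a →
      ∃ k : ℕ, ∀ n ∈ N, x * (x * n * x⁻¹ * n⁻¹) * x⁻¹ = (x * n * x⁻¹ * n⁻¹) ^ k)
    (hD : ∀ {Γ : Type u} [Group Γ] [Finite Γ] {V : Type u} [AddCommGroup V] [Module (ZMod q) V]
      [Finite V] (ρ : Representation (ZMod q) Γ V), Function.Injective ρ → IsSupersolvable Γ →
      (∀ W : Submodule (ZMod q) V, (∀ g : Γ, ∀ w ∈ W, ρ g w ∈ W) → W = ⊥ ∨ W = ⊤) →
      (∀ (p a : ℕ) (x : Γ), p.Prime → p ≠ q → orderOf x = p ^ a →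
        ∃ c : ZMod q, ∀ v : V, ρ x (ρ x v - v) = c • (ρ x v - v)) →
      ∀ v w : V, v ≠ 0 → ∃ c : ZMod q, w = c • v) : IsCyclic N := by
  classical
  haveI : Finite V := Finite.of_equiv _ e
  set ρ₀ := rho0 q N e he with hρ₀
  -- `N` acts trivially
  have hNker : N ≤ ρ₀.ker := by
    intro n hn
    rw [MonoidHom.mem_ker]
    apply LinearMap.ext
    intro v
    have e1 : ρ₀ n v = e (cjN N n (e.symm v)) := rfl
    have e2 : cjN N n (e.symm v) = e.symm v := by
      apply Subtype.ext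
      rw [cjN_coe, hab n hn _ (e.symm v).2, mul_inv_cancel_right]
    have e3 : e (cjN N n (e.symm v)) = v := by rw [e2, Equiv.apply_symm_apply]
    exact e1.trans e3
  -- the faithful quotient
  let ρ : Representation (ZMod q) (G ⧸ ρ₀.ker) V := QuotientGroup.lift ρ₀.ker ρ₀ le_rfl
  have hρmk' : ∀ (g : G), ρ (QuotientGroup.mk g) = ρ₀ g := fun g =>
    QuotientGroup.lift_mk ρ₀.ker (φ := ρ₀) le_rfl g
  have hρmk : ∀ (g : G) (v : V), ρ (QuotientGroup.mk g) v = e (cjN N g (e.symm v)) := by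
    intro g v
    rw [hρmk' g]
    exact rho0_apply q N e he g v
  have hinj : Function.Injective ρ := by
    intro a b hab'
    obtain ⟨a, rfl⟩ := QuotientGroup.mk_surjective a
    obtain ⟨b, rfl⟩ := QuotientGroup.mk_surjective b
    rw [hρmk', hρmk'] at hab'
    rw [QuotientGroup.eq, MonoidHom.mem_ker, map_mul, ← hab', ← map_mul, inv_mul_cancel, map_one]
  have hsup : IsSupersolvable (G ⧸ ρ₀.ker) := by
    refine Cfsg.Agent.Lib.Helper12.isSupersolvable_of_surjective
      (QuotientGroup.map N ρ₀.ker (MonoidHom.id G) (fun n hn => hNker hn)) ?_ hquot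
    intro y
    obtain ⟨g, rfl⟩ := QuotientGroup.mk_surjective y
    exact ⟨QuotientGroup.mk g, rfl⟩
  -- irreducibility
  have hirr : ∀ W : Submodule (ZMod q) V, (∀ g : G ⧸ ρ₀.ker, ∀ w ∈ W, ρ g w ∈ W) →
      W = ⊥ ∨ W = ⊤ := by
    intro W hW
    let B : Subgroup G :=
      { carrier := {g | ∃ h : g ∈ N, e ⟨g, h⟩ ∈ W}
        one_mem' := ⟨N.one_mem, by
          have : (⟨1, N.one_mem⟩ : ↥N) = 1 := rfl
          rw [this, e_one N e he]; exact W.zero_mem⟩
        mul_mem' := by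
          rintro a b ⟨ha, haW⟩ ⟨hb, hbW⟩
          refine ⟨N.mul_mem ha hb, ?_⟩
          have : (⟨a * b, N.mul_mem ha hb⟩ : ↥N) = ⟨a, ha⟩ * ⟨b, hb⟩ := rfl
          rw [this, he]
          exact W.add_mem haW hbW
        inv_mem' := by
          rintro a ⟨ha, haW⟩
          refine ⟨N.inv_mem ha, ?_⟩
          have : (⟨a⁻¹, N.inv_mem ha⟩ : ↥N) = (⟨a, ha⟩ : ↥N)⁻¹ := rfl
          rw [this, e_inv N e he]
          exact W.neg_mem haW }
    have hBmem : ∀ g : G, g ∈ B ↔ ∃ h : g ∈ N, e ⟨g, h⟩ ∈ W := fun g => Iff.rfl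
    have hBn : B.Normal := by
      constructor
      intro b hb g
      obtain ⟨hbN, hbW⟩ := (hBmem b).mp hb
      refine (hBmem _).mpr ⟨hNn.conj_mem b hbN g, ?_⟩
      have h1 := hW (QuotientGroup.mk g) _ hbW
      rw [hρmk, Equiv.symm_apply_apply] at h1
      exact h1
    have hBN : B ≤ N := fun g hg => ((hBmem g).mp hg).1
    rcases hmin B hBn hBN with hB | hB
    · left
      rw [eq_bot_iff]
      intro w hw
      have h1 : ((e.symm w : ↥N) : G) ∈ B := by
        refine (hBmem _).mpr ⟨(e.symm w).2, ?_⟩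
        have : (⟨((e.symm w : ↥N) : G), (e.symm w).2⟩ : ↥N) = e.symm w := rfl
        rw [this, Equiv.apply_symm_apply]
        exact hw
      rw [hB, Subgroup.mem_bot] at h1
      have h2 : e.symm w = 1 := Subtype.ext h1
      have h3 : w = e 1 := by rw [← h2, Equiv.apply_symm_apply]
      rw [h3, e_one N e he]
      exact Submodule.zero_mem _
    · right
      rw [eq_top_iff]
      intro w _
      have h1 : ((e.symm w : ↥N) : G) ∈ B := by rw [hB]; exact (e.symm w).2
      obtain ⟨h, hw⟩ := (hBmem _).mp h1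
      have : (⟨((e.symm w : ↥N) : G), h⟩ : ↥N) = e.symm w := rfl
      rw [this, Equiv.apply_symm_apply] at hw
      exact hw
  -- quasi-scalar action of prime power elements
  have hqs : ∀ (p a : ℕ) (x : G ⧸ ρ₀.ker), p.Prime → p ≠ q → orderOf x = p ^ a →
      ∃ c : ZMod q, ∀ v : V, ρ x (ρ x v - v) = c • (ρ x v - v) := by
    intro p a x' hp hpq hx'
    obtain ⟨x, hxx', a', hxa'⟩ := hA1 (QuotientGroup.mk' ρ₀.ker)
      (QuotientGroup.mk'_surjective _) p hp x' a hx'
    obtain ⟨k, hk⟩ := hC p hp hpq x a' hxa'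
    refine ⟨(k : ZMod q), ?_⟩
    intro v
    have hx'' : x' = QuotientGroup.mk x := hxx'.symm
    set n : ↥N := e.symm v with hn
    set m : ↥N := cjN N x n * n⁻¹ with hm
    have h0 : ρ x' v = e (cjN N x n) := by rw [hx'', hρmk]
    have h1 : ρ x' v - v = e m := by
      rw [h0, hm, e_div N e he, hn, Equiv.apply_symm_apply]
    have hmG : (m : G) = x * (n : G) * x⁻¹ * (n : G)⁻¹ := rfl
    have h2 : cjN N x m = m ^ k := by
      apply Subtype.ext
      rw [cjN_coe, Subgroup.coe_pow, hmG]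
      exact hk (n : G) n.2
    rw [h1, hx'', hρmk, Equiv.symm_apply_apply, h2, e_pow N e he, Nat.cast_smul_eq_nsmul]
  have hmain := hD ρ hinj hsup hirr hqs
  -- conclusion
  obtain ⟨n₀, hn₀N, hn₀1⟩ : ∃ n₀ ∈ N, n₀ ≠ 1 := by
    by_contra hcon
    push Not at hcon
    apply hN
    rw [eq_bot_iff]
    intro n hn
    rw [Subgroup.mem_bot]
    exact hcon n hn
  have hv₀ : e ⟨n₀, hn₀N⟩ ≠ 0 := by
    intro h0
    rw [← e_one N e he] at h0
    have := e.injective h0
    exact hn₀1 (congrArg Subtype.val this)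
  refine ⟨⟨⟨n₀, hn₀N⟩, ?_⟩⟩
  intro n
  obtain ⟨c, hc⟩ := hmain _ (e n) hv₀
  refine ⟨(c.val : ℤ), ?_⟩
  show (⟨n₀, hn₀N⟩ : ↥N) ^ (c.val : ℤ) = n
  rw [zpow_natCast]
  apply e.injective
  rw [e_pow N e he, hc, ← Nat.cast_smul_eq_nsmul (ZMod q), ZMod.natCast_zmod_val]

end Core

/-- K-S3033-E relative to A1, C and D. -/
theorem isCyclic_of_hyp_of {G : Type u} [Group G] [Finite G] (q : ℕ) [Fact q.Prime]
    (N : Subgroup G) [hNn : N.Normal] (hN : N ≠ ⊥) (hab : ∀ a ∈ N, ∀ b ∈ N, a * b = b * a)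
    (hexp : ∀ a ∈ N, a ^ q = 1)
    (hmin : ∀ B : Subgroup G, B.Normal → B ≤ N → B = ⊥ ∨ B = N)
    (hquot : IsSupersolvable (G ⧸ N))
    (hA1 : ∀ {H : Type u} [Group H] (f : G →* H), Function.Surjective f → ∀ (p : ℕ), p.Prime →
      ∀ (y : H) (a : ℕ), orderOf y = p ^ a → ∃ x : G, f x = y ∧ ∃ a' : ℕ, orderOf x = p ^ a')
    (hC : ∀ (p : ℕ), p.Prime → p ≠ q → ∀ (x : G) (a : ℕ), orderOf x = p ^ a →
      ∃ k : ℕ, ∀ n ∈ N, x * (x * n * x⁻¹ * n⁻¹) * x⁻¹ = (x * n * x⁻¹ * n⁻¹) ^ k)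
    (hD : ∀ {Γ : Type u} [Group Γ] [Finite Γ] {V : Type u} [AddCommGroup V] [Module (ZMod q) V]
      [Finite V] (ρ : Representation (ZMod q) Γ V), Function.Injective ρ → IsSupersolvable Γ →
      (∀ W : Submodule (ZMod q) V, (∀ g : Γ, ∀ w ∈ W, ρ g w ∈ W) → W = ⊥ ∨ W = ⊤) →
      (∀ (p a : ℕ) (x : Γ), p.Prime → p ≠ q → orderOf x = p ^ a →
        ∃ c : ZMod q, ∀ v : V, ρ x (ρ x v - v) = c • (ρ x v - v)) →
      ∀ v w : V, v ≠ 0 → ∃ c : ZMod q, w = c • v) : IsCyclic N := by
  classical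
  letI instC : CommGroup ↥N :=
    { (inferInstance : Group ↥N) with mul_comm := fun a b => Subtype.ext (hab a a.2 b b.2) }
  have hqV : ∀ v : Additive ↥N, q • v = 0 := by
    intro v
    have h1 : (Additive.toMul v) ^ q = 1 := by
      apply Subtype.ext
      have := hexp (Additive.toMul v : ↥N) (Additive.toMul v).2
      simpa using this
    have h2 : q • v = Additive.ofMul ((Additive.toMul v) ^ q) := rfl
    rw [h2, h1]
    rfl
  letI instM : Module (ZMod q) (Additive ↥N) := AddCommGroup.zmodModule hqV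
  exact isCyclic_core q N (Additive.ofMul : ↥N ≃ Additive ↥N) hN (fun a b => rfl) hab hmin hquot
    hA1 hC hD

open Cfsg.Agent.Lib.Helper96.SS33 (Hyp)

/-- K-S3033-E (glue). -/
theorem isCyclic_of_hyp {G : Type u} [Group G] [Finite G] (h : Hyp G) (q : ℕ) [Fact q.Prime]
    (N : Subgroup G) [N.Normal] (hN : N ≠ ⊥) (hab : ∀ a ∈ N, ∀ b ∈ N, a * b = b * a)
    (hexp : ∀ a ∈ N, a ^ q = 1)
    (hmin : ∀ B : Subgroup G, B.Normal → B ≤ N → B = ⊥ ∨ B = N)
    (hquot : IsSupersolvable (G ⧸ N)) : IsCyclic N :=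
  isCyclic_of_hyp_of q N hN hab hexp hmin hquot
    (fun f hf p hp y a hy =>
      Cfsg.Agent.Lib.Helper85.SS33.exists_lift_prime_pow f hf p hp y a hy)
    (fun p hp hpq x a hx =>
      Cfsg.Agent.Lib.Helper78.SS33.conj_comm_eq_pow_of_hyp h q Fact.out N hab hexp p hp hpq x a hx)
    (fun ρ hinj hsup hirr hqs => Cfsg.Agent.Lib.Helper96.SS33.lin_main ρ hinj hsup hirr hqs)

end Cfsg.Agent.Lib.Helper93.SS33
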