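import Cfsg.Agent.Lib.Helper93.Rigid2
import Cfsg.Agent.Lib.Helper93.Chain

/-!
Sifting through a stabiliser chain inside the subgroup of `Cfsg.M24` that maps a set of points
(given by its mask) onto itself: every element of the subgroup moves the next base point to a
point of the set that is not an earlier base point, so it is a table of the transversal times an
element fixing one base point more.
-/

set_option autoImplicit false

namespace Cfsg.Agent.Lib.Helper93

open Cfsg Cfsg.Agent.Lib.Helper10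
open scoped Pointwise

/-- the elements of `M24` mapping the set with mask `S` onto itself and fixing the points with the
indices in `F`. -/
def stabG (S : ℕ) (F : List ℕ) : Subgroup (Equiv.Perm GolayPt) :=
  fixG F ⊓ MulAction.stabilizer (Equiv.Perm GolayPt) (support₂ (vec S))

theorem mem_stabG {S : ℕ} {F : List ℕ} {g : Equiv.Perm GolayPt} :
    g ∈ stabG S F ↔ g ∈ M24 ∧ Inv g S ∧ ∀ i ∈ F, g (pt i) = pt i := by
  unfold stabG
  rw [Subgroup.mem_inf, mem_fixG, MulAction.mem_stabilizer_iff]
  constructor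
  · rintro ⟨⟨h1, h2⟩, h3⟩
    exact ⟨h1, inv_of_smul_support h3, h2⟩
  · rintro ⟨h1, h2, h3⟩
    exact ⟨⟨h1, h3⟩, smul_support_of_inv h2⟩

/-- the table `t` maps the set with mask `S` onto itself. -/
def presOk (S : ℕ) (t : List ℕ) : Bool :=
  (List.range 24).all (fun i => S.testBit (t.getD i 0) == S.testBit i)

theorem inv_tabPerm {S : ℕ} {t tinv : List ℕ} (h : tabOk t tinv = true)
    (hp : presOk S t = true) : Inv (tabPerm t tinv) S := by
  intro p
  rw [idx_tabPerm h]
  have := (List.all_eq_true.mp hp) (idx p) (List.mem_range.mpr (idx_lt p))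
  rwa [beq_iff_eq] at this

/-- the data of one level: the tables (with inverse tables and images of the generating words) lie
in the group, fix the earlier base points, and move the base point `b` to every possible place. -/
def siftOk (S : ℕ) (F : List ℕ) (b : ℕ) (T : List (List ℕ × List ℕ × List ℕ)) : Bool :=
  decide (b < 24) && S.testBit b && !F.contains b && F.all (fun i => decide (i < 24)) &&
  T.all (fun x => tabOk x.1 x.2.1 && imgOk x.1 x.2.2 && presOk S x.1 &&
    F.all (fun i => x.1.getD i 0 == i)) &&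
  (List.range 24).all (fun a => !(S.testBit a && !F.contains a) ||
    T.any (fun x => x.1.getD b 0 == a))

theorem sift_mem {S : ℕ} {F : List ℕ} {b : ℕ} {T : List (List ℕ × List ℕ × List ℕ)}
    (h : siftOk S F b T = true) {x : List ℕ × List ℕ × List ℕ} (hx : x ∈ T) :
    tabOk x.1 x.2.1 = true ∧ tabPerm x.1 x.2.1 ∈ stabG S F := by
  simp only [siftOk, Bool.and_eq_true, decide_eq_true_eq, List.all_eq_true, beq_iff_eq] at h
  obtain ⟨⟨⟨⟨⟨hb, hSb⟩, hbF⟩, hF⟩, hT⟩, hcov⟩ := h
  obtain ⟨⟨⟨h1, h2⟩, h3⟩, h4⟩ := hT x hx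
  refine ⟨h1, ?_⟩
  rw [mem_stabG]
  refine ⟨tabPerm_mem_M24 _ _ _ h1 h2, inv_tabPerm h1 h3, ?_⟩
  intro i hi
  apply idx_injective
  rw [idx_tabPerm h1, idx_pt (hF i hi), h4 i hi]

theorem sift_step {S : ℕ} {F : List ℕ} {b : ℕ} {T : List (List ℕ × List ℕ × List ℕ)}
    (h : siftOk S F b T = true) {g : Equiv.Perm GolayPt} (hg : g ∈ stabG S F) :
    ∃ x ∈ T, (tabPerm x.1 x.2.1)⁻¹ * g ∈ stabG S (b :: F) := by
  have hmem := fun x hx => sift_mem h (x := x) hx
  simp only [siftOk, Bool.and_eq_true, decide_eq_true_eq, List.all_eq_true, beq_iff_eq] at h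
  obtain ⟨⟨⟨⟨⟨hb, hSb⟩, hbF⟩, hF⟩, hT⟩, hcov⟩ := h
  have hg' := mem_stabG.mp hg
  obtain ⟨hgM, hgS, hgF⟩ := hg'
  -- the image of the base point
  have ha := hcov (idx (g (pt b))) (List.mem_range.mpr (idx_lt _))
  have hS' : S.testBit (idx (g (pt b))) = true := by rw [hgS, idx_pt hb]; exact hSb
  have hF' : F.contains (idx (g (pt b))) = false := by
    rw [Bool.eq_false_iff]
    intro hc
    have hc' : idx (g (pt b)) ∈ F := by simpa using hc
    have h1 := hgF _ hc'
    rw [pt_idx] at h1
    have h2 : pt b = g (pt b) := g.injective h1.symm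
    have h3 : b = idx (g (pt b)) := by rw [← h2, idx_pt hb]
    rw [← h3] at hc
    rw [hc] at hbF
    exact absurd hbF (by simp)
  rw [hS', hF'] at ha
  simp only [Bool.not_false, Bool.and_self, Bool.not_true, Bool.false_or, List.any_eq_true,
    beq_iff_eq] at ha
  obtain ⟨x, hx, hxb⟩ := ha
  refine ⟨x, hx, ?_⟩
  obtain ⟨hok, hxm⟩ := hmem x hx
  have hmul : (tabPerm x.1 x.2.1)⁻¹ * g ∈ stabG S F :=
    (stabG S F).mul_mem ((stabG S F).inv_mem hxm) hg
  obtain ⟨h1, h2, h3⟩ := mem_stabG.mp hmul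
  rw [mem_stabG]
  refine ⟨h1, h2, ?_⟩
  intro i hi
  rw [List.mem_cons] at hi
  rcases hi with rfl | hi
  · rw [Equiv.Perm.mul_apply, Equiv.Perm.inv_eq_iff_eq]
    apply idx_injective
    rw [idx_tabPerm hok, idx_pt hb, hxb]
  · exact h3 i hi

end Cfsg.Agent.Lib.Helper93
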