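import Cfsg.Agent.S0695

/-!
A criterion for simplicity: a group with a faithful 3-transitive action on a finite set whose
size is at least 4 and not a power of 2, and with a simple point stabiliser, is simple.
-/

set_option autoImplicit false

namespace Cfsg.Agent.Lib.Helper93

open MulAction

theorem isSimpleGroup_of_stabilizer {G : Type*} [Group G] {X : Type*} [Fintype X] [MulAction G X]
    [FaithfulSMul G X] (h3 : IsMultiplyPretransitive G X 3) (hc : 4 ≤ Fintype.card X)
    (hpow : ∀ m : ℕ, Fintype.card X ≠ 2 ^ m) (x : X)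
    (hs : IsSimpleGroup (stabilizer G x)) : IsSimpleGroup G := by
  classical
  have hnt : Nontrivial G := by
    obtain ⟨a, b, hab⟩ := hs.toNontrivial
    exact ⟨⟨a.1, b.1, fun h => hab (Subtype.ext h)⟩⟩
  have hcard3 : ((3 : ℕ) : ℕ∞) ≤ ENat.card X := by
    rw [ENat.card_eq_coe_fintype_card]
    exact_mod_cast (by omega : 3 ≤ Fintype.card X)
  have h2p : IsMultiplyPreprimitive G X 2 :=
    isMultiplyPreprimitive_of_isMultiplyPretransitive_succ G X (n := 2) hcard3
  have h2t : IsMultiplyPretransitive G X 2 := h2p.isMultiplyPretransitive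
  have hprim : IsPreprimitive G X := isPreprimitive_of_is_two_pretransitive h2t
  refine ⟨fun N hN => ?_⟩
  by_cases hbot : N = ⊥
  · exact Or.inl hbot
  right
  have hfix : fixedPoints N X ≠ Set.univ := by
    intro h
    apply hbot
    rw [Subgroup.eq_bot_iff_forall]
    intro n hn
    apply FaithfulSMul.eq_of_smul_eq_smul (α := X)
    intro y
    rw [one_smul]
    have : y ∈ fixedPoints N X := by rw [h]; exact Set.mem_univ y
    exact this ⟨n, hn⟩
  have htrans : IsPretransitive N X := IsQuasiPreprimitive.isPretransitive_of_normal hfix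
  have hK : (N.subgroupOf (stabilizer G x)).Normal := hN.subgroupOf _
  rcases hs.eq_bot_or_eq_top_of_normal _ hK with hK | hK
  · -- regular normal subgroup
    exfalso
    have hreg : ∀ y : X, stabilizer N y = ⊥ := by
      intro y
      obtain ⟨g, hg⟩ := htrans.exists_smul_eq x y
      rw [Subgroup.eq_bot_iff_forall]
      intro m hm
      have hm' : (m : G) • y = y := hm
      have h1 : (g : G)⁻¹ * m * g ∈ N := N.mul_mem (N.mul_mem (N.inv_mem g.2) m.2) g.2
      have h2 : ((g : G)⁻¹ * m * g) • x = x := by
        have hg' : (g : G) • x = y := hg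
        rw [mul_smul, mul_smul, hg', hm', ← hg', inv_smul_smul]
      have h3 : (⟨(g : G)⁻¹ * m * g, h2⟩ : stabilizer G x) ∈ N.subgroupOf (stabilizer G x) := by
        rw [Subgroup.mem_subgroupOf]
        exact h1
      rw [hK, Subgroup.mem_bot] at h3
      have h4 : (g : G)⁻¹ * m * g = 1 := congrArg Subtype.val h3
      have h5 : (m : G) = 1 := by
        have := congrArg (fun z => (g : G) * z * (g : G)⁻¹) h4
        simpa [mul_assoc] using this
      exact Subtype.ext h5
    rcases Cfsg.Agent.S0695.result (by omega) h2p N htrans hreg with h | ⟨_, _, m, hm⟩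
    · omega
    · exact hpow m hm
  · -- the stabiliser lies in N
    rw [eq_top_iff]
    intro g _
    obtain ⟨n, hn⟩ := htrans.exists_smul_eq x (g • x)
    have hn' : (n : G) • x = g • x := hn
    have h2 : ((n : G)⁻¹ * g) • x = x := by
      rw [mul_smul, ← hn', inv_smul_smul]
    have h3 : (⟨(n : G)⁻¹ * g, h2⟩ : stabilizer G x) ∈ N.subgroupOf (stabilizer G x) := by
      rw [hK]; exact Subgroup.mem_top _
    rw [Subgroup.mem_subgroupOf] at h3
    have h4 : (n : G)⁻¹ * g ∈ N := h3
    have := N.mul_mem n.2 h4
    simpa using this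

end Cfsg.Agent.Lib.Helper93
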