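import Cfsg.Agent.Lib.Helper44.SpUDefs

/-!
# K-SpU2-D (keystone 566509): a split pair `t_{p,-c} t_{r,c}` and a unitary transvection give a pure
symplectic transvection with centre `p - r` (double commutator).
-/

set_option autoImplicit false
set_option linter.unusedSimpArgs false
set_option linter.unusedVariables false
set_option linter.unusedSectionVars false

namespace Cfsg.Agent.Lib.Helper93.SpU

open Matrix Cfsg.Agent.Lib.Helper18 Cfsg.Agent.Lib.Helper11.SpMax Cfsg.Agent.Lib.Helper44.SpU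

variable {F : Type*} [Field F] [Fintype F] {m : ℕ}

local notation "V" => (Fin m ⊕ Fin m → F)
local notation "ff" => Cfsg.sympForm m F
local notation "GLm" => Matrix.GeneralLinearGroup (Fin m ⊕ Fin m) F
local notation "Mat" => Matrix (Fin m ⊕ Fin m) (Fin m ⊕ Fin m) F

/-- four transvections with centres `x' + s_i b` in a totally isotropic plane -/
theorem d_plane_act (x' b : V) (hxb : ff x' b = 0) (s1 s2 s3 s4 t1 t2 t3 t4 : F) (y : V) :
    (tg m (x' + s1 • b) t1 * tg m (x' + s2 • b) t2 * tg m (x' + s3 • b) t3 *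
        tg m (x' + s4 • b) t4).1 *ᵥ y =
      y + (t1 * (ff y x' + s1 * ff y b)) • (x' + s1 • b)
        + (t2 * (ff y x' + s2 * ff y b)) • (x' + s2 • b)
        + (t3 * (ff y x' + s3 * ff y b)) • (x' + s3 • b)
        + (t4 * (ff y x' + s4 * ff y b)) • (x' + s4 • b) := by
  have hbx : ff b x' = 0 := by rw [sf_swap, hxb, neg_zero]
  have hxx : ff x' x' = 0 := sf_self m x'
  have hbb : ff b b = 0 := sf_self m b
  have key : ∀ (s s' : F), ff (x' + s • b) (x' + s' • b) = 0 := by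
    intro s s'
    rw [sf_add_left, sf_add_right, sf_add_right, sf_smul_left, sf_smul_left, sf_smul_right,
      sf_smul_right, hxx, hbb, hxb, hbx]
    ring
  have val : ∀ (z : V) (s : F), ff z (x' + s • b) = ff z x' + s * ff z b := by
    intro z s
    rw [sf_add_right, sf_smul_right]
  rw [gl_mul_act, gl_mul_act, gl_mul_act, tg_act, tg_act, tg_act, tg_act]
  simp only [sf_add_left, sf_smul_left, key, mul_zero, add_zero]
  simp only [val]
  abel

/-- 566509 K-SpU2-D. -/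
theorem tv_of_pair (U : SData m F) (M : Subgroup GLm) (hM : M ≤ Cfsg.spGL m F) (p r x' : V)
    (hpr : ff p r = 0) (hx' : KI U x') (h1 : ff x' p = ff x' r) (h2 : ff x' p ≠ 0)
    (h3 : ff (U.δ *ᵥ x') p = 0) (h4 : ff (U.δ *ᵥ x') r = 0)
    (hZ : ∀ c : F, tg m p (-c) * tg m r c ∈ M) (hQ : ∀ c : F, ut U x' c ∈ M) :
    p - r ∈ XS m M := by
  intro t
  have hrp : ff r p = 0 := by rw [sf_swap, hpr, neg_zero]
  have hZM : tg m p (-1) * tg m r 1 ∈ M := hZ 1
  have hZS : tg m p (-1) * tg m r 1 ∈ Cfsg.spGL m F := hM hZM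
  -- the action of `Z`
  have hZact : ∀ y : V, (tg m p (-1) * tg m r 1).1 *ᵥ y = y - ff y p • p + ff y r • r := by
    intro y
    rw [gl_mul_act, tg_act, tg_act, sf_add_left, sf_smul_left, hrp]
    module
  have hxb : ff x' (p - r) = 0 := by rw [sf_sub_right, h1, sub_self]
  have hbp : ff (p - r) p = 0 := by rw [sf_sub_left, sf_self, hrp, sub_zero]
  have hbr : ff (p - r) r = 0 := by rw [sf_sub_left, hpr, sf_self, sub_zero]
  have hZx : (tg m p (-1) * tg m r 1).1 *ᵥ x' = x' + (-(ff x' p)) • (p - r) := by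
    rw [hZact, ← h1]
    module
  have hZb : (tg m p (-1) * tg m r 1).1 *ᵥ (p - r) = p - r := by
    rw [hZact, hbp, hbr]
    module
  have hZd : (tg m p (-1) * tg m r 1).1 *ᵥ (U.δ *ᵥ x') = U.δ *ᵥ x' := by
    rw [hZact, h3, h4]
    module
  have hZxb : ∀ s : F, (tg m p (-1) * tg m r 1).1 *ᵥ (x' + s • (p - r)) =
      x' + (s - ff x' p) • (p - r) := by
    intro s
    rw [Matrix.mulVec_add, Matrix.mulVec_smul, hZx, hZb]
    module
  -- the parameter
  set μ : F := ff x' p with hμ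
  set e : F := t / (2 * μ ^ 2) with he
  -- first commutator
  have hc1 : tg m (x' + (-μ) • (p - r)) e * tg m x' (-e) ∈ M := by
    have hA : (tg m p (-1) * tg m r 1) * ut U x' e * (tg m p (-1) * tg m r 1)⁻¹ ∈ M :=
      M.mul_mem (M.mul_mem hZM (hQ e)) (M.inv_mem hZM)
    have hB : (tg m p (-1) * tg m r 1) * ut U x' e * (tg m p (-1) * tg m r 1)⁻¹ =
        tg m (x' + (-μ) • (p - r)) e * tg m (U.δ *ᵥ x') (-(e / U.d)) := by
      unfold ut
      rw [← hZx, ← conj_tg m _ hZS x' e]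
      conv_rhs => rw [← hZd, ← conj_tg m _ hZS (U.δ *ᵥ x') (-(e / U.d))]
      group
    rw [hB] at hA
    have hC := M.mul_mem hA (M.inv_mem (hQ e))
    have hD : tg m (x' + (-μ) • (p - r)) e * tg m (U.δ *ᵥ x') (-(e / U.d)) * (ut U x' e)⁻¹ =
        tg m (x' + (-μ) • (p - r)) e * tg m x' (-e) := by
      unfold ut
      rw [← tg_inv m x' e]
      group
    rwa [hD] at hC
  -- second commutator
  have hc2 : (tg m p (-1) * tg m r 1) * (tg m (x' + (-μ) • (p - r)) e * tg m x' (-e)) *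
      (tg m p (-1) * tg m r 1)⁻¹ * (tg m (x' + (-μ) • (p - r)) e * tg m x' (-e))⁻¹ ∈ M :=
    M.mul_mem (M.mul_mem (M.mul_mem hZM hc1) (M.inv_mem hZM)) (M.inv_mem hc1)
  have hE : (tg m p (-1) * tg m r 1) * (tg m (x' + (-μ) • (p - r)) e * tg m x' (-e)) *
      (tg m p (-1) * tg m r 1)⁻¹ * (tg m (x' + (-μ) • (p - r)) e * tg m x' (-e))⁻¹ =
      tg m (x' + (-μ - μ) • (p - r)) e * tg m (x' + (-μ) • (p - r)) (-e) *
        tg m (x' + (0 : F) • (p - r)) e * tg m (x' + (-μ) • (p - r)) (-e) := by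
    have e0 : (tg m p (-1) * tg m r 1) * (tg m (x' + (-μ) • (p - r)) e * tg m x' (-e)) *
        (tg m p (-1) * tg m r 1)⁻¹ * (tg m (x' + (-μ) • (p - r)) e * tg m x' (-e))⁻¹ =
        ((tg m p (-1) * tg m r 1) * tg m (x' + (-μ) • (p - r)) e * (tg m p (-1) * tg m r 1)⁻¹) *
        ((tg m p (-1) * tg m r 1) * tg m x' (-e) * (tg m p (-1) * tg m r 1)⁻¹) *
        (tg m x' (-e))⁻¹ * (tg m (x' + (-μ) • (p - r)) e)⁻¹ := by group
    rw [e0, conj_tg m _ hZS, conj_tg m _ hZS, hZxb, hZx, tg_inv, tg_inv, neg_neg, zero_smul,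
      add_zero]
  rw [hE] at hc2
  have hF : tg m (x' + (-μ - μ) • (p - r)) e * tg m (x' + (-μ) • (p - r)) (-e) *
        tg m (x' + (0 : F) • (p - r)) e * tg m (x' + (-μ) • (p - r)) (-e) = tg m (p - r) t := by
    apply gl_ext
    intro y
    rw [d_plane_act x' (p - r) hxb, tg_act]
    have hμ2 : 2 * μ ^ 2 ≠ 0 := mul_ne_zero U.two (pow_ne_zero 2 h2)
    have het : e * (2 * μ ^ 2) = t := by
      rw [he]; exact div_mul_cancel₀ t hμ2
    rw [← het]
    module
  rw [hF] at hc2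
  exact hc2

end Cfsg.Agent.Lib.Helper93.SpU
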