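import Mathlib
import Cfsg.Agent.Lib.Helper49.StOpDefs

/-!
# K-StOp pack (S2548), leaf F2S (254809): the dichotomy for a monomial matrix and a simple root
`ε_i - ε_{i+1}` (port of `Lib/Helper32/StOF2P.lean`); `_of` version with the statement of R0b
(`mat_xS`) as a hypothesis.
-/

set_option autoImplicit false
set_option linter.unusedSectionVars false
set_option linter.unusedVariables false

namespace Cfsg.Agent.Lib.Helper93.StOp

open Cfsg Cfsg.Agent.Lib.Helper49.StOp Matrix

variable {m : ℕ} {F : Type*} [Field F]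

/-- conjugating by a monomial matrix: it is enough to look at the entries `(σ a, σ b)` -/
theorem f2s_conj_mem_B_of (n X : OG m F) (σ : Equiv.Perm (OI m)) (hn : MonWith m F n σ)
    (h : ∀ a b, pos m b < pos m a → mat X (σ a) (σ b) = 0) :
    n⁻¹ * X * n ∈ Bsub m F := by
  rw [mem_Bsub_iff]
  intro a b hab
  have h1 : n * (n⁻¹ * X * n) = X * n := by group
  have h2 : mat n * mat (n⁻¹ * X * n) = mat X * mat n := by
    rw [← mat_mul, h1, mat_mul]
  have h3 := congrFun (congrFun h2 (σ a)) b
  rw [Matrix.mul_apply, Matrix.mul_apply] at h3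
  rw [Finset.sum_eq_single a, Finset.sum_eq_single (σ b)] at h3
  · rw [h _ _ hab, zero_mul] at h3
    have hne : mat n (σ a) a ≠ 0 := (hn.1 _ _).mpr rfl
    exact (mul_eq_zero.mp h3).resolve_left hne
  · intro q _ hq
    have : mat n q b = 0 := by
      by_contra hne
      exact hq ((hn.1 _ _).mp hne)
    rw [this, mul_zero]
  · intro hh; exact absurd (Finset.mem_univ _) hh
  · intro c _ hc
    have : mat n (σ a) c = 0 := by
      by_contra hne
      exact hc (σ.injective ((hn.1 _ _).mp hne)).symm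
    rw [this, zero_mul]
  · intro hh; exact absurd (Finset.mem_univ _) hh

/-- the off-diagonal entries of a root element `x_{ε_i - ε_j}(t)` -/
theorem f2s_xSMat_apply_eq_zero (i j : Fin m) (t : F) (a b : OI m) (hab : a ≠ b)
    (h1 : ¬ (a = eI i ∧ b = eI j)) (h2 : ¬ (a = fI j ∧ b = fI i)) :
    xSMat m F i j t a b = 0 := by
  unfold xSMat
  rw [Matrix.sub_apply, Matrix.add_apply, Matrix.one_apply_ne hab, Matrix.single_apply,
    Matrix.single_apply, if_neg, if_neg, zero_add, sub_zero]
  · rintro ⟨rfl, rfl⟩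
    exact h2 ⟨rfl, rfl⟩
  · rintro ⟨rfl, rfl⟩
    exact h1 ⟨rfl, rfl⟩

/-- one half of the dichotomy, for arbitrary `i ≠ j` -/
theorem f2s_half (hxS : ∀ (i j : Fin m), i ≠ j → ∀ t : F, mat (xS m F i j t) = xSMat m F i j t)
    (i j : Fin m) (hij : i ≠ j) (n : OG m F)
    (σ : Equiv.Perm (OI m)) (hn : MonWith m F n σ)
    (hlt : pos m (σ.symm (eI i)) < pos m (σ.symm (eI j))) (t : F) :
    n⁻¹ * xS m F i j t * n ∈ Bsub m F := by
  apply f2s_conj_mem_B_of n _ σ hn
  intro a b hab
  rw [hxS i j hij t]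
  have hne : a ≠ b := by
    rintro rfl
    exact lt_irrefl _ hab
  apply f2s_xSMat_apply_eq_zero
  · exact fun e => hne (σ.injective e)
  · rintro ⟨ha, hb⟩
    have ha' : σ.symm (eI i) = a := by rw [← ha, Equiv.symm_apply_apply]
    have hb' : σ.symm (eI j) = b := by rw [← hb, Equiv.symm_apply_apply]
    rw [ha', hb'] at hlt
    exact lt_asymm hlt hab
  · rintro ⟨ha, hb⟩
    have ha' : σ.symm (eI j) = dualE m a := by
      rw [Equiv.symm_apply_eq, hn.2 a, ha, dualE_fI]
    have hb' : σ.symm (eI i) = dualE m b := by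
      rw [Equiv.symm_apply_eq, hn.2 b, hb, dualE_fI]
    rw [ha', hb', pos_dualE, pos_dualE] at hlt
    have h1 := pos_lt m a
    have h2 := pos_lt m b
    omega

/-- **K-StOp leaf F2S**, with the statement of R0b as a hypothesis -/
theorem dich_short_of
    (hxS : ∀ (i j : Fin m), i ≠ j → ∀ t : F, mat (xS m F i j t) = xSMat m F i j t)
    (i : Fin m) (hi : i.val + 1 < m) (n : OG m F)
    (σ : Equiv.Perm (OI m)) (hn : MonWith m F n σ) :
    (∀ t : F, n⁻¹ * xS m F i (nxt i hi) t * n ∈ Bsub m F) ∨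
      (∀ t : F, n⁻¹ * xS m F (nxt i hi) i t * n ∈ Bsub m F) := by
  have hne : pos m (σ.symm (eI i)) ≠ pos m (σ.symm (eI (nxt i hi))) := by
    intro e
    have := σ.symm.injective (pos_injective m e)
    exact ne_nxt i hi (Sum.inl_injective this)
  rcases lt_or_gt_of_ne hne with h | h
  · exact Or.inl fun t => f2s_half hxS i (nxt i hi) (ne_nxt i hi) n σ hn h t
  · exact Or.inr fun t => f2s_half hxS (nxt i hi) i (nxt_ne i hi) n σ hn h t

end Cfsg.Agent.Lib.Helper93.StOp
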