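import Mathlib

/-! Conjugacy, inside a subgroup `C`, of two `p`-subgroups of `C` whose order is the full `p`-part of `card G`
(tool for K-BQS-B57, S3912 pack). -/

set_option autoImplicit false

namespace Cfsg.Agent.Lib.Helper93.SylowConjIn

theorem map_subtype_subgroupOf {G : Type*} [Group G] (C T : Subgroup G) (h : T ≤ C) :
    (T.subgroupOf C).map C.subtype = T := by
  rw [Subgroup.subgroupOf_map_subtype]
  exact inf_eq_left.2 h

theorem card_subgroupOf_of_le {G : Type*} [Group G] (C T : Subgroup G) (h : T ≤ C) :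
    Nat.card (T.subgroupOf C) = Nat.card T :=
  Nat.card_congr (Subgroup.subgroupOfEquivOfLe h).toEquiv

/-- two `p`-subgroups of `C` of order the full `p`-part of `card G` are conjugate by an element of `C`. -/
theorem exists_conj_of_le_of_card {G : Type*} [Group G] [Finite G] {p : ℕ} [Fact p.Prime]
    (C T₁ T₂ : Subgroup G) (h₁ : T₁ ≤ C) (h₂ : T₂ ≤ C)
    (hc₁ : Nat.card T₁ = p ^ (Nat.card G).factorization p)
    (hc₂ : Nat.card T₂ = p ^ (Nat.card G).factorization p) :
    ∃ c ∈ C, T₂ = T₁.map (MulAut.conj c).toMonoidHom := by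
  have hp : p.Prime := Fact.out
  have key : ∀ T : Subgroup G, T ≤ C → Nat.card T = p ^ (Nat.card G).factorization p →
      ∃ P : Sylow p ↥C, (P : Subgroup ↥C) = T.subgroupOf C := by
    intro T hT hcT
    have hpg : IsPGroup p (T.subgroupOf C) := by
      apply IsPGroup.of_card (n := (Nat.card G).factorization p)
      rw [card_subgroupOf_of_le C T hT, hcT]
    obtain ⟨P, hP⟩ := hpg.exists_le_sylow
    refine ⟨P, ?_⟩
    symm
    apply Subgroup.eq_of_le_of_card_ge hP
    rw [card_subgroupOf_of_le C T hT, hcT, P.card_eq_multiplicity]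
    apply Nat.pow_le_pow_right hp.pos
    have hdvd : Nat.card ↥C ∣ Nat.card G := Subgroup.card_subgroup_dvd_card C
    exact (Nat.factorization_le_iff_dvd Nat.card_pos.ne' Nat.card_pos.ne').2 hdvd p
  obtain ⟨P₁, hP₁⟩ := key T₁ h₁ hc₁
  obtain ⟨P₂, hP₂⟩ := key T₂ h₂ hc₂
  obtain ⟨c, hc⟩ := MulAction.exists_smul_eq ↥C P₁ P₂
  refine ⟨c.1, c.2, ?_⟩
  have h3 : (P₂ : Subgroup ↥C) = (P₁ : Subgroup ↥C).map (MulAut.conj c).toMonoidHom := by
    rw [← hc]
    rfl
  rw [← map_subtype_subgroupOf C T₂ h₂, ← hP₂, h3, hP₁, Subgroup.map_map]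
  conv_rhs => rw [← map_subtype_subgroupOf C T₁ h₁, Subgroup.map_map]
  congr 1

end Cfsg.Agent.Lib.Helper93.SylowConjIn
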