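import Mathlib
import Cfsg.Prelude.Def_MonsterType
import Cfsg.Agent.Lib.Helper93.TvcData
import Cfsg.Agent.Lib.Helper93.TvcAssemble
import Cfsg.Agent.S5420

/-!
From the structure `2^{1+2n} : SL(n, 2)` of the centraliser of an involution `z` lying in the largest
normal `2`-subgroup of the group, to the statement that the largest normal `2`-subgroup of the
centraliser is a large extraspecial subgroup. The centraliser is given as a subgroup `C` with a
membership criterion.
-/

set_option autoImplicit false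

namespace Cfsg.Agent.Lib.Helper93

theorem tvc_assemble_core {G : Type*} [Group G] [Finite G] (z : G) (hz : orderOf z = 2) (n : ℕ)
    (hn : 1 ≤ n) (C : Subgroup G) (memC : ∀ x : G, x ∈ C ↔ z * x = x * z) (D : TvcData n ↥C)
    (hzO : z ∈ Cfsg.pCore 2 G)
    (Q : Subgroup G) (hQ : Q = (Cfsg.pCore 2 ↥C).map C.subtype) :
    Cfsg.IsExtraspecial 2 ↥Q ∧ Nat.card ↥Q = 2 ^ (2 * n + 1) ∧
      (∃ E : Subgroup G, E ≤ Q ∧ Cfsg.IsElementaryAbelian 2 E ∧ Nat.card ↥E = 2 ^ (n + 1)) ∧
      Cfsg.IsLargeExtraspecial Q ∧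
      ∃ K : Subgroup G, K ≤ C ∧ Q ⊓ K = ⊥ ∧ Q ⊔ K = C ∧
        Nonempty (↥K ≃* Matrix.SpecialLinearGroup (Fin n) (ZMod 2)) := by
  subst hQ
  set Qc := Cfsg.pCore 2 ↥C with hQc
  have hinj : Function.Injective C.subtype := C.subtype_injective
  have hQC : Qc.map C.subtype ≤ C := by
    rintro x ⟨y, _, rfl⟩
    exact y.2
  let eQ : ↥Qc ≃* ↥(Qc.map C.subtype) := Qc.equivMapOfInjective C.subtype hinj
  have h1 : Cfsg.IsExtraspecial 2 ↥(Qc.map C.subtype) :=
    isExtraspecial_of_mulEquiv eQ (D.pCore_extraspecial hn)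
  have h2 : Nat.card ↥(Qc.map C.subtype) = 2 ^ (2 * n + 1) := by
    rw [← Nat.card_congr eQ.toEquiv, D.pCore_card]
  -- the elementary abelian subgroup
  have h3 : ∃ E : Subgroup G, E ≤ Qc.map C.subtype ∧ Cfsg.IsElementaryAbelian 2 E ∧
      Nat.card ↥E = 2 ^ (n + 1) := by
    obtain ⟨E, hE1, ⟨⟨⟨hc⟩⟩, he⟩, hE3⟩ := D.exists_elementaryAbelian
    refine ⟨E.map C.subtype, Subgroup.map_mono hE1, ⟨⟨⟨?_⟩⟩, ?_⟩, ?_⟩
    · rintro ⟨x, a, ha, rfl⟩ ⟨y, b, hb, rfl⟩
      apply Subtype.ext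
      have := congrArg Subtype.val (hc ⟨a, ha⟩ ⟨b, hb⟩)
      simp only [Subgroup.coe_mul] at this
      show C.subtype a * C.subtype b = C.subtype b * C.subtype a
      rw [← map_mul, ← map_mul, this]
    · rintro x ⟨a, ha, rfl⟩
      rw [← map_pow, he a ha, map_one]
    · rw [Subgroup.card_map_of_injective hinj, hE3]
  -- the complement
  have h5 : ∃ K : Subgroup G, K ≤ C ∧ Qc.map C.subtype ⊓ K = ⊥ ∧ Qc.map C.subtype ⊔ K = C ∧
      Nonempty (↥K ≃* Matrix.SpecialLinearGroup (Fin n) (ZMod 2)) := by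
    obtain ⟨K, hK1, hK2, ⟨e⟩⟩ := D.exists_complement
    refine ⟨K.map C.subtype, ?_, ?_, ?_, ⟨?_⟩⟩
    · rintro x ⟨y, _, rfl⟩
      exact y.2
    · rw [← Subgroup.map_inf _ _ _ hinj, hK1, Subgroup.map_bot]
    · rw [← Subgroup.map_sup, hK2, ← MonoidHom.range_eq_map, Subgroup.range_subtype]
    · exact (K.equivMapOfInjective C.subtype hinj).symm.trans e
  -- `z` lies in the centre of `Q`
  have hzC : z ∈ C := (memC z).mpr rfl
  have hzQc : (⟨z, hzC⟩ : ↥C) ∈ Qc := by
    have hcen : ∀ c : ↥C, c * ⟨z, hzC⟩ = ⟨z, hzC⟩ * c := by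
      intro c
      apply Subtype.ext
      exact ((memC c.1).mp c.2).symm
    have hnorm : (Subgroup.zpowers (⟨z, hzC⟩ : ↥C)).Normal := by
      constructor
      rintro x ⟨k, rfl⟩ c
      have hcm : Commute c (⟨z, hzC⟩ : ↥C) := hcen c
      have := (hcm.zpow_right k).eq
      rw [this, mul_inv_cancel_right]
      exact ⟨k, rfl⟩
    have hp : IsPGroup 2 ↥(Subgroup.zpowers (⟨z, hzC⟩ : ↥C)) := by
      apply IsPGroup.of_card (n := 1)
      rw [Nat.card_zpowers, pow_one, ← hz]
      exact (Subgroup.orderOf_coe (⟨z, hzC⟩ : ↥C)).symm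
    exact Cfsg.Agent.Lib.Helper01.le_pCore hnorm hp (Subgroup.mem_zpowers _)
  have hzQ : z ∈ Qc.map C.subtype := ⟨⟨z, hzC⟩, hzQc, rfl⟩
  have hzcen : (⟨z, hzQ⟩ : ↥(Qc.map C.subtype)) ∈ Subgroup.center ↥(Qc.map C.subtype) := by
    rw [Subgroup.mem_center_iff]
    intro y
    apply Subtype.ext
    exact ((memC y.1).mp (hQC y.2)).symm
  have hZ : (Subgroup.center ↥(Qc.map C.subtype)).map (Qc.map C.subtype).subtype =
      Subgroup.zpowers z := by
    symm
    apply Subgroup.eq_of_le_of_card_ge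
    · rw [Subgroup.zpowers_le]
      exact ⟨⟨z, hzQ⟩, hzcen, rfl⟩
    · rw [Subgroup.card_map_of_injective (Subgroup.subtype_injective _), h1.2, Nat.card_zpowers, hz]
  -- conjugation by elements of `C` preserves `Q`
  have hconj : ∀ c ∈ C, ∀ h ∈ Qc.map C.subtype, c * h * c⁻¹ ∈ Qc.map C.subtype := by
    rintro c hc h ⟨y, hy, rfl⟩
    have hnorm : Qc.Normal := Cfsg.Agent.Lib.Helper01.pCore_normal 2
    exact ⟨⟨c, hc⟩ * y * ⟨c, hc⟩⁻¹, hnorm.conj_mem y hy ⟨c, hc⟩, rfl⟩
  have hL2 : Subgroup.centralizer ((Qc.map C.subtype : Subgroup G) : Set G) =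
      (Subgroup.center ↥(Qc.map C.subtype)).map (Qc.map C.subtype).subtype := by
    ext x
    constructor
    · intro hx
      rw [Subgroup.mem_centralizer_iff] at hx
      have hxC : x ∈ C := (memC x).mpr (hx z hzQ)
      have hxc : (⟨x, hxC⟩ : ↥C) ∈ Subgroup.centralizer (Qc : Set ↥C) := by
        rw [Subgroup.mem_centralizer_iff]
        intro y hy
        apply Subtype.ext
        exact hx y.1 ⟨y, hy, rfl⟩
      have hxQc := D.centralizer_pCore_le hxc
      have hxQ : x ∈ Qc.map C.subtype := ⟨⟨x, hxC⟩, hxQc, rfl⟩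
      refine ⟨⟨x, hxQ⟩, ?_, rfl⟩
      rw [SetLike.mem_coe, Subgroup.mem_center_iff]
      intro y
      apply Subtype.ext
      exact hx y.1 y.2
    · rintro ⟨⟨x, hxQ⟩, hc, rfl⟩
      rw [Subgroup.mem_centralizer_iff]
      intro y hy
      have := (Subgroup.mem_center_iff.mp hc) ⟨y, hy⟩
      exact congrArg Subtype.val this
  have hL3 : Subgroup.centralizer (((Subgroup.center ↥(Qc.map C.subtype)).map
      (Qc.map C.subtype).subtype : Subgroup G) : Set G) ≤
      Subgroup.normalizer ((Qc.map C.subtype : Subgroup G) : Set G) := by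
    rw [hZ]
    intro x hx
    rw [Subgroup.mem_centralizer_iff] at hx
    have hxC : x ∈ C := (memC x).mpr (hx z (Subgroup.mem_zpowers z))
    rw [Subgroup.mem_normalizer_iff]
    intro h
    constructor
    · exact hconj x hxC h
    · intro hh
      have := hconj x⁻¹ (C.inv_mem hxC) _ hh
      simpa [mul_assoc] using this
  have hZ' : (Subgroup.center ↥(Qc.map C.subtype)).map (Qc.map C.subtype).subtype ≤
      Cfsg.pCore 2 G := by
    rw [hZ, Subgroup.zpowers_le]
    exact hzO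
  have h4 := Cfsg.Agent.S5420.result (Qc.map C.subtype) h1 hL2 hL3 hZ'
  exact ⟨h1, h2, h3, h4, h5⟩

/-- over the field with two elements the special linear group is the general linear group. -/
noncomputable def slEquivGLTwo (n : ℕ) :
    Matrix.SpecialLinearGroup (Fin n) (ZMod 2) ≃* Matrix.GeneralLinearGroup (Fin n) (ZMod 2) :=
  MulEquiv.ofBijective Matrix.SpecialLinearGroup.toGL (by
    constructor
    · exact Matrix.SpecialLinearGroup.toGL_injective
    · intro A
      have hd : (A : Matrix (Fin n) (Fin n) (ZMod 2)).det = 1 := by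
        have h1 : Matrix.GeneralLinearGroup.det A = 1 := Subsingleton.elim _ _
        have h2 := congrArg Units.val h1
        exact h2
      refine ⟨⟨(A : Matrix (Fin n) (Fin n) (ZMod 2)), hd⟩, ?_⟩
      apply Units.ext
      rfl)

end Cfsg.Agent.Lib.Helper93
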