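import Mathlib
import Cfsg.Agent.Lib.Helper73.UCDefs
import Cfsg.Agent.Lib.Helper49.UnipCentralizer

/-!
# K-UC-C2b (keystone 264614): the number of non-top coefficient indices is `gam d`
-/

set_option autoImplicit false

namespace Cfsg.Agent.Lib.Helper93.UC

open Matrix Cfsg.Agent.Lib.Helper73.UC

theorem card_CIdx {t : ℕ} (d : Fin t → ℕ) :
    Fintype.card (CIdx d) = ∑ l : Fin t, ∑ k : Fin t, min (d l) (d k) := by
  rw [Fintype.card_sigma]
  apply Finset.sum_congr rfl
  intro l _
  rw [Fintype.card_sigma]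
  apply Finset.sum_congr rfl
  intro k _
  exact Fintype.card_fin _

open scoped Classical in
theorem card_isTop {t : ℕ} (d : Fin t → ℕ) (hd : ∀ k, 1 ≤ d k) :
    Fintype.card {p : CIdx d // IsTop d p} =
      ∑ k : Fin t, ∑ l : Fin t, if d l = d k then 1 else 0 := by
  have e : Fintype.card {p : CIdx d // IsTop d p} =
      Fintype.card {q : Fin t × Fin t // d q.1 = d q.2} := by
    apply Fintype.card_congr
    refine Equiv.ofBijective (fun p => ⟨(p.1.1, p.1.2.1), p.2.1⟩) ⟨?_, ?_⟩
    · rintro ⟨⟨l, k, s⟩, h⟩ ⟨⟨l', k', s'⟩, h'⟩ heq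
      simp only [Subtype.mk.injEq, Prod.mk.injEq] at heq
      obtain ⟨rfl, rfl⟩ := heq
      have hs : s = s' := by
        apply Fin.ext
        have h1 := h.2
        have h2 := h'.2
        simp only at h1 h2
        omega
      subst hs
      rfl
    · rintro ⟨⟨l, k⟩, h⟩
      simp only at h
      refine ⟨⟨⟨l, k, ⟨d k - 1, ?_⟩⟩, ⟨h, ?_⟩⟩, rfl⟩
      · have := hd k
        rw [h, min_self]
        omega
      · have := hd k
        simp only
        omega
  rw [e, Fintype.card_subtype, Finset.card_filter, Fintype.sum_prod_type, Finset.sum_comm]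

/-- LEAF C2b. -/
theorem card_nonTop {t : ℕ} (d : Fin t → ℕ) (hd : ∀ k, 1 ≤ d k) :
    Nat.card {p : CIdx d // ¬ IsTop d p} = gam d := by
  classical
  rw [Nat.card_eq_fintype_card, Fintype.card_subtype_compl, card_CIdx, card_isTop d hd]
  have hsum : ∑ l : Fin t, ∑ k : Fin t, min (d l) (d k) =
      ((∑ k : Fin t, ∑ l : Fin t, if d l < d k then 1 else 0) +
        ∑ k : Fin t, ∑ l : Fin t, if d l ≤ d k then d l - 1 else d k) +
      ∑ k : Fin t, ∑ l : Fin t, if d l = d k then 1 else 0 := by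
    rw [Finset.sum_comm, ← Finset.sum_add_distrib, ← Finset.sum_add_distrib]
    apply Finset.sum_congr rfl
    intro k _
    rw [← Finset.sum_add_distrib, ← Finset.sum_add_distrib]
    apply Finset.sum_congr rfl
    intro l _
    have := hd l
    have := hd k
    split_ifs <;> omega
  rw [hsum, Nat.add_sub_cancel, ← Cfsg.Agent.Lib.Helper49.card_jb_lt d,
    ← Cfsg.Agent.Lib.Helper49.card_JPos d hd]
  exact Cfsg.Agent.Lib.Helper49.exponent_eq d hd

end Cfsg.Agent.Lib.Helper93.UC
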